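import Mathlib
import Groth.Agent.Lib.Helper6.Cov1

/-!
# Finite morphisms of integral curves: dominance, flatness over Dedekind charts and the generic rank.
-/

set_option autoImplicit false
set_option linter.style.haveILetI false
universe u
open CategoryTheory CategoryTheory.Limits AlgebraicGeometry TopologicalSpace Opposite

namespace Groth.Agent.H5.Gro.HypDom

section Top

variable {X Y : Type*} [TopologicalSpace X] [TopologicalSpace Y]

/-- the closure of a point as an irreducible closed subset. -/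
def cl (y : Y) : IrreducibleCloseds Y :=
  ⟨closure {y}, isIrreducible_singleton.closure, isClosed_closure⟩

lemma cl_lt [T0Space Y] {a b : Y} (h : a ⤳ b) (hne : a ≠ b) : cl b < cl a := by
  refine lt_of_le_of_ne ?_ ?_
  · change closure {b} ⊆ closure {a}
    exact h.closure_subset  
  · intro he
    apply hne
    have : closure ({b} : Set Y) = closure {a} := congrArg (fun Z : IrreducibleCloseds Y => (Z : Set Y)) he
    exact ((inseparable_iff_closure_eq.mpr this).eq).symm

/-- a continuous map with discrete fibres from an irreducible space of dimension at least one to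
an irreducible space of dimension at most one maps the generic point to the generic point. -/
theorem map_genericPoint_eq [IrreducibleSpace X] [QuasiSober X] [T0Space X]
    [IrreducibleSpace Y] [QuasiSober Y] [T0Space Y]
    (f : X → Y) (hf : Continuous f) (hfib : ∀ y, IsDiscrete (f ⁻¹' {y}))
    (hX : 1 ≤ topologicalKrullDim X) (hY : topologicalKrullDim Y ≤ 1) :
    f (genericPoint X) = genericPoint Y := by
  obtain ⟨Z₀, Z₁, hlt⟩ := Order.one_le_krullDim_iff.mp hX
  obtain ⟨a₀, ha₀⟩ := QuasiSober.sober Z₀.2 Z₀.3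
  obtain ⟨a₁, ha₁⟩ := QuasiSober.sober Z₁.2 Z₁.3
  have hs : a₁ ⤳ a₀ := by
    rw [specializes_iff_mem_closure, ha₁.def]
    exact hlt.le (ha₀.mem)
  have hne : a₁ ≠ a₀ := by
    rintro rfl
    have : (Z₀ : Set X) = Z₁ := ha₀.def.symm.trans ha₁.def
    exact hlt.ne (IrreducibleCloseds.ext this)
  have hs' : f a₁ ⤳ f a₀ := hs.map hf
  have hne' : f a₁ ≠ f a₀ := by
    intro he
    haveI : DiscreteTopology (f ⁻¹' {f a₀}) := (hfib (f a₀)).to_subtype
    have h1 : (⟨a₁, he⟩ : f ⁻¹' {f a₀}) ⤳ ⟨a₀, rfl⟩ :=
      Topology.IsInducing.subtypeVal.specializes_iff.mp hs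
    have h2 := h1.eq
    exact hne (congrArg Subtype.val h2)
  have hξ : f a₁ = genericPoint Y := by
    by_contra hne''
    have h1 : genericPoint Y ⤳ f a₁ := genericPoint_specializes _
    have c1 : cl (f a₀) < cl (f a₁) := cl_lt hs' hne'
    have c2 : cl (f a₁) < cl (genericPoint Y) := cl_lt h1 (Ne.symm hne'')
    let p : LTSeries (IrreducibleCloseds Y) :=
      ((RelSeries.singleton _ (cl (f a₀))).snoc (cl (f a₁)) c1).snoc (cl (genericPoint Y)) (by
        simpa using c2)
    have hp : (p.length : WithBot ℕ∞) ≤ topologicalKrullDim Y := Order.LTSeries.length_le_krullDim p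
    have hp2 : p.length = 2 := by simp [p]
    rw [hp2] at hp
    have := hp.trans hY
    norm_cast at this
  have h3 : f (genericPoint X) ⤳ f a₁ := (genericPoint_specializes a₁).map hf
  rw [hξ] at h3
  exact (h3.antisymm (genericPoint_specializes _)).eq

end Top


section Sch

variable {X Y : Scheme.{u}}

/-- a finite morphism from an integral scheme of dimension at least one to an integral scheme of
dimension at most one maps the generic point to the generic point. -/
theorem map_genericPoint_eq_of_isFinite [IsIntegral X] [IsIntegral Y] (f : X ⟶ Y) [IsFinite f]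
    (hX : 1 ≤ topologicalKrullDim X) (hY : topologicalKrullDim Y ≤ 1) :
    f (genericPoint X) = genericPoint Y :=
  map_genericPoint_eq f f.continuous (fun y => f.isDiscrete_preimage_singleton y) hX hY

/-- if the map on sections over a nonempty open is taken along a morphism of integral schemes
mapping the generic point to the generic point, it is injective. -/
theorem app_injective_of_dominant [IsIntegral X] [IsIntegral Y] (f : X ⟶ Y)
    (hgen : f (genericPoint X) = genericPoint Y) (V : Y.Opens) :
    Function.Injective (f.app V).hom := by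
  rw [injective_iff_map_eq_zero]
  intro a ha
  by_contra hne
  have h1 : Y.basicOpen a ≠ ⊥ := fun h => hne ((basicOpen_eq_bot_iff a).mp h)
  have h2 : genericPoint Y ∈ Y.basicOpen a := by
    refine ((genericPoint_spec Y).mem_open_set_iff (Y.basicOpen a).isOpen).mpr ?_
    rw [Set.univ_inter]
    by_contra hemp
    apply h1
    ext x
    simp only [Opens.coe_bot, Set.mem_empty_iff_false, iff_false]
    intro hx
    exact hemp ⟨x, hx⟩
  have h3 : genericPoint X ∈ f ⁻¹ᵁ Y.basicOpen a := by
    change f (genericPoint X) ∈ Y.basicOpen a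
    rw [hgen]; exact h2
  rw [Scheme.preimage_basicOpen, ha, Scheme.basicOpen_zero] at h3
  exact h3

/-- the residue map of a local ring which is a field is bijective. -/
lemma residue_bijective_of_isField (R : Type*) [CommRing R] [IsLocalRing R] (h : IsField R) :
    Function.Bijective (IsLocalRing.residue R) := by
  refine ⟨?_, IsLocalRing.residue_surjective⟩
  rw [injective_iff_map_eq_zero]
  intro a ha
  rw [IsLocalRing.residue_eq_zero_iff, IsLocalRing.isField_iff_maximalIdeal_eq.mp h] at ha
  exact ha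

lemma isField_stalk_of_eq_genericPoint [IsIntegral Y] (y : Y) (hy : y = genericPoint Y) :
    IsField (Y.presheaf.stalk y) := by
  subst hy
  exact Field.toIsField Y.functionField

lemma isFractionRing_stalk_of_eq_genericPoint [IsIntegral Y] (V : Y.Opens) (hV : IsAffineOpen V)
    (y : Y) (hy : y = genericPoint Y) (hyV : y ∈ V) :
    @IsFractionRing Γ(Y, V) _ (Y.presheaf.stalk y) _ (Y.presheaf.germ V y hyV).hom.toAlgebra := by
  subst hy
  haveI : Nonempty V := ⟨⟨_, hyV⟩⟩
  exact functionField_isFractionRing_of_isAffineOpen Y V hV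

/-- the generic rank of a dominant affine morphism of integral schemes. -/
theorem finrank_app_eq_residueDegree [IsIntegral X] [IsIntegral Y] (f : X ⟶ Y) [IsAffineHom f]
    (hgen : f (genericPoint X) = genericPoint Y) (V : Y.Opens) (hV : IsAffineOpen V)
    (hηV : f (genericPoint X) ∈ V) :
    letI := (f.app V).hom.toAlgebra
    Module.finrank Γ(Y, V) Γ(X, f ⁻¹ᵁ V) = f.residueDegree (genericPoint X) := by
  letI a1 : Algebra Γ(Y, V) Γ(X, f ⁻¹ᵁ V) := (f.app V).hom.toAlgebra
  letI a2 : Algebra Γ(X, f ⁻¹ᵁ V) (X.presheaf.stalk (genericPoint X)) :=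
    (X.presheaf.germ (f ⁻¹ᵁ V) (genericPoint X) hηV).hom.toAlgebra
  letI a3 : Algebra Γ(Y, V) (Y.presheaf.stalk (f (genericPoint X))) :=
    (Y.presheaf.germ V (f (genericPoint X)) hηV).hom.toAlgebra
  letI a4 : Algebra (Y.presheaf.stalk (f (genericPoint X))) (X.presheaf.stalk (genericPoint X)) :=
    (f.stalkMap (genericPoint X)).hom.toAlgebra
  letI a5 : Algebra Γ(Y, V) (X.presheaf.stalk (genericPoint X)) :=
    ((algebraMap Γ(X, f ⁻¹ᵁ V) (X.presheaf.stalk (genericPoint X))).comp
      (algebraMap Γ(Y, V) Γ(X, f ⁻¹ᵁ V))).toAlgebra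
  haveI t1 : IsScalarTower Γ(Y, V) Γ(X, f ⁻¹ᵁ V) (X.presheaf.stalk (genericPoint X)) :=
    IsScalarTower.of_algebraMap_eq (fun _ => rfl)
  haveI t2 : IsScalarTower Γ(Y, V) (Y.presheaf.stalk (f (genericPoint X)))
      (X.presheaf.stalk (genericPoint X)) := by
    refine IsScalarTower.of_algebraMap_eq (fun a => ?_)
    exact (Scheme.Hom.germ_stalkMap_apply f V (genericPoint X) hηV a).symm
  haveI f1 : IsFractionRing Γ(Y, V) (Y.presheaf.stalk (f (genericPoint X))) :=
    isFractionRing_stalk_of_eq_genericPoint V hV _ hgen hηV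
  haveI : Nonempty (f ⁻¹ᵁ V) := ⟨⟨_, hηV⟩⟩
  haveI f2 : IsFractionRing Γ(X, f ⁻¹ᵁ V) (X.presheaf.stalk (genericPoint X)) :=
    functionField_isFractionRing_of_isAffineOpen X (f ⁻¹ᵁ V) (hV.preimage f)
  have h1 := IsFractionRing.finrank_eq Γ(Y, V) (Y.presheaf.stalk (f (genericPoint X)))
    Γ(X, f ⁻¹ᵁ V) (X.presheaf.stalk (genericPoint X))
  rw [← h1]
  have hK := isField_stalk_of_eq_genericPoint (f (genericPoint X)) hgen
  have hL : IsField (X.presheaf.stalk (genericPoint X)) := Field.toIsField X.functionField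
  let i : (Y.presheaf.stalk (f (genericPoint X))) ≃+* Y.residueField (f (genericPoint X)) :=
    RingEquiv.ofBijective (IsLocalRing.residue _) (residue_bijective_of_isField _ hK)
  let j : (X.presheaf.stalk (genericPoint X)) ≃+* X.residueField (genericPoint X) :=
    RingEquiv.ofBijective (IsLocalRing.residue _) (residue_bijective_of_isField _ hL)
  letI a6 : Algebra (Y.residueField (f (genericPoint X))) (X.residueField (genericPoint X)) :=
    (f.residueFieldMap (genericPoint X)).hom.toAlgebra
  refine Algebra.finrank_eq_of_equiv_equiv i j ?_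
  ext z
  exact congr($(Scheme.residue_residueFieldMap f (genericPoint X)) z)

/-- a dominant affine morphism of integral schemes to a scheme covered by spectra of Dedekind
domains is flat. -/
theorem flat_of_dedekind_charts [IsIntegral X] [IsIntegral Y] (f : X ⟶ Y) [IsAffineHom f]
    (hgen : f (genericPoint X) = genericPoint Y)
    (hcov : ∀ y : Y, ∃ V : Y.Opens, IsAffineOpen V ∧ y ∈ V ∧ IsDedekindDomain Γ(Y, V)) :
    Flat f := by
  rw [HasRingHomProperty.iff_exists_appLE (P := @Flat)
    (RingHom.Flat.stableUnderComposition.stableUnderCompositionWithLocalizationAway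
      RingHom.Flat.holdsForLocalizationAway).left]
  intro x
  obtain ⟨V, hV, hxV, hD⟩ := hcov (f x)
  refine ⟨⟨V, hV⟩, ⟨f ⁻¹ᵁ V, hV.preimage f⟩, hxV, le_rfl, ?_⟩
  rw [← Scheme.Hom.app_eq_appLE]
  haveI : Nonempty (f ⁻¹ᵁ V) := ⟨⟨x, hxV⟩⟩
  haveI : IsDomain Γ(X, f ⁻¹ᵁ V) := inferInstance
  letI : Algebra Γ(Y, V) Γ(X, f ⁻¹ᵁ V) := (f.app V).hom.toAlgebra
  haveI : Module.IsTorsionFree Γ(Y, V) Γ(X, f ⁻¹ᵁ V) :=
    Module.isTorsionFree_iff_algebraMap_injective.mpr (app_injective_of_dominant f hgen V)
  change Module.Flat Γ(Y, V) Γ(X, f ⁻¹ᵁ V)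
  infer_instance

/-- the rank of a finite dominant morphism of integral schemes at a point of a principal chart
is the generic degree. -/
theorem finrank_eq_residueDegree [IsIntegral X] [IsIntegral Y] (f : X ⟶ Y) [IsFinite f] [Flat f]
    (hgen : f (genericPoint X) = genericPoint Y) (V : Y.Opens) (hV : IsAffineOpen V)
    (hP : IsPrincipalIdealRing Γ(Y, V)) (y : Y) (hy : y ∈ V) :
    f.finrank y = f.residueDegree (genericPoint X) := by
  obtain ⟨z, hz⟩ : y ∈ Set.range hV.fromSpec.base := by rw [hV.range_fromSpec]; exact hy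
  have hpb := Groth.Agent.H6.Cov.isPullback_affine f V hV
  have h1 := Scheme.Hom.finrank_of_isPullback _ _ _ _ hpb z
  have hfin : (f.app V).hom.Finite := f.finite_app V hV
  have hflat : (f.app V).hom.Flat := by
    have := HasRingHomProperty.appLE (P := @Flat) f inferInstance ⟨V, hV⟩
      ⟨f ⁻¹ᵁ V, hV.preimage f⟩ le_rfl
    rwa [← Scheme.Hom.app_eq_appLE] at this
  have hηV : f (genericPoint X) ∈ V := by
    rw [hgen]
    refine ((genericPoint_spec Y).mem_open_set_iff V.isOpen).mpr ⟨y, trivial, hy⟩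
  rw [← hz, ← h1, Scheme.Hom.finrank_SpecMap_eq_finrank hfin hflat,
    ← finrank_app_eq_residueDegree f hgen V hV hηV]
  letI : Algebra Γ(Y, V) Γ(X, f ⁻¹ᵁ V) := (f.app V).hom.toAlgebra
  change Module.rankAtStalk Γ(X, f ⁻¹ᵁ V) z = _
  haveI : Nonempty V := ⟨⟨y, hy⟩⟩
  haveI : Nonempty (f ⁻¹ᵁ V) := ⟨⟨_, hηV⟩⟩
  haveI : IsDomain Γ(X, f ⁻¹ᵁ V) := inferInstance
  haveI : IsDomain Γ(Y, V) := inferInstance
  haveI : Module.IsTorsionFree Γ(Y, V) Γ(X, f ⁻¹ᵁ V) :=
    Module.isTorsionFree_iff_algebraMap_injective.mpr (app_injective_of_dominant f hgen V)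
  haveI : Module.Finite Γ(Y, V) Γ(X, f ⁻¹ᵁ V) := hfin
  haveI : Module.Free Γ(Y, V) Γ(X, f ⁻¹ᵁ V) := Module.free_of_finite_type_torsion_free'
  rw [Module.rankAtStalk_eq_finrank_of_free]
  rfl

end Sch

end Groth.Agent.H5.Gro.HypDom
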