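import Mathlib
import Groth.Agent.Lib.Helper5.Curve6.P1Deg
import Groth.Agent.Lib.Helper5.Curve6.GGQ
import Groth.Agent.Lib.Helper5.Curve4.HN1
import Groth.Agent.Lib.Helper5.Eig.Simple1
import Groth.Agent.Lib.Lead.PN.ExtSplit
import Groth.Agent.H4.ProjSmooth
import Groth.Agent.Lib.Helper5.AG.ProjProper

/-!
# Vector bundles on the projective line, I: maps from twisting sheaves, the Picard group.
-/

set_option autoImplicit false
universe u
open CategoryTheory CategoryTheory.Limits AlgebraicGeometry TopologicalSpace Opposite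

namespace Groth.Agent.H5.Gro

open Groth.Agent.LD Groth.Agent.LD.QC Groth.Agent.H5.Curve2 Groth.Agent.H5.Curve4
  Groth.Agent.H5.Curve6 Groth.Agent.H5.DegC Twist Groth.Agent.LD.TW Groth.Agent.LD.PN

variable (k : Type u) [Field k]

/-- the projective line. -/
noncomputable abbrev P1 : Scheme.{u} := CohB1.ProjSpace 1 k

/-- the twisting sheaves. -/
noncomputable abbrev O (d : ℤ) : (P1 k).Modules := Twist.twistProjSpace 1 k d

instance : IsProper (P1 k ↘ Spec (CommRingCat.of k)) := Groth.Agent.H5.AG.isProper_toSpec 1 k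

instance : Smooth (P1 k ↘ Spec (CommRingCat.of k)) := Groth.Agent.H4.ProjSmooth.smooth_toSpec 1 k

instance : IsIntegral (P1 k) := isIntegral_projSpace k 1

lemma dim_P1 : topologicalKrullDim (P1 k) ≤ 1 := by
  rw [Groth.Agent.H5.IntN.dim_projSpace]; rfl

lemma isInv_O (d : ℤ) : PicF.IsInvertible (O k d) := isInvertible_twistProjSpace k 1 d

lemma rank_O (d : ℤ) : FlatMod.IsFinLocFreeOfRank 1 (O k d) := (isInvertible_iff _).mp (isInv_O k d)

instance (d : ℤ) : (O k d).IsQuasicoherent := qc_of_isInvertible _ (isInv_O k d)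

/-- `O(a) ⊗ O(b) ≅ O(c)` for `a + b = c`. -/
noncomputable def mulIso (a b c : ℤ) (h : a + b = c) :
    CohB1.tensorMod (O k a) (O k b) ≅ O k c := twistMulIso 1 k a b c h

/-- `O(0) ≅ O`. -/
noncomputable def zeroIso : O k 0 ≅ unitMod (P1 k) := twistZeroIso (CohB1.polyGrading 1 k)

/-- `O(-m) ⊗ O(m) ≅ O`. -/
noncomputable def negIso (m : ℤ) : CohB1.tensorMod (O k (-m)) (O k m) ≅ unitMod (P1 k) :=
  mulIso k (-m) m 0 (by ring) ≪≫ zeroIso k

lemma euler_unit : Curv2.euler k (P1 k) (unitMod (P1 k)) = 1 := by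
  rw [← Curve.euler_iso k _ (zeroIso k), euler_twist_P1]
  ring

lemma genus_P1 : Curv2.genus k (P1 k) = 0 := by
  unfold Curv2.genus
  haveI : Subsingleton (Coh.HH (P1 k) (O k 0) 1) :=
    subsingleton_HH_twist_all 1 k 0 1 (by rintro ⟨h, -⟩; exact absurd h one_ne_zero)
      (by rintro ⟨-, h⟩; norm_num at h)
  rw [← Curve2.finrank_HH_iso k _ (zeroIso k) 1]
  exact Module.finrank_zero_of_subsingleton

/-- the Euler characteristic of a vector bundle on the projective line. -/
lemma euler_eq_deg_add (r : ℕ) (F : (P1 k).Modules) :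
    Curv2.euler k (P1 k) F = Curv2.deg k (P1 k) F r + r := by
  unfold Curv2.deg
  have := euler_unit k
  change Curv2.euler k (P1 k) (Coh.structureModule (P1 k)) = 1 at this
  rw [this]
  ring

/-- **maps from twisting sheaves**: a vector bundle `F` of rank `r` receives a nonzero map
from `O(m)` as soon as `deg F - r m + r > 0`. -/
theorem exists_hom_ne_zero (r : ℕ) (F : (P1 k).Modules) (hF : FlatMod.IsFinLocFreeOfRank r F)
    (m : ℤ) (h : 0 < Curv2.deg k (P1 k) F r - r * m + r) : ∃ φ : O k m ⟶ F, φ ≠ 0 := by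
  haveI : IsNoetherian (P1 k) := Curve2.isNoetherian_of_proper k (P1 k)
  haveI : F.IsQuasicoherent := (Curve.isCoh_of_rank hF).1
  have hN : FlatMod.IsFinLocFreeOfRank r (CohB1.tensorMod F (O k (-m))) :=
    isFinLocFreeOfRank_tensorMod_of_isInvertible r F (O k (-m)) hF (isInv_O k (-m))
  haveI : (CohB1.tensorMod F (O k (-m))).IsQuasicoherent := (Curve.isCoh_of_rank hN).1
  have hdeg := deg_tensorMod k (dim_P1 k) r 1 F (O k (-m)) hF (rank_O k (-m))
  rw [mul_one, deg_twist_P1] at hdeg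
  have heu := euler_eq_deg_add k r (CohB1.tensorMod F (O k (-m)))
  rw [hdeg] at heu
  have hpos : 0 < Curv2.euler k (P1 k) (CohB1.tensorMod F (O k (-m))) := by
    rw [heu]; push_cast; linarith
  obtain ⟨τ, hτ⟩ := exists_section_ne_zero_of_euler_pos k (P1 k) (dim_P1 k) _ hpos
  haveI : (unitMod (P1 k)).IsQuasicoherent := qc_of_isInvertible _ (isInvertible_unit _)
  refine ⟨(unitorL' (O k m)).inv ≫ KoszTw.tensorMap τ (𝟙 (O k m)) ≫
    (backIso (O k (-m)) (O k m) (negIso k m) F).hom, fun h0 => hτ ?_⟩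
  have h1 : KoszTw.tensorMap τ (𝟙 (O k m)) = 0 := by
    rw [← cancel_epi (unitorL' (O k m)).inv,
      ← cancel_mono (backIso (O k (-m)) (O k m) (negIso k m) F).hom, Category.assoc,
      h0, comp_zero, zero_comp]
  exact Groth.Agent.H5.Eig.eq_zero_of_tensorMap_eq_zero (isInv_O k m) (isInv_O k (-m))
    (tensorCommAll (O k m) (O k (-m)) ≪≫ negIso k m) τ h1

/-- **the Picard group of the projective line**: an invertible module is a twisting sheaf. -/
theorem nonempty_iso_O (L : (P1 k).Modules) (hL : PicF.IsInvertible L) (d : ℤ)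
    (hd : Curv2.deg k (P1 k) L 1 = d) : Nonempty (O k d ≅ L) := by
  have hL1 : FlatMod.IsFinLocFreeOfRank 1 L := (isInvertible_iff L).mp hL
  obtain ⟨φ, hφ⟩ := exists_hom_ne_zero k 1 L hL1 d (by rw [hd]; push_cast; linarith)
  have h := Curve.deg_le_of_ne_zero k (P1 k) (dim_P1 k) (isInv_O k d) hL φ hφ
  haveI : IsIso φ := h.2 (by rw [deg_twist_P1, hd])
  exact ⟨asIso φ⟩

end Groth.Agent.H5.Gro
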