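import Mathlib
import Groth.Agent.Lib.Helper5.Gro.GroA
import Groth.Agent.Lib.Helper5.Curve4.VB4

/-!
# Vector bundles on the projective line, II: lifting maps from twisting sheaves, splitting.
-/

set_option autoImplicit false
universe u
open CategoryTheory CategoryTheory.Limits AlgebraicGeometry TopologicalSpace Opposite

namespace Groth.Agent.H5.Gro

open Groth.Agent.LD Groth.Agent.LD.QC Groth.Agent.H5.Curve2 Groth.Agent.H5.Curve4
  Groth.Agent.H5.Curve6 Groth.Agent.H5.DegC Twist Groth.Agent.LD.TW Groth.Agent.LD.PN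

variable (k : Type u) [Field k]

/-- **lifting**: a monomorphism `O(b) ⟶ X₃` lifts through the epimorphism of a short exact
sequence `0 → X₁ → X₂ → X₃ → 0` as soon as `H¹(X₁(-b)) = 0`. -/
theorem exists_lift (b : ℤ) (S : ShortComplex (P1 k).Modules) (hS : S.ShortExact)
    [S.X₁.IsQuasicoherent] (φ : O k b ⟶ S.X₃) [Mono φ]
    (hH : Subsingleton (Coh.HH (P1 k) (CohB1.tensorMod S.X₁ (O k (-b))) 1)) :
    ∃ ψ : O k b ⟶ S.X₂, ψ ≫ S.g = φ := by
  have hS' := preimage_shortExact S hS φ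
  obtain ⟨sp⟩ := @nonempty_splitting_of_h1 1 k _ b _ hS' ‹S.X₁.IsQuasicoherent› ⟨Iso.refl _⟩ hH
  refine ⟨sp.s ≫ pullback.fst S.g φ, ?_⟩
  rw [Category.assoc, pullback.condition, ← Category.assoc]
  have h1 : sp.s ≫ pullback.snd S.g φ = 𝟙 _ := sp.s_g
  exact (congrArg (fun t => t ≫ φ) h1).trans (Category.id_comp φ)

/-- **splitting**: a short exact sequence `0 → X₁ → X₂ → ∐ O(b_j) → 0` with `H¹(X₁(-b_j)) = 0`
for all `j` splits. -/
theorem nonempty_splitting_of_sigma {r : ℕ} (b : Fin r → ℤ) (S : ShortComplex (P1 k).Modules)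
    (hS : S.ShortExact) [S.X₁.IsQuasicoherent]
    (β : S.X₃ ≅ ∐ fun j => O k (b j))
    (hH : ∀ j, Subsingleton (Coh.HH (P1 k) (CohB1.tensorMod S.X₁ (O k (-(b j)))) 1)) :
    Nonempty S.Splitting := by
  have hmono : ∀ j, Mono (Sigma.ι (fun j => O k (b j)) j ≫ β.inv) := by
    intro j
    haveI : Mono (Sigma.ι (fun j => O k (b j)) j) :=
      mono_of_mono_fac (Sigma.ι_π_eq_id (fun j => O k (b j)) j)
    exact mono_comp _ _
  have hlift : ∀ j, ∃ ψ : O k (b j) ⟶ S.X₂, ψ ≫ S.g = Sigma.ι (fun j => O k (b j)) j ≫ β.inv := by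
    intro j
    haveI := hmono j
    exact exists_lift k (b j) S hS _ (hH j)
  choose ψ hψ using hlift
  let s : S.X₃ ⟶ S.X₂ := β.hom ≫ Sigma.desc ψ
  have hs : s ≫ S.g = 𝟙 _ := by
    rw [← cancel_epi β.inv]
    change β.inv ≫ (β.hom ≫ Sigma.desc ψ) ≫ S.g = β.inv ≫ 𝟙 _
    rw [Category.assoc, Iso.inv_hom_id_assoc, Category.comp_id]
    apply Sigma.hom_ext
    intro j
    rw [Sigma.ι_desc_assoc, hψ]
  exact ⟨ShortComplex.Splitting.ofExactOfSection S hS.exact s hs hS.mono_f⟩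

end Groth.Agent.H5.Gro
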