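import Mathlib
import Groth.Agent.Lib.Helper5.Gro.GroB
import Groth.Agent.Lib.Helper5.Curve4.Sat2
import Groth.Agent.Lib.Helper5.Curve4.VB3

/-!
# Vector bundles on the projective line, III: the maximal sub line bundle.
-/

set_option autoImplicit false
universe u
open CategoryTheory CategoryTheory.Limits AlgebraicGeometry TopologicalSpace Opposite

namespace Groth.Agent.H5.Gro

open Groth.Agent.LD Groth.Agent.LD.QC Groth.Agent.H5.Curve2 Groth.Agent.H5.Curve4
  Groth.Agent.H5.Curve6 Groth.Agent.H5.DegC Twist Groth.Agent.LD.TW Groth.Agent.LD.PN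

variable (k : Type u) [Field k]

instance : Nonempty (P1 k) := inferInstance

/-- a nonzero map from a twisting sheaf to a vector bundle on `P¹` is a monomorphism. -/
theorem mono_of_ne_zero (s : ℕ) (E : (P1 k).Modules) (hE : FlatMod.IsFinLocFreeOfRank s E)
    (m : ℤ) (φ : O k m ⟶ E) (hφ : φ ≠ 0) : Mono φ := by
  obtain ⟨a, b, hab, ha, hb, -⟩ :=
    kernel_image_facts k (P1 k) (dim_P1 k) 1 s (rank_O k m) hE φ
  have hbpos := rank_coimage_pos (P1 k) hφ b hb
  have ha0 : a = 0 := by omega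
  subst ha0
  exact mono_of_rank_kernel_zero (P1 k) φ ha

/-- a nonzero map `O(m) ⟶ E` forces `m ≤ h⁰(E) - 1`. -/
theorem le_of_hom_ne_zero (s : ℕ) (E : (P1 k).Modules) (hE : FlatMod.IsFinLocFreeOfRank s E)
    (m : ℤ) (φ : O k m ⟶ E) (hφ : φ ≠ 0) :
    m ≤ (Module.finrank k (Coh.HH (P1 k) E 0) : ℤ) - 1 := by
  haveI := mono_of_ne_zero k s E hE m φ hφ
  have h := deg_le_h0_add k (P1 k) (dim_P1 k) φ (Curve.isCoh_of_rank (rank_O k m))
    (Curve.isCoh_of_rank hE) 1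
  rw [deg_twist_P1, genus_P1] at h
  push_cast at h
  linarith

/-- **the maximal sub line bundle**: a vector bundle `E` of rank `r + 1` on `P¹` contains a
twisting sheaf `O(d)` with locally free quotient of rank `r`, and with `d` maximal among the
degrees of the twisting sheaves mapping nontrivially to `E`. -/
theorem exists_max_sub (r : ℕ) (E : (P1 k).Modules) (hE : FlatMod.IsFinLocFreeOfRank (r + 1) E) :
    ∃ (d : ℤ) (i : O k d ⟶ E), Mono i ∧ FlatMod.IsFinLocFreeOfRank r (cokernel i) ∧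
      ∀ (m : ℤ) (φ : O k m ⟶ E), d < m → φ = 0 := by
  -- the set of degrees
  have hbdd : ∃ b : ℤ, ∀ z : ℤ, (∃ φ : O k z ⟶ E, φ ≠ 0) → z ≤ b :=
    ⟨_, fun z ⟨φ, hφ⟩ => le_of_hom_ne_zero k (r + 1) E hE z φ hφ⟩
  have hinh : ∃ z : ℤ, ∃ φ : O k z ⟶ E, φ ≠ 0 := by
    refine ⟨-|Curv2.deg k (P1 k) E (r + 1)|, exists_hom_ne_zero k (r + 1) E hE _ ?_⟩
    have h1 := neg_abs_le (Curv2.deg k (P1 k) E (r + 1))
    have h2 := abs_nonneg (Curv2.deg k (P1 k) E (r + 1))
    push_cast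
    nlinarith
  obtain ⟨d₀, ⟨φ₀, hφ₀⟩, hmax⟩ := Int.exists_greatest_of_bdd hbdd hinh
  haveI := mono_of_ne_zero k (r + 1) E hE d₀ φ₀ hφ₀
  obtain ⟨G', i', j, s, hmono', hj, hG', hcok, hrs, hdegle, -, -⟩ :=
    exists_saturation k (P1 k) (dim_P1 k) φ₀ 1 (r + 1) (rank_O k d₀) hE
  obtain ⟨γ⟩ := nonempty_iso_O k G' ((isInvertible_iff G').mpr hG') _ rfl
  have hne : γ.hom ≫ i' ≠ 0 := by
    intro h0
    apply hφ₀
    rw [← hj]
    have : i' = 0 := by
      rw [← cancel_epi γ.hom, h0, comp_zero]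
    rw [this, comp_zero]
  have h1 := hmax _ ⟨γ.hom ≫ i', hne⟩
  rw [deg_twist_P1] at hdegle
  have hd : Curv2.deg k (P1 k) G' 1 = d₀ := le_antisymm h1 hdegle
  have hs : s = r := by omega
  subst hs
  refine ⟨_, γ.hom ≫ i', mono_comp _ _, ?_, ?_⟩
  · exact isFinLocFreeOfRank_of_iso (cokernelEpiComp γ.hom i').symm hcok
  · intro m φ hm
    by_contra hφ
    have := hmax m ⟨φ, hφ⟩
    rw [hd] at hm
    omega

end Groth.Agent.H5.Gro
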