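import Mathlib
import Groth.Agent.Lib.Helper5.Gro.GroC

/-!
# Vector bundles on the projective line, IV: existence of the splitting.
-/

set_option autoImplicit false
universe u
open CategoryTheory CategoryTheory.Limits AlgebraicGeometry TopologicalSpace Opposite

namespace Groth.Agent.H5.Gro

open Groth.Agent.LD Groth.Agent.LD.QC Groth.Agent.H5.Curve2 Groth.Agent.H5.Curve4
  Groth.Agent.H5.Curve6 Groth.Agent.H5.DegC Twist Groth.Agent.LD.TW Groth.Agent.LD.PN

section General

universe v w
variable {C : Type w} [Category.{v} C] [Preadditive C] [HasFiniteCoproducts C]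
  [HasBinaryBiproducts C]

/-- a coproduct over `Fin (n + 1)` is the biproduct of the first term and of the coproduct of
the others. -/
noncomputable def sigmaFinSuccIso {n : ℕ} (f : Fin (n + 1) → C) :
    ∐ f ≅ f 0 ⊞ ∐ (fun j : Fin n => f j.succ) where
  hom := Sigma.desc (fun i => Fin.cases (motive := fun i => f i ⟶ f 0 ⊞ ∐ (fun j : Fin n => f j.succ))
    biprod.inl (fun j => Sigma.ι (fun j : Fin n => f j.succ) j ≫ biprod.inr) i)
  inv := biprod.desc (Sigma.ι f 0) (Sigma.desc fun j => Sigma.ι f j.succ)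
  hom_inv_id := by
    apply Sigma.hom_ext
    intro i
    refine Fin.cases ?_ (fun j => ?_) i
    · simp
    · simp
  inv_hom_id := by
    apply biprod.hom_ext'
    · simp
    · apply Sigma.hom_ext
      intro j
      simp

lemma isZero_sigma_fin_zero (f : Fin 0 → C) : IsZero (∐ f) := by
  rw [IsZero.iff_id_eq_zero]
  apply Sigma.hom_ext
  intro i
  exact i.elim0

end General

variable (k : Type u) [Field k]

/-- `H¹(O(a) ⊗ O(b)) = 0` for `a + b ≥ -1`. -/
theorem subsingleton_H1_tensor (a b : ℤ) (h : -1 ≤ a + b) :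
    Subsingleton (Coh.HH (P1 k) (CohB1.tensorMod (O k a) (O k b)) 1) := by
  have h1 : Subsingleton (Coh.HH (P1 k) (O k (a + b)) 1) :=
    subsingleton_HH_twist_all 1 k (a + b) 1 (by rintro ⟨h, -⟩; exact absurd h one_ne_zero)
      (by rintro ⟨-, h'⟩; push_cast at h'; omega)
  exact CL.subsingleton_of_iso (mulIso k a b (a + b) rfl).symm 1 h1

/-- the degrees of the summands of the quotient by a maximal sub line bundle are at most the
degree of the latter. -/
theorem le_of_sigma {r : ℕ} (E : (P1 k).Modules) (d : ℤ) (i : O k d ⟶ E) [Mono i]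
    (hmax : ∀ (m : ℤ) (φ : O k m ⟶ E), d < m → φ = 0) (b : Fin r → ℤ)
    (β : cokernel i ≅ ∐ fun j => O k (b j)) (j : Fin r) : b j ≤ d := by
  by_contra h
  push_neg at h
  obtain ⟨θ, hθ⟩ := exists_hom_ne_zero k 1 (O k (b j)) (rank_O k (b j)) (d + 1)
    (by rw [deg_twist_P1]; push_cast; linarith)
  haveI := mono_of_ne_zero k 1 _ (rank_O k (b j)) (d + 1) θ hθ
  haveI : Mono (Sigma.ι (fun j => O k (b j)) j) :=
    mono_of_mono_fac (Sigma.ι_π_eq_id (fun j => O k (b j)) j)
  let S : ShortComplex (P1 k).Modules := ShortComplex.mk i (cokernel.π i) (cokernel.condition i)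
  have hS : S.ShortExact :=
    { exact := ShortComplex.exact_cokernel i
      mono_f := inferInstanceAs (Mono i)
      epi_g := inferInstanceAs (Epi (cokernel.π i)) }
  haveI : S.X₁.IsQuasicoherent := inferInstanceAs (O k d).IsQuasicoherent
  let φ : O k (d + 1) ⟶ S.X₃ := θ ≫ Sigma.ι (fun j => O k (b j)) j ≫ β.inv
  haveI : Mono φ := mono_comp _ _
  obtain ⟨ψ, hψ⟩ := exists_lift k (d + 1) S hS φ
    (subsingleton_H1_tensor k d (-(d + 1)) (by omega))
  have hψ0 := hmax (d + 1) ψ (by omega)
  rw [hψ0, zero_comp] at hψ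
  apply hθ
  have : θ ≫ Sigma.ι (fun j => O k (b j)) j ≫ β.inv = 0 ≫ Sigma.ι (fun j => O k (b j)) j ≫ β.inv := by
    rw [zero_comp]; exact hψ.symm
  exact (cancel_mono _).mp this

/-- **existence of the splitting**: a vector bundle on `P¹` is a direct sum of twisting sheaves. -/
theorem exists_sigma_iso : ∀ (r : ℕ) (E : (P1 k).Modules), FlatMod.IsFinLocFreeOfRank r E →
    ∃ a : Fin r → ℤ, Nonempty (E ≅ ∐ fun i => O k (a i))
  | 0, E, hE => ⟨fun i => i.elim0, ⟨(isZero_of_rank_zero hE).iso (isZero_sigma_fin_zero _)⟩⟩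
  | r + 1, E, hE => by
    obtain ⟨d, i, hi, hcok, hmax⟩ := exists_max_sub k r E hE
    obtain ⟨b, ⟨β⟩⟩ := exists_sigma_iso r (cokernel i) hcok
    have hb := le_of_sigma k E d i hmax b β
    let S : ShortComplex (P1 k).Modules := ShortComplex.mk i (cokernel.π i) (cokernel.condition i)
    have hS : S.ShortExact :=
      { exact := ShortComplex.exact_cokernel i
        mono_f := inferInstanceAs (Mono i)
        epi_g := inferInstanceAs (Epi (cokernel.π i)) }
    haveI : S.X₁.IsQuasicoherent := inferInstanceAs (O k d).IsQuasicoherent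
    obtain ⟨sp⟩ := nonempty_splitting_of_sigma k b S hS β
      (fun j => subsingleton_H1_tensor k d (-(b j)) (by have := hb j; omega))
    let a : Fin (r + 1) → ℤ := Fin.cons d b
    let e1 : E ≅ O k d ⊞ cokernel i := sp.isoBinaryBiproduct
    let e2 : O k d ⊞ cokernel i ≅ O k d ⊞ ∐ fun j => O k (b j) := biprod.mapIso (Iso.refl _) β
    let e3 : (∐ fun i => O k (a i)) ≅ O k d ⊞ ∐ fun j => O k (b j) :=
      sigmaFinSuccIso (fun i => O k (a i))
    exact ⟨a, ⟨e1 ≪≫ e2 ≪≫ e3.symm⟩⟩

end Groth.Agent.H5.Gro
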