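import Mathlib
import Groth.Agent.Lib.Helper5.Gro.GroD

/-!
# Vector bundles on the projective line, V: uniqueness of the splitting type.
-/

set_option autoImplicit false
universe u
open CategoryTheory CategoryTheory.Limits AlgebraicGeometry TopologicalSpace Opposite

namespace Groth.Agent.H5.Gro

open Groth.Agent.LD Groth.Agent.LD.QC Groth.Agent.H5.Curve2 Groth.Agent.H5.Curve4
  Groth.Agent.H5.Curve6 Groth.Agent.H5.DegC Twist Groth.Agent.LD.TW Groth.Agent.LD.PN

section General

variable (k : Type u) [Field k] (X : Scheme.{u}) [X.Over (Spec (CommRingCat.of k))]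

lemma HHmap_zero {M N : X.Modules} (p : ℕ) : CL.HHmap k (0 : M ⟶ N) p = 0 := by
  have := CL.HHmap_sum k (∅ : Finset Unit) (fun _ => (0 : M ⟶ N)) p
  rw [Finset.sum_empty, Finset.sum_empty] at this
  exact this

/-- the cohomology of a finite biproduct. -/
noncomputable def HHBiproductEquiv {n : ℕ} (f : Fin n → X.Modules) (p : ℕ) :
    Coh.HH X (⨁ f) p ≃ₗ[k] ∀ j, Coh.HH X (f j) p where
  toFun x j := CL.HHmap k (biproduct.π f j) p x
  map_add' x y := by funext j; simp
  map_smul' c x := by funext j; simp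
  invFun y := ∑ j, CL.HHmap k (biproduct.ι f j) p (y j)
  left_inv x := by
    have h1 : ∑ j, CL.HHmap k (biproduct.ι f j) p (CL.HHmap k (biproduct.π f j) p x) =
        CL.HHmap k (∑ j, biproduct.π f j ≫ biproduct.ι f j) p x := by
      rw [CL.HHmap_sum, LinearMap.sum_apply]
      refine Finset.sum_congr rfl (fun j _ => ?_)
      rw [CL.HHmap_comp, LinearMap.comp_apply]
    change ∑ j, CL.HHmap k (biproduct.ι f j) p (CL.HHmap k (biproduct.π f j) p x) = x
    rw [h1, biproduct.total, CL.HHmap_id]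
    rfl
  right_inv y := by
    funext j
    change CL.HHmap k (biproduct.π f j) p (∑ i, CL.HHmap k (biproduct.ι f i) p (y i)) = y j
    rw [map_sum, Finset.sum_eq_single j]
    · rw [← LinearMap.comp_apply, ← CL.HHmap_comp, biproduct.ι_π_self, CL.HHmap_id]
      rfl
    · intro i _ hij
      rw [← LinearMap.comp_apply, ← CL.HHmap_comp, biproduct.ι_π_ne _ hij, HHmap_zero]
      rfl
    · intro h
      exact absurd (Finset.mem_univ j) h

variable [IsProper (X ↘ Spec (CommRingCat.of k))]

/-- the dimension of the cohomology of a finite coproduct. -/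
theorem finrank_HH_sigma {n : ℕ} (f : Fin n → X.Modules) (hf : ∀ j, Coh.IsCoh (f j)) (p : ℕ) :
    Module.finrank k (Coh.HH X (∐ f) p) = ∑ j, Module.finrank k (Coh.HH X (f j) p) := by
  haveI : ∀ j, Module.Finite k (Coh.HH X (f j) p) := fun j => Curve.finite_HH k X _ (hf j) p
  rw [← Curve2.finrank_HH_iso k X (biproduct.isoCoproduct f) p,
    (HHBiproductEquiv k X f p).finrank_eq, Module.finrank_pi_fintype]

end General

variable (k : Type u) [Field k]

/-- `h⁰(O(a)) = max(0, a + 1)`. -/
theorem finrank_H0_O (a : ℤ) :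
    Module.finrank k (Coh.HH (P1 k) (O k a) 0) = (a + 1).toNat := by
  by_cases ha : 0 ≤ a + 1
  · have h1 : Subsingleton (Coh.HH (P1 k) (O k a) 1) :=
      subsingleton_HH_twist_all 1 k a 1 (by rintro ⟨h, -⟩; exact absurd h one_ne_zero)
        (by rintro ⟨-, h'⟩; push_cast at h'; omega)
    have h2 := Curve.euler_eq_sub k (P1 k) (dim_P1 k) (O k a)
    have h3 : Module.finrank k (Coh.HH (P1 k) (O k a) 1) = 0 :=
      Module.finrank_zero_of_subsingleton
    rw [euler_twist_P1, h3] at h2
    push_cast at h2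
    omega
  · have h0 : Subsingleton (Coh.HH (P1 k) (O k a) 0) :=
      subsingleton_HH_twist_all 1 k a 0 (by rintro ⟨-, h⟩; omega)
        (by rintro ⟨h, -⟩; exact absurd h zero_ne_one)
    rw [Module.finrank_zero_of_subsingleton]
    omega

/-- twisting a sum of twisting sheaves. -/
noncomputable def tensorSigmaIso {r : ℕ} (n : ℤ) (a : Fin r → ℤ) :
    CohB1.tensorMod (O k n) (∐ fun i => O k (a i)) ≅ ∐ fun i => O k (n + a i) :=
  PreservesCoproduct.iso (LT (O k n)) (fun i => O k (a i)) ≪≫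
    Sigma.mapIso (fun i => mulIso k n (a i) (n + a i) rfl)

/-- `h⁰` of a twisted sum of twisting sheaves. -/
theorem finrank_H0_tensor_sigma {r : ℕ} (n : ℤ) (a : Fin r → ℤ) :
    Module.finrank k (Coh.HH (P1 k) (CohB1.tensorMod (O k n) (∐ fun i => O k (a i))) 0) =
      ∑ i, (n + a i + 1).toNat := by
  rw [Curve2.finrank_HH_iso k (P1 k) (tensorSigmaIso k n a) 0,
    finrank_HH_sigma k (P1 k) _ (fun i => Curve.isCoh_of_rank (rank_O k (n + a i))) 0]
  exact Finset.sum_congr rfl (fun i _ => finrank_H0_O k (n + a i))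

/-- isomorphic sums of twisting sheaves have the same twisted `h⁰`. -/
theorem sum_toNat_eq {r : ℕ} (a b : Fin r → ℤ)
    (e : (∐ fun i => O k (a i)) ≅ ∐ fun i => O k (b i)) (n : ℤ) :
    ∑ i, (n + a i + 1).toNat = ∑ i, (n + b i + 1).toNat := by
  rw [← finrank_H0_tensor_sigma k n a, ← finrank_H0_tensor_sigma k n b]
  exact Curve2.finrank_HH_iso k (P1 k) ((LT (O k n)).mapIso e) 0

section Comb

/-- the number of indices with `m ≤ a i`. -/
lemma card_ge_eq {r : ℕ} (a : Fin r → ℤ) (m : ℤ) :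
    ((Finset.univ.filter fun i => m ≤ a i).card : ℤ) =
      (∑ i, ((-m + a i + 1).toNat : ℤ)) - ∑ i, ((-(m + 1) + a i + 1).toNat : ℤ) := by
  rw [← Finset.sum_sub_distrib, Finset.card_filter]
  push_cast
  refine Finset.sum_congr rfl (fun i _ => ?_)
  split_ifs with h <;> omega

/-- an antitone sequence is determined by the counting function. -/
lemma mem_iff_lt_card {r : ℕ} (a : Fin r → ℤ) (ha : Antitone a) (m : ℤ) (i : Fin r) :
    m ≤ a i ↔ (i : ℕ) < (Finset.univ.filter fun j => m ≤ a j).card := by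
  constructor
  · intro h
    have hsub : Finset.Iic i ⊆ Finset.univ.filter fun j => m ≤ a j := by
      intro j hj
      rw [Finset.mem_Iic] at hj
      rw [Finset.mem_filter]
      exact ⟨Finset.mem_univ _, h.trans (ha hj)⟩
    have := Finset.card_le_card hsub
    rw [Fin.card_Iic] at this
    omega
  · intro h
    by_contra hm
    have hsub : (Finset.univ.filter fun j => m ≤ a j) ⊆ Finset.Iio i := by
      intro j hj
      rw [Finset.mem_filter] at hj
      rw [Finset.mem_Iio]
      by_contra hji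
      push_neg at hji
      exact hm (hj.2.trans (ha hji))
    have := Finset.card_le_card hsub
    rw [Fin.card_Iio] at this
    omega

lemma eq_of_sum_toNat_eq {r : ℕ} (a b : Fin r → ℤ) (ha : Antitone a) (hb : Antitone b)
    (h : ∀ n : ℤ, ∑ i, (n + a i + 1).toNat = ∑ i, (n + b i + 1).toNat) : a = b := by
  have hcard : ∀ m : ℤ, (Finset.univ.filter fun i => m ≤ a i).card =
      (Finset.univ.filter fun i => m ≤ b i).card := by
    intro m
    have h1 := card_ge_eq a m
    have h2 := card_ge_eq b m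
    have h3 : (∑ i, ((-m + a i + 1).toNat : ℤ)) = ∑ i, ((-m + b i + 1).toNat : ℤ) := by
      exact_mod_cast h (-m)
    have h4 : (∑ i, ((-(m + 1) + a i + 1).toNat : ℤ)) = ∑ i, ((-(m + 1) + b i + 1).toNat : ℤ) := by
      exact_mod_cast h (-(m + 1))
    rw [h3, h4, ← h2] at h1
    exact_mod_cast h1
  funext i
  apply le_antisymm
  · have := (mem_iff_lt_card a ha (a i) i).mp le_rfl
    rw [hcard] at this
    exact (mem_iff_lt_card b hb (a i) i).mpr this
  · have := (mem_iff_lt_card b hb (b i) i).mp le_rfl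
    rw [← hcard] at this
    exact (mem_iff_lt_card a ha (b i) i).mpr this

end Comb

/-- **uniqueness of the splitting type.** -/
theorem splitting_type_unique {r : ℕ} (a b : Fin r → ℤ) (ha : Antitone a) (hb : Antitone b)
    (e : (∐ fun i => O k (a i)) ≅ ∐ fun i => O k (b i)) : a = b :=
  eq_of_sum_toNat_eq a b ha hb (sum_toNat_eq k a b e)

/-- sorting the summands. -/
theorem exists_antitone_sigma_iso {r : ℕ} (a : Fin r → ℤ) :
    ∃ d : Fin r → ℤ, Antitone d ∧
      Nonempty ((∐ fun i => O k (a i)) ≅ ∐ fun i => O k (d i)) := by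
  let σ : Equiv.Perm (Fin r) := Tuple.sort (fun i => -a i)
  have hσ : Monotone ((fun i => -a i) ∘ σ) := Tuple.monotone_sort _
  refine ⟨fun i => a (σ i), fun i j hij => ?_, ⟨?_⟩⟩
  · have := hσ hij
    simp only [Function.comp_apply] at this
    linarith
  · exact (Sigma.reindex σ (fun i => O k (a i))).symm

/-- **Grothendieck's theorem**: a vector bundle of rank `r` on `P¹_k` is a direct sum of twisting
sheaves `O(d₁) ⊕ ⋯ ⊕ O(d_r)` for a unique sequence `d₁ ≥ ⋯ ≥ d_r`. -/
theorem grothendieck_splitting (r : ℕ) (E : (P1 k).Modules)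
    (hE : FlatMod.IsFinLocFreeOfRank r E) :
    ∃! d : Fin r → ℤ, Antitone d ∧ Nonempty (E ≅ ∐ fun i : Fin r => O k (d i)) := by
  obtain ⟨a, ⟨α⟩⟩ := exists_sigma_iso k r E hE
  obtain ⟨d, hd, ⟨δ⟩⟩ := exists_antitone_sigma_iso k a
  refine ⟨d, ⟨hd, ⟨α ≪≫ δ⟩⟩, ?_⟩
  rintro d' ⟨hd', ⟨ε⟩⟩
  exact splitting_type_unique k d' d hd' hd (ε.symm ≪≫ α ≪≫ δ)

end Groth.Agent.H5.Gro
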