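import Mathlib
import Groth.Agent.Lib.Helper6.Tr8
import Groth.Agent.Lib.Helper6.Tr3
import Groth.Agent.Lib.Helper5.TrEt.A
import Groth.Agent.Lib.Lead.QC.AmpleExt
import Groth.Agent.Lib.Lead.Ann.SmulEnd
import Groth.Agent.Lib.Helper5.Lim.ModuleExt

/-!
# Trace duality for finite étale algebras: every functional is a multiple of the trace.
-/

set_option autoImplicit false
set_option linter.style.haveILetI false
universe u
open CategoryTheory CategoryTheory.Limits AlgebraicGeometry TopologicalSpace Opposite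

namespace Groth.Agent.H5.Gro

open Groth.Agent.LD.QC Groth.Agent.H6.Tr Groth.Agent.H6.QA Groth.Agent.LD.Ann

variable {Y : Scheme.{u}} (A : RelSpec.QCAlg Y)

/-- a quasi-coherent algebra all of whose algebras of sections over affine opens are étale. -/
def IsEtAlg : Prop := ∀ U : Y.Opens, IsAffineOpen U →
    letI := secAlg A U
    Algebra.Etale Γ(Y, U) (A.presheaf.obj (op U))

variable {A}

lemma trHom_app_eq_trace (hA : FlatMod.IsFinLocFree A.toModule) (U : Y.Opens)
    (hU : IsAffineOpen U) (hfree : Module.Free Γ(Y, U) Γ(A.toModule, U))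
    (a : Γ(A.toModule, U)) :
    letI := secAlg A U
    (trHom A hA).app U a = Algebra.trace Γ(Y, U) (A.presheaf.obj (op U)) (toRing A U a) := by
  letI := secAlg A U
  exact isTrace_trHom hA U hU hfree (finite_sec hA U hU) a

/-- over an affine open where the algebra is free, every functional is represented by the
trace form. -/
lemma exists_local_rep (hA : FlatMod.IsFinLocFree A.toModule) (het : IsEtAlg A) (U : Y.Opens)
    (hU : IsAffineOpen U) (hfree : Module.Free Γ(Y, U) Γ(A.toModule, U))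
    (φ : Γ(A.toModule, U) →ₗ[Γ(Y, U)] Γ(Y, U)) :
    ∃ c : Γ(A.toModule, U), ∀ s : Γ(A.toModule, U),
      φ s = (trHom A hA).app U (mulL A U c s) := by
  letI := secAlg A U
  haveI : Module.Free Γ(Y, U) (A.presheaf.obj (op U)) := hfree
  haveI : Module.Finite Γ(Y, U) (A.presheaf.obj (op U)) := finite_sec hA U hU
  have hb := (Groth.Agent.Lib.Helper5.TrEt.main Γ(Y, U) (A.presheaf.obj (op U))).mp (het U hU)
  let φ' : A.presheaf.obj (op U) →ₗ[Γ(Y, U)] Γ(Y, U) := φ
  obtain ⟨c, hc⟩ := hb.2 φ'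
  refine ⟨ofRing A U c, fun s => ?_⟩
  rw [trHom_app_eq_trace hA U hU hfree]
  have := LinearMap.congr_fun hc (toRing A U s)
  rw [Algebra.traceForm_apply] at this
  exact this.symm

lemma local_rep_unique (hA : FlatMod.IsFinLocFree A.toModule) (het : IsEtAlg A) (U : Y.Opens)
    (hU : IsAffineOpen U) (hfree : Module.Free Γ(Y, U) Γ(A.toModule, U))
    (c : Γ(A.toModule, U)) (h : ∀ s, (trHom A hA).app U (mulL A U c s) = 0) : c = 0 := by
  letI := secAlg A U
  haveI : Module.Free Γ(Y, U) (A.presheaf.obj (op U)) := hfree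
  haveI : Module.Finite Γ(Y, U) (A.presheaf.obj (op U)) := finite_sec hA U hU
  have hb := (Groth.Agent.Lib.Helper5.TrEt.main Γ(Y, U) (A.presheaf.obj (op U))).mp (het U hU)
  have h0 : Algebra.traceForm Γ(Y, U) (A.presheaf.obj (op U)) (toRing A U c) =
      Algebra.traceForm Γ(Y, U) (A.presheaf.obj (op U)) 0 := by
    ext s
    rw [map_zero, LinearMap.zero_apply, Algebra.traceForm_apply]
    have := h (ofRing A U s)
    rw [trHom_app_eq_trace hA U hU hfree] at this
    exact this
  exact hb.1 h0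

lemma free_of_eq_basicOpen (U : Y.Opens) (hU : IsAffineOpen U) (g : Γ(Y, U)) (W : Y.Opens)
    (hW : W = Y.basicOpen g) (hfree : Module.Free Γ(Y, U) Γ(A.toModule, U)) :
    Module.Free Γ(Y, W) Γ(A.toModule, W) := by
  subst hW
  haveI := toModule_qc A
  letI : Algebra Γ(Y, U) Γ(Y, Y.basicOpen g) := resAlgebra (Y.basicOpen_le g)
  letI : Module Γ(Y, U) Γ(A.toModule, Y.basicOpen g) := resModule A.toModule (Y.basicOpen_le g)
  haveI : IsScalarTower Γ(Y, U) Γ(Y, Y.basicOpen g) Γ(A.toModule, Y.basicOpen g) :=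
    resModule_isScalarTower A.toModule (Y.basicOpen_le g)
  haveI : IsLocalization.Away g Γ(Y, Y.basicOpen g) := hU.isLocalization_basicOpen g
  haveI : IsLocalizedModule.Away g (resLinear A.toModule (Y.basicOpen_le g)) :=
    isLocalizedModule_basicOpen A.toModule hU g
  exact Module.free_of_isLocalizedModule (Submonoid.powers g)
    (resLinear A.toModule (Y.basicOpen_le g))

/-- a representation of a functional over an affine open restricts to basic opens. -/
lemma rep_of_eq_basicOpen (hA : FlatMod.IsFinLocFree A.toModule)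
    (ψ : A.toModule ⟶ unitMod Y) (U : Y.Opens) (hU : IsAffineOpen U) (g : Γ(Y, U))
    (W : Y.Opens) (hW : W = Y.basicOpen g) (hWU : W ≤ U) (c : Γ(A.toModule, U))
    (hc : ∀ s, ψ.app U s = (trHom A hA).app U (mulL A U c s)) (s' : Γ(A.toModule, W)) :
    ψ.app W s' = (trHom A hA).app W
      (mulL A W (A.toModule.presheaf.map (homOfLE hWU).op c) s') := by
  subst hW
  haveI := toModule_qc A
  obtain ⟨n, s, hs⟩ := affine_surj A.toModule hU g s'
  have hu : IsUnit ((Y.presheaf.map (homOfLE (Y.basicOpen_le g)).op g) ^ n) :=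
    (RingedSpace.isUnit_res_basicOpen _ g).pow n
  have key : ((Y.presheaf.map (homOfLE (Y.basicOpen_le g)).op g) ^ n) •
        ψ.app (Y.basicOpen g) s' =
      ((Y.presheaf.map (homOfLE (Y.basicOpen_le g)).op g) ^ n) •
        (trHom A hA).app (Y.basicOpen g)
          (mulL A _ (A.toModule.presheaf.map (homOfLE hWU).op c) s') := by
    rw [← Scheme.Modules.Hom.app_smul, ← hs, app_res, hc, ← app_res, mulL_res, hs,
      LinearMap.map_smul, Scheme.Modules.Hom.app_smul]
  exact hu.smul_left_cancel.mp key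


/-- the linear map underlying a functional. -/
noncomputable def appLin (ψ : A.toModule ⟶ unitMod Y) (U : Y.Opens) :
    Γ(A.toModule, U) →ₗ[Γ(Y, U)] Γ(Y, U) where
  toFun s := ψ.app U s
  map_add' s t := map_add _ s t
  map_smul' r s := Scheme.Modules.Hom.app_smul ψ r s

lemma mulL_sub (U : Y.Opens) (a b s : Γ(A.toModule, U)) :
    mulL A U (a - b) s = mulL A U a s - mulL A U b s := by
  rw [map_sub, LinearMap.sub_apply]

/-- **trace duality, global form**: on a scheme `Y`, let `A` be a quasi-coherent algebra, finite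
locally free of rank `d` and étale. Then every functional `ψ : A ⟶ O_Y` is of the form
`s ↦ tr(c s)` for a global section `c` of `A`. -/
theorem exists_global_rep (d : ℕ) (hAd : FlatMod.IsFinLocFreeOfRank d A.toModule)
    (het : IsEtAlg A) (ψ : A.toModule ⟶ unitMod Y) :
    ∃ c : Γ(A.toModule, ⊤), ∀ (U : Y.Opens), IsAffineOpen U →
      Module.Free Γ(Y, U) Γ(A.toModule, U) → ∀ s : Γ(A.toModule, U),
        ψ.app U s = (trHom A (isFinLocFree_of_rank d _ hAd)).app U
          (mulL A U (A.toModule.presheaf.map (homOfLE (le_top : U ≤ ⊤)).op c) s) := by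
  haveI := toModule_qc A
  set hA := isFinLocFree_of_rank d _ hAd with hA_def
  let ι : Type u := {U : Y.Opens // IsAffineOpen U ∧ Module.Free Γ(Y, U) Γ(A.toModule, U)}
  have hex : ∀ i : ι, ∃ c : Γ(A.toModule, i.1), ∀ s : Γ(A.toModule, i.1),
      ψ.app i.1 s = (trHom A hA).app i.1 (mulL A i.1 c s) := fun i =>
    exists_local_rep hA het i.1 i.2.1 i.2.2 (appLin ψ i.1)
  choose c hc using hex
  have hcov : (⊤ : Y.Opens) ≤ ⨆ i : ι, i.1 := by
    intro y _
    obtain ⟨U, hU, hyU, -, ⟨ℓ⟩⟩ := exists_affine_equiv_of_rank d A.toModule hAd ⊤ y trivial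
    exact Opens.mem_iSup.mpr ⟨⟨U, hU, Module.Free.of_equiv ℓ.symm⟩, hyU⟩
  have compat : ∀ i j : ι,
      A.toModule.presheaf.map (homOfLE (inf_le_left : i.1 ⊓ j.1 ≤ i.1)).op (c i) =
        A.toModule.presheaf.map (homOfLE (inf_le_right : i.1 ⊓ j.1 ≤ j.1)).op (c j) := by
    intro i j
    apply section_ext_of_cover A.toModule
      (fun p : {p : Γ(Y, i.1) × Γ(Y, j.1) // Y.basicOpen p.1 = Y.basicOpen p.2} =>
        Y.basicOpen p.1.1)
      (fun p => le_inf (Y.basicOpen_le _) (p.2 ▸ Y.basicOpen_le _))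
    · intro x hx
      obtain ⟨f, g, hfg, hxf⟩ := exists_basicOpen_le_affine_inter i.2.1 j.2.1 x hx
      exact Opens.mem_iSup.mpr ⟨⟨(f, g), hfg⟩, hxf⟩
    · rintro ⟨⟨f, g⟩, hfg⟩
      dsimp only at hfg ⊢
      rw [res_res A.toModule, res_res A.toModule]
      set W := Y.basicOpen f with hW
      have hWi : W ≤ i.1 := Y.basicOpen_le f
      have hWj : W ≤ j.1 := hfg ▸ Y.basicOpen_le g
      have hWaff : IsAffineOpen W := i.2.1.basicOpen f
      have hWfree : Module.Free Γ(Y, W) Γ(A.toModule, W) :=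
        free_of_eq_basicOpen i.1 i.2.1 f W rfl i.2.2
      have h1 := rep_of_eq_basicOpen hA ψ i.1 i.2.1 f W rfl hWi (c i) (hc i)
      have h2 := rep_of_eq_basicOpen hA ψ j.1 j.2.1 g W hfg hWj (c j) (hc j)
      rw [← sub_eq_zero]
      apply local_rep_unique hA het W hWaff hWfree
      intro s
      rw [mulL_sub, map_sub, ← h1, ← h2, sub_self]
  obtain ⟨σ, hσ⟩ := exists_glue_section A.toModule (fun i : ι => i.1) ⊤ (fun _ => le_top) hcov c
    compat
  refine ⟨σ, fun U hU hfree s => ?_⟩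
  have := hσ ⟨U, hU, hfree⟩
  dsimp only at this
  rw [this]
  exact hc ⟨U, hU, hfree⟩ s

/-- **trace duality, scalar form**: if moreover the global sections of `A` are the global
functions of `Y`, every functional `A ⟶ O_Y` is a multiple of the trace by a global function. -/
theorem exists_smulEnd_rep (d : ℕ) (hAd : FlatMod.IsFinLocFreeOfRank d A.toModule)
    (het : IsEtAlg A) (hsurj : Function.Surjective (A.str.app (op ⊤)).hom)
    (ψ : A.toModule ⟶ unitMod Y) :
    ∃ r : Γ(Y, ⊤), ψ = smulEnd A.toModule r ≫ trHom A (isFinLocFree_of_rank d _ hAd) := by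
  haveI := toModule_qc A
  obtain ⟨c, hc⟩ := exists_global_rep d hAd het ψ
  obtain ⟨r, hr⟩ := hsurj (toRing A ⊤ c)
  refine ⟨r, ?_⟩
  let ι : Type u := {U : Y.Opens // IsAffineOpen U ∧ Module.Free Γ(Y, U) Γ(A.toModule, U)}
  have hcov : (⊤ : Y.Opens) ≤ ⨆ i : ι, i.1 := by
    intro y _
    obtain ⟨U, hU, hyU, -, ⟨ℓ⟩⟩ := exists_affine_equiv_of_rank d A.toModule hAd ⊤ y trivial
    exact Opens.mem_iSup.mpr ⟨⟨U, hU, Module.Free.of_equiv ℓ.symm⟩, hyU⟩
  apply Groth.Agent.H5.Lim.hom_ext_of_affine_cover _ _ (fun i : ι => i.1) (fun i => i.2.1) hcov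
  intro i s
  rw [hc i.1 i.2.1 i.2.2 s, Scheme.Modules.Hom.comp_app]
  change _ = (trHom A _).app i.1 ((smulEnd A.toModule r).app i.1 s)
  rw [smulEnd_app]
  congr 1
  -- `c|U * s = r|U • s`
  have h1 : toRing A i.1 (A.toModule.presheaf.map (homOfLE (le_top : i.1 ≤ ⊤)).op c) =
      (A.str.app (op i.1)).hom (Y.presheaf.map (homOfLE (le_top : i.1 ≤ ⊤)).op r) := by
    rw [toRing_res, ← hr]
    exact (congr($(A.str.naturality (homOfLE (le_top : i.1 ≤ ⊤)).op) r)).symm
  exact congrArg (· * toRing A i.1 s) h1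

end Groth.Agent.H5.Gro
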