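import Mathlib
import Groth.Agent.Lib.Helper5.Gro.Pi1A
import Groth.Agent.Lib.Helper6.Cov1
import Groth.Agent.Lib.Helper5.Curve4.Sat2

/-!
# The direct image algebra of a finite étale morphism.
-/

set_option autoImplicit false
set_option linter.style.haveILetI false
universe u
open CategoryTheory CategoryTheory.Limits AlgebraicGeometry TopologicalSpace Opposite

namespace Groth.Agent.H5.Gro

open Groth.Agent.LD.QC Groth.Agent.H6.Tr Groth.Agent.H6.QA Groth.Agent.LD.Ann

variable {X Y : Scheme.{u}} (f : X ⟶ Y)

section

variable [QuasiCompact f] [QuasiSeparated f]

/-- the direct image algebra. -/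
noncomputable abbrev dirAlg : RelSpec.QCAlg Y := RelSpec.QCAlg.directImage f

/-- the comparison of the direct image algebra, as a module, with the direct image of the
structure sheaf. -/
noncomputable def kappaHom : (dirAlg f).toModule ⟶
    (Scheme.Modules.pushforward f).obj (Coh.structureModule X) :=
  ⟨letI := (dirAlg f).moduleSect
   PresheafOfModules.homMk
    { app := fun U => AddCommGrpCat.ofHom (AddMonoidHom.id _)
      naturality := fun U V i => by
        ext s
        rfl }
    (fun U r s => rfl)⟩

noncomputable def kappaInv : (Scheme.Modules.pushforward f).obj (Coh.structureModule X) ⟶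
    (dirAlg f).toModule :=
  ⟨letI := (dirAlg f).moduleSect
   PresheafOfModules.homMk
    { app := fun U => AddCommGrpCat.ofHom (AddMonoidHom.id _)
      naturality := fun U V i => by
        ext s
        rfl }
    (fun U r s => rfl)⟩

/-- the direct image algebra, as a module, is the direct image of the structure sheaf. -/
noncomputable def kappa : (dirAlg f).toModule ≅
    (Scheme.Modules.pushforward f).obj (Coh.structureModule X) where
  hom := kappaHom f
  inv := kappaInv f
  hom_inv_id := by
    apply Scheme.Modules.hom_ext
    intro U
    ext s
    rfl
  inv_hom_id := by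
    apply Scheme.Modules.hom_ext
    intro U
    ext s
    rfl

end

variable [IsFinite f] [Etale f]

/-- the direct image algebra of a finite étale morphism is finite locally free. -/
theorem isFinLocFree_dirAlg : FlatMod.IsFinLocFree (dirAlg f).toModule := by
  have h := ((affine_finLocFree_pushforward_iff f).mpr ⟨inferInstance, inferInstance,
    inferInstance⟩).2
  exact isFinLocFree_of_iso (kappa f).symm h

/-- the direct image algebra of a finite étale morphism is étale. -/
theorem isEtAlg_dirAlg : IsEtAlg (dirAlg f) := by
  intro U hU
  have h := HasRingHomProperty.appLE (P := @Etale) f inferInstance ⟨U, hU⟩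
    ⟨f ⁻¹ᵁ U, hU.preimage f⟩ le_rfl
  rw [← Scheme.Hom.app_eq_appLE] at h
  exact h

end Groth.Agent.H5.Gro
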