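import Mathlib
import Groth.Agent.Lib.Helper5.Gro.Pi1B
import Groth.Agent.Lib.Helper5.Gro.GroE
import Groth.Agent.Lib.Helper5.Curve3.FinBir
import Groth.Agent.Lib.Lead.FF.H0Const

/-!
# The projective line is simply connected.
-/

set_option autoImplicit false
set_option linter.style.haveILetI false
universe u
open CategoryTheory CategoryTheory.Limits AlgebraicGeometry TopologicalSpace Opposite

namespace Groth.Agent.H5.Gro

open Groth.Agent.LD Groth.Agent.LD.QC Groth.Agent.H6.Tr Groth.Agent.H6.QA Groth.Agent.LD.Ann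
  Groth.Agent.H5.Curve2 Groth.Agent.H5.Curve4 Groth.Agent.H5.Curve6

section General

variable {X : Scheme.{u}}

lemma smulEnd_one (M : X.Modules) : smulEnd M 1 = 𝟙 M := by
  apply Scheme.Modules.hom_ext
  intro U
  ext m
  rw [smulEnd_app, map_one, one_smul]
  rfl

lemma smulEnd_zero (M : X.Modules) : smulEnd M 0 = 0 := by
  apply Scheme.Modules.hom_ext
  intro U
  ext m
  rw [smulEnd_app, map_zero, zero_smul]
  rfl

lemma eq_zero_of_smulEnd_comp_eq_zero {M N : X.Modules} (r r' : Γ(X, ⊤)) (hr : r * r' = 1)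
    (θ : M ⟶ N) (h : smulEnd M r ≫ θ = 0) : θ = 0 := by
  have h1 : smulEnd M r' ≫ smulEnd M r = 𝟙 M := by
    rw [← smulEnd_mul, hr, smulEnd_one]
  calc θ = (smulEnd M r' ≫ smulEnd M r) ≫ θ := by rw [h1, Category.id_comp]
    _ = 0 := by rw [Category.assoc, h, comp_zero]

end General

section

variable (k : Type u) [Field k] (X : Scheme.{u}) [X.Over (Spec (CommRingCat.of k))]

/-- if `h⁰(O_X) = 1` then the global functions are the constants. -/
lemma toGlobal_surjective (h0 : Module.finrank k (Coh.HH X (Coh.structureModule X) 0) = 1) :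
    Function.Surjective (Coh.toGlobal (X ↘ Spec (CommRingCat.of k))) := by
  letI : Algebra k Γ(X, ⊤) := (Coh.toGlobal (X ↘ Spec (CommRingCat.of k))).toAlgebra
  have h1 : Module.finrank k Γ(X, ⊤) = 1 := (FF.finrank_HH0_eq k X).symm.trans h0
  haveI : Nontrivial Γ(X, ⊤) :=
    Module.nontrivial_of_finrank_pos (R := k) (by rw [h1]; exact one_pos)
  have h2 := Subalgebra.bot_eq_top_of_finrank_eq_one h1
  intro (x : Γ(X, ⊤))
  have hx : x ∈ (⊥ : Subalgebra k Γ(X, ⊤)) := h2 ▸ Algebra.mem_top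
  exact Algebra.mem_bot.mp hx

end

variable (k : Type u) [Field k]

/-- **the projective line is simply connected**: a finite étale cover of `P¹_k` by a scheme
with `h⁰(O) = 1` is an isomorphism. -/
theorem isIso_of_finite_etale_P1 (X : Scheme.{u}) [X.Over (Spec (CommRingCat.of k))]
    (f : X ⟶ P1 k) [IsFinite f] [Etale f]
    (hf : f ≫ CohB1.ProjSpace.toSpec 1 k = X ↘ Spec (CommRingCat.of k))
    (h0 : Module.finrank k (Coh.HH X (Coh.structureModule X) 0) = 1) : IsIso f := by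
  haveI : f.IsOver (Spec (CommRingCat.of k)) := ⟨hf⟩
  set A := dirAlg f with hA_def
  set M := A.toModule with hM_def
  have hA := isFinLocFree_dirAlg f
  obtain ⟨n, hn⟩ := exists_rank hA
  obtain ⟨d, ⟨-, ⟨e⟩⟩, -⟩ := grothendieck_splitting k n M hn
  haveI : (Coh.structureModule X).IsQuasicoherent := (PF.isCoh_unitMod X).1
  -- `h⁰`
  have hM0 : Module.finrank k (Coh.HH (P1 k) M 0) = 1 := by
    rw [Curve2.finrank_HH_iso k (P1 k) (kappa f) 0]
    obtain ⟨ℓ⟩ := Groth.Agent.H5.Curve3.nonempty_HH_push_linearEquiv k f (Coh.structureModule X) 0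
    rw [ℓ.finrank_eq]
    exact h0
  have hsum : ∑ i, (d i + 1).toNat = 1 := by
    rw [← hM0, Curve2.finrank_HH_iso k (P1 k) e 0,
      finrank_HH_sigma k (P1 k) _ (fun i => Curve.isCoh_of_rank (rank_O k (d i))) 0]
    exact (Finset.sum_congr rfl (fun i _ => finrank_H0_O k (d i))).symm
  -- the global functions
  have hsurj : Function.Surjective (A.str.app (op ⊤)).hom := by
    intro x
    obtain ⟨c, hc⟩ := toGlobal_surjective k X h0 x
    refine ⟨Coh.toGlobal (CohB1.ProjSpace.toSpec 1 k) c, ?_⟩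
    rw [← hc]
    unfold Coh.toGlobal
    rw [← hf]
    rfl
  have hP0 : Module.finrank k (Coh.HH (P1 k) (Coh.structureModule (P1 k)) 0) = 1 := by
    have := finrank_H0_O k 0
    rw [Curve2.finrank_HH_iso k (P1 k) (zeroIso k) 0] at this
    exact this
  have hunit : ∀ r : Γ(P1 k, ⊤), r ≠ 0 → ∃ r', r * r' = 1 := by
    intro r hr
    obtain ⟨c, rfl⟩ := toGlobal_surjective k (P1 k) hP0 r
    have hc : c ≠ 0 := by
      rintro rfl
      exact hr (map_zero _)
    refine ⟨Coh.toGlobal (P1 k ↘ Spec (CommRingCat.of k)) c⁻¹, ?_⟩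
    have h := map_mul (Coh.toGlobal (P1 k ↘ Spec (CommRingCat.of k))) c c⁻¹
    rw [mul_inv_cancel₀ hc, map_one] at h
    exact h.symm
  -- the key claim
  have key : ∀ j, 0 ≤ d j := by
    intro j
    by_contra hj
    push_neg at hj
    obtain ⟨i₀, hi₀⟩ : ∃ i₀, 0 < (d i₀ + 1).toNat := by
      by_contra hcon
      push_neg at hcon
      have : ∑ i, (d i + 1).toNat = 0 :=
        Finset.sum_eq_zero (fun i _ => Nat.le_zero.mp (hcon i))
      omega
    have hi₀' : (d i₀ + 1).toNat ≤ 1 := by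
      rw [← hsum]
      exact Finset.single_le_sum (f := fun i => (d i + 1).toNat) (fun _ _ => Nat.zero_le _)
        (Finset.mem_univ i₀)
    have hd0 : d i₀ = 0 := by omega
    have hne : i₀ ≠ j := by
      rintro rfl
      omega
    obtain ⟨θ₁, hθ₁⟩ := exists_hom_ne_zero k 1 (O k 0) (rank_O k 0) (d i₀)
      (by rw [deg_twist_P1, hd0]; norm_num)
    obtain ⟨θ₂, hθ₂⟩ := exists_hom_ne_zero k 1 (O k 0) (rank_O k 0) (d j)
      (by rw [deg_twist_P1]; push_cast; linarith)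
    let F : Fin n → (P1 k).Modules := fun i => O k (d i)
    let ψ₁ : M ⟶ unitMod (P1 k) := e.hom ≫ Sigma.π F i₀ ≫ θ₁ ≫ (zeroIso k).hom
    let ψ₂ : M ⟶ unitMod (P1 k) := e.hom ≫ Sigma.π F j ≫ θ₂ ≫ (zeroIso k).hom
    obtain ⟨r₁, hr₁⟩ := exists_smulEnd_rep n hn (isEtAlg_dirAlg f) hsurj ψ₁
    obtain ⟨r₂, hr₂⟩ := exists_smulEnd_rep n hn (isEtAlg_dirAlg f) hsurj ψ₂
    let ι₀ : O k (d i₀) ⟶ M := Sigma.ι F i₀ ≫ e.inv
    let ιj : O k (d j) ⟶ M := Sigma.ι F j ≫ e.inv
    have h1 : ι₀ ≫ ψ₁ = θ₁ ≫ (zeroIso k).hom := by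
      change (Sigma.ι F i₀ ≫ e.inv) ≫ e.hom ≫ Sigma.π F i₀ ≫ θ₁ ≫ (zeroIso k).hom = _
      rw [Category.assoc, Iso.inv_hom_id_assoc, Sigma.ι_π_eq_id_assoc]
    have h2 : ι₀ ≫ ψ₂ = 0 := by
      change (Sigma.ι F i₀ ≫ e.inv) ≫ e.hom ≫ Sigma.π F j ≫ θ₂ ≫ (zeroIso k).hom = _
      rw [Category.assoc, Iso.inv_hom_id_assoc, Sigma.ι_π_of_ne_assoc F hne, zero_comp]
    have h2' : ιj ≫ ψ₂ = θ₂ ≫ (zeroIso k).hom := by
      change (Sigma.ι F j ≫ e.inv) ≫ e.hom ≫ Sigma.π F j ≫ θ₂ ≫ (zeroIso k).hom = _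
      rw [Category.assoc, Iso.inv_hom_id_assoc, Sigma.ι_π_eq_id_assoc]
    have hr₂0 : r₂ ≠ 0 := by
      rintro rfl
      have hψ : ψ₂ = 0 := by rw [hr₂, smulEnd_zero, zero_comp]
      apply hθ₂
      rw [← cancel_mono (zeroIso k).hom, ← h2', hψ, comp_zero, zero_comp]
    obtain ⟨r₂', hr₂'⟩ := hunit r₂ hr₂0
    have hcomm : smulEnd M r₂ ≫ ψ₁ = smulEnd M r₁ ≫ ψ₂ := by
      rw [hr₁, hr₂, ← Category.assoc, ← Category.assoc, ← smulEnd_mul, ← smulEnd_mul, mul_comm]
    have h3 : smulEnd (O k (d i₀)) r₂ ≫ θ₁ ≫ (zeroIso k).hom = 0 := by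
      rw [← h1, ← Category.assoc, smulEnd_naturality, Category.assoc, hcomm, ← Category.assoc,
        ← smulEnd_naturality, Category.assoc, h2, comp_zero]
    have h4 := eq_zero_of_smulEnd_comp_eq_zero r₂ r₂' hr₂' _ h3
    apply hθ₁
    rw [← cancel_mono (zeroIso k).hom, h4, zero_comp]
  -- conclusion: the rank is one
  have hn1 : n = 1 := by
    have h1 : ∀ i, 1 ≤ (d i + 1).toNat := fun i => by
      have := key i
      omega
    have h2 : n ≤ ∑ i : Fin n, (d i + 1).toNat := by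
      calc n = ∑ _i : Fin n, 1 := by simp
        _ ≤ _ := Finset.sum_le_sum (fun i _ => h1 i)
    rw [hsum] at h2
    have h3 : n ≠ 0 := by
      rintro rfl
      simp at hsum
    omega
  subst hn1
  have hcov : FinCov.IsCover f 1 :=
    (Groth.Agent.H6.Cov.s19692 f 1).mpr ⟨inferInstance, isFinLocFreeOfRank_of_iso (kappa f) hn⟩
  rw [Scheme.Hom.isIso_iff_finrank_eq]
  ext y
  exact hcov.2 y

end Groth.Agent.H5.Gro
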