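import Mathlib
import Groth.Agent.Lib.Helper5.Gro.Pi1C
import Groth.Agent.Lib.Helper5.Curve3.SmInt

/-!
# The projective line is simply connected: geometric form.
-/

set_option autoImplicit false
set_option linter.style.haveILetI false
universe u
open CategoryTheory CategoryTheory.Limits AlgebraicGeometry TopologicalSpace Opposite

namespace Groth.Agent.H5.Gro

open Groth.Agent.LD Groth.Agent.LD.QC

/-- a smooth scheme over a field is geometrically reduced. -/
theorem geometricallyReduced_of_smooth (k : Type u) [Field k] {X : Scheme.{u}}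
    (p : X ⟶ Spec (CommRingCat.of k)) [Smooth p] : GeometricallyReduced p := by
  refine ⟨fun K _ y Z fst snd h => ?_⟩
  haveI : Smooth snd := MorphismProperty.of_isPullback (P := @Smooth) h inferInstance
  haveI : ∀ z : Z, _root_.IsReduced (Z.presheaf.stalk z) := fun z => by
    haveI := Groth.Agent.H5.Curve3.isDomain_stalk_of_smooth K snd z
    infer_instance
  exact isReduced_of_isReduced_stalk Z

/-- **S7810**: a finite étale cover of `P¹_k` by a geometrically connected scheme is an
isomorphism. -/
theorem isIso_of_finite_etale_P1_of_geomConn (k : Type u) [Field k] {X : Scheme.{u}}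
    (f : X ⟶ CohB1.ProjSpace 1 k) [IsFinite f] [Etale f]
    [GeometricallyConnected (f ≫ CohB1.ProjSpace.toSpec 1 k)] : IsIso f := by
  letI : X.Over (Spec (CommRingCat.of k)) := ⟨f ≫ CohB1.ProjSpace.toSpec 1 k⟩
  haveI : Smooth (CohB1.ProjSpace.toSpec 1 k) := Groth.Agent.H4.ProjSmooth.smooth_toSpec 1 k
  haveI : IsProper (CohB1.ProjSpace.toSpec 1 k) := Groth.Agent.H5.AG.isProper_toSpec 1 k
  haveI : IsProper (X ↘ Spec (CommRingCat.of k)) :=
    inferInstanceAs (IsProper (f ≫ CohB1.ProjSpace.toSpec 1 k))
  haveI : Smooth (X ↘ Spec (CommRingCat.of k)) :=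
    inferInstanceAs (Smooth (f ≫ CohB1.ProjSpace.toSpec 1 k))
  haveI : GeometricallyReduced (X ↘ Spec (CommRingCat.of k)) :=
    geometricallyReduced_of_smooth k _
  haveI : GeometricallyConnected (X ↘ Spec (CommRingCat.of k)) :=
    inferInstanceAs (GeometricallyConnected (f ≫ CohB1.ProjSpace.toSpec 1 k))
  exact isIso_of_finite_etale_P1 k X f rfl (FF.finrank_HH0_eq_one k X)

end Groth.Agent.H5.Gro
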