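import Mathlib
import Groth.Agent.Lib.Helper5.Gro.GroE
import Groth.Agent.Lib.Helper5.Gro.Pi1D
import Groth.Agent.Lib.Helper5.IntN.Hilb
import Groth.Agent.Lib.Helper6.Cov1
import Groth.Agent.Lib.Helper5.Curve3.FinBir
import Groth.Agent.Lib.Lead.QC.ProjFormulaLF
import Groth.Agent.Lib.Lead.FF.H0Const

/-!
# Double covers of the projective line, I: the direct image of the structure sheaf and the
sections of the pullbacks of the twisting sheaves.
-/

set_option autoImplicit false
set_option linter.style.haveILetI false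
universe u
open CategoryTheory CategoryTheory.Limits AlgebraicGeometry TopologicalSpace Opposite

namespace Groth.Agent.H5.Gro

open Groth.Agent.LD Groth.Agent.LD.QC Groth.Agent.H5.Curve2 Groth.Agent.H5.Curve4
  Groth.Agent.H5.Curve6 Groth.Agent.H5.DegC Twist Groth.Agent.LD.TW Groth.Agent.LD.PN

variable (k : Type u) [Field k]

/-- the Euler characteristic of a sum of twisting sheaves. -/
theorem euler_of_sigma_iso {r : ℕ} (E : (P1 k).Modules) [E.IsQuasicoherent] (a : Fin r → ℤ)
    (α : E ≅ ∐ fun i => O k (a i)) :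
    Curv2.euler k (P1 k) E = ∑ i, (a i + 1) := by
  have hc : ∀ i, Coh.IsCoh (O k (a i)) := fun i => Curve.isCoh_of_rank (rank_O k (a i))
  rw [Curve.euler_eq_sub k (P1 k) (dim_P1 k) E, Curve2.finrank_HH_iso k (P1 k) α 0,
    Curve2.finrank_HH_iso k (P1 k) α 1,
    finrank_HH_sigma k (P1 k) _ hc 0, finrank_HH_sigma k (P1 k) _ hc 1]
  push_cast
  rw [← Finset.sum_sub_distrib]
  refine Finset.sum_congr rfl (fun i _ => ?_)
  rw [← Curve.euler_eq_sub k (P1 k) (dim_P1 k) (O k (a i)), euler_twist_P1]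

/-- `h⁰` of a sum of twisting sheaves. -/
theorem finrank_H0_of_sigma_iso {r : ℕ} (E : (P1 k).Modules) (a : Fin r → ℤ)
    (α : E ≅ ∐ fun i => O k (a i)) :
    Module.finrank k (Coh.HH (P1 k) E 0) = ∑ i, (a i + 1).toNat := by
  have hc : ∀ i, Coh.IsCoh (O k (a i)) := fun i => Curve.isCoh_of_rank (rank_O k (a i))
  rw [Curve2.finrank_HH_iso k (P1 k) α 0, finrank_HH_sigma k (P1 k) _ hc 0]
  exact Finset.sum_congr rfl (fun i _ => finrank_H0_O k (a i))

/-- a rank two bundle on the projective line with `h⁰ = 1` is `O ⊕ O(χ - 2)`. -/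
theorem nonempty_iso_of_h0_eq_one (E : (P1 k).Modules) (hE : FlatMod.IsFinLocFreeOfRank 2 E)
    (h0 : Module.finrank k (Coh.HH (P1 k) E 0) = 1) :
    Nonempty (E ≅ ∐ fun i : Fin 2 => O k (![0, Curv2.euler k (P1 k) E - 2] i)) := by
  obtain ⟨d, ⟨hd, ⟨α⟩⟩, -⟩ := grothendieck_splitting k 2 E hE
  haveI : E.IsQuasicoherent := (Curve.isCoh_of_rank hE).1
  have h1 := finrank_H0_of_sigma_iso k E d α
  have h2 := euler_of_sigma_iso k E d α
  rw [h0, Fin.sum_univ_two] at h1
  rw [Fin.sum_univ_two] at h2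
  have h01 : d 1 ≤ d 0 := hd (by decide : (0 : Fin 2) ≤ 1)
  have hd0 : d 0 = 0 := by omega
  have hd1 : d 1 = Curv2.euler k (P1 k) E - 2 := by omega
  have : d = ![0, Curv2.euler k (P1 k) E - 2] := by
    funext i
    fin_cases i
    · simpa using hd0
    · simpa using hd1
  rw [← this]
  exact ⟨α⟩

section Cover

variable {C : Scheme.{u}} [C.Over (Spec (CommRingCat.of k))]
  [IsProper (C ↘ Spec (CommRingCat.of k))]
  (f : C ⟶ P1 k) (hf : f ≫ CohB1.ProjSpace.toSpec 1 k = C ↘ Spec (CommRingCat.of k))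
  [IsFinite f] [Flat f] [LocallyOfFinitePresentation f]
  (hrk : ∀ y : ↥(P1 k), f.finrank y = 2)

include hf hrk in
/-- the direct image of the structure sheaf of a double cover of the projective line with
`h⁰(O) = 1` is `O ⊕ O(-g-1)`. -/
theorem nonempty_push_unit_iso (hdim : topologicalKrullDim C ≤ 1)
    (h0 : Module.finrank k (Coh.HH C (Coh.structureModule C) 0) = 1) :
    Nonempty ((Scheme.Modules.pushforward f).obj (Coh.structureModule C) ≅
      ∐ fun i : Fin 2 => O k (![0, -(Curv2.genus k C : ℤ) - 1] i)) := by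
  haveI : f.IsOver (Spec (CommRingCat.of k)) := ⟨hf⟩
  have hM : FlatMod.IsFinLocFreeOfRank 2
      ((Scheme.Modules.pushforward f).obj (Coh.structureModule C)) :=
    ((Groth.Agent.H6.Cov.s19692 f 2).mp ⟨⟨inferInstance, inferInstance, inferInstance⟩, hrk⟩).2
  haveI : (Coh.structureModule C).IsQuasicoherent := (PF.isCoh_unitMod C).1
  obtain ⟨ℓ⟩ := Groth.Agent.H5.Curve3.nonempty_HH_push_linearEquiv k f (Coh.structureModule C) 0
  have h0' : Module.finrank k (Coh.HH (P1 k)
      ((Scheme.Modules.pushforward f).obj (Coh.structureModule C)) 0) = 1 := by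
    rw [ℓ.finrank_eq, h0]
  have hχ : Curv2.euler k (P1 k) ((Scheme.Modules.pushforward f).obj (Coh.structureModule C)) =
      -(Curv2.genus k C : ℤ) - 1 + 2 := by
    rw [euler_push_of_isAffineHom k f (Coh.structureModule C),
      Curve.euler_eq_sub k C hdim (Coh.structureModule C), h0]
    unfold Curv2.genus
    push_cast
    ring
  obtain ⟨α⟩ := nonempty_iso_of_h0_eq_one k _ hM h0'
  rw [hχ, add_sub_cancel_right] at α
  exact ⟨α⟩

include hf hrk in
/-- the sections of the pullback of `O(n)` to a double cover of the projective line with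
`h⁰(O) = 1`. -/
theorem finrank_H0_pullback_twist (hdim : topologicalKrullDim C ≤ 1)
    (h0 : Module.finrank k (Coh.HH C (Coh.structureModule C) 0) = 1) (n : ℤ) :
    Module.finrank k (Coh.HH C ((Scheme.Modules.pullback f).obj (O k n)) 0) =
      (n + 1).toNat + (n - (Curv2.genus k C : ℤ)).toNat := by
  haveI : f.IsOver (Spec (CommRingCat.of k)) := ⟨hf⟩
  obtain ⟨α⟩ := nonempty_push_unit_iso k f hf hrk hdim h0
  have hpb : PicF.IsInvertible ((Scheme.Modules.pullback f).obj (O k n)) :=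
    isInvertible_pullback f (isInv_O k n)
  haveI := qc_of_isInvertible _ hpb
  obtain ⟨ℓ⟩ := Groth.Agent.H5.Curve3.nonempty_HH_push_linearEquiv k f
    ((Scheme.Modules.pullback f).obj (O k n)) 0
  have e1 : CohB1.tensorMod (O k n) ((Scheme.Modules.pushforward f).obj (unitMod C)) ≅
      (Scheme.Modules.pushforward f).obj ((Scheme.Modules.pullback f).obj (O k n)) :=
    (projIsoL f (O k n) (Curve.isFinLocFree_of_rank (rank_O k n))).app (unitMod C) ≪≫
      (Scheme.Modules.pushforward f).mapIso (SecTwist.unitorR _)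
  have e2 := (LT (O k n)).mapIso α
  have h1 := ℓ.finrank_eq
  have h2 := Curve2.finrank_HH_iso k (P1 k) e1 0
  have h3 := Curve2.finrank_HH_iso k (P1 k) e2 0
  have h4 := finrank_H0_tensor_sigma k n ![0, -(Curv2.genus k C : ℤ) - 1]
  rw [Fin.sum_univ_two] at h4
  simp only [Matrix.cons_val_zero, Matrix.cons_val_one] at h4
  rw [← h1, ← h2]
  refine h3.trans (h4.trans ?_)
  congr 2 <;> ring

end Cover

/-- `(f^* O(1))^{⊗ r} ≅ f^* O(r)`. -/
theorem nonempty_tensorPow_pullback_iso {X : Scheme.{u}} (f : X ⟶ P1 k) (r : ℕ) :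
    Nonempty (CohB1.tensorPow ((Scheme.Modules.pullback f).obj (O k 1)) r ≅
      (Scheme.Modules.pullback f).obj (O k (r : ℤ))) := by
  obtain ⟨β⟩ := Groth.Agent.H1.TwCov.nonempty_twist_iso_tensorPow_of_cov1
    (Groth.Agent.H5.IntN.cov1_poly 1 k) r
  exact ⟨(pbTensorPowIso f (O k 1) (isInv_O k 1) r).symm ≪≫
    (Scheme.Modules.pullback f).mapIso β.symm⟩

/-- **S14340**: the sections of the powers of the `g¹₂` of a hyperelliptic curve. -/
theorem finrank_H0_tensorPow_pullback_twist (C : Scheme.{u}) [C.Over (Spec (CommRingCat.of k))]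
    [IsProper (C ↘ Spec (CommRingCat.of k))] [Smooth (C ↘ Spec (CommRingCat.of k))]
    [GeometricallyConnected (C ↘ Spec (CommRingCat.of k))] (hC : topologicalKrullDim C = 1)
    (g : ℕ) (hg : Curv2.genus k C = g) (f : C ⟶ P1 k)
    (hf : f ≫ CohB1.ProjSpace.toSpec 1 k = C ↘ Spec (CommRingCat.of k)) [IsFinite f] [Flat f]
    (hrk : ∀ y : ↥(P1 k), Scheme.Hom.finrank f y = 2) (r : ℕ) (hr : r + 1 ≤ g) :
    Module.finrank k (Coh.HH C (CohB1.tensorPow ((Scheme.Modules.pullback f).obj (O k 1)) r) 0) =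
      r + 1 := by
  haveI : GeometricallyReduced (C ↘ Spec (CommRingCat.of k)) :=
    geometricallyReduced_of_smooth k _
  have h0 := FF.finrank_HH0_eq_one k C
  haveI : LocallyOfFiniteType (f ≫ CohB1.ProjSpace.toSpec 1 k) := by rw [hf]; infer_instance
  haveI : LocallyOfFiniteType f := locallyOfFiniteType_of_comp f (CohB1.ProjSpace.toSpec 1 k)
  haveI : IsNoetherian (P1 k) := Curve2.isNoetherian_of_proper k (P1 k)
  haveI : LocallyOfFinitePresentation f :=
    LocallyOfFinitePresentation.iff_locallyOfFiniteType.mpr inferInstance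
  obtain ⟨β⟩ := nonempty_tensorPow_pullback_iso k f r
  rw [Curve2.finrank_HH_iso k C β 0, finrank_H0_pullback_twist k f hf hrk hC.le h0, hg]
  omega

end Groth.Agent.H5.Gro
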