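import Mathlib
import Groth.Agent.Lib.Lead.QC.LocFree3
import Groth.Agent.Lib.Lead.QC.Push

/-!
# Direct images of finite locally free modules along finite flat morphisms.
-/

set_option autoImplicit false
set_option linter.style.haveILetI false
universe u
open CategoryTheory CategoryTheory.Limits AlgebraicGeometry TopologicalSpace Opposite

namespace Groth.Agent.H5.Gro

open Groth.Agent.LD Groth.Agent.LD.QC

/-- the direct image of a finite locally free module along a finite flat morphism to a locally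
Noetherian scheme is finite locally free. -/
theorem isFinLocFree_pushforward {X Y : Scheme.{u}} (f : X ⟶ Y) [IsFinite f] [Flat f]
    [IsLocallyNoetherian Y] (L : X.Modules) (hL : FlatMod.IsFinLocFree L) :
    FlatMod.IsFinLocFree ((Scheme.Modules.pushforward f).obj L) := by
  haveI : L.IsQuasicoherent := qc_of_isFinLocFree L hL
  haveI : ((Scheme.Modules.pushforward f).obj L).IsQuasicoherent := qc_pushforward f L
  apply isFinLocFree_of_projective_sections
  intro y
  obtain ⟨V, hV, hyV, -⟩ := exists_isAffineOpen_mem_and_subset (x := y) (U := ⊤) trivial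
  refine ⟨V, hV, hyV, ?_⟩
  obtain ⟨hfp, hfl⟩ := (isFinLocFree_iff_sections L).mp hL (f ⁻¹ᵁ V) (hV.preimage f)
  have hfin : (f.app V).hom.Finite := f.finite_app V hV
  have hflat : (f.app V).hom.Flat := by
    have := HasRingHomProperty.appLE (P := @Flat) f inferInstance ⟨V, hV⟩
      ⟨f ⁻¹ᵁ V, hV.preimage f⟩ le_rfl
    rwa [← Scheme.Hom.app_eq_appLE] at this
  letI : Algebra Γ(Y, V) Γ(X, f ⁻¹ᵁ V) := (f.app V).hom.toAlgebra
  haveI : Module.Finite Γ(Y, V) Γ(X, f ⁻¹ᵁ V) := hfin
  haveI : Module.Flat Γ(Y, V) Γ(X, f ⁻¹ᵁ V) := hflat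
  letI mB : Module Γ(X, f ⁻¹ᵁ V) Γ((Scheme.Modules.pushforward f).obj L, V) :=
    inferInstanceAs (Module Γ(X, f ⁻¹ᵁ V) Γ(L, f ⁻¹ᵁ V))
  haveI : IsScalarTower Γ(Y, V) Γ(X, f ⁻¹ᵁ V) Γ((Scheme.Modules.pushforward f).obj L, V) := by
    refine ⟨fun r b m => ?_⟩
    change (r • b) • m = r • (b • m)
    rw [pushforward_smul f L V r (b • m)]
    rw [Algebra.smul_def, mul_smul]
    rfl
  haveI : Module.FinitePresentation Γ(X, f ⁻¹ᵁ V) Γ((Scheme.Modules.pushforward f).obj L, V) := hfp
  haveI : Module.Flat Γ(X, f ⁻¹ᵁ V) Γ((Scheme.Modules.pushforward f).obj L, V) := hfl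
  haveI : Module.Finite Γ(X, f ⁻¹ᵁ V) Γ((Scheme.Modules.pushforward f).obj L, V) := inferInstance
  haveI hF : Module.Finite Γ(Y, V) Γ((Scheme.Modules.pushforward f).obj L, V) :=
    Module.Finite.trans Γ(X, f ⁻¹ᵁ V) _
  haveI : Module.Flat Γ(Y, V) Γ((Scheme.Modules.pushforward f).obj L, V) :=
    Module.Flat.trans Γ(Y, V) Γ(X, f ⁻¹ᵁ V) _
  haveI : IsNoetherianRing Γ(Y, V) := IsLocallyNoetherian.component_noetherian ⟨V, hV⟩
  haveI : Module.FinitePresentation Γ(Y, V) Γ((Scheme.Modules.pushforward f).obj L, V) :=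
    Module.finitePresentation_of_finite _ _
  exact ⟨hF, Module.Flat.projective_of_finitePresentation⟩

end Groth.Agent.H5.Gro
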