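import Mathlib
import Groth.Agent.Lib.Helper5.Gro.Hyp1
import Groth.Agent.Lib.Helper5.Gro.PushLF
import Groth.Agent.Lib.Helper5.Curve4.VB2

/-!
# The direct image of an invertible module on a double cover of the projective line of genus one.
-/

set_option autoImplicit false
set_option linter.style.haveILetI false
universe u
open CategoryTheory CategoryTheory.Limits AlgebraicGeometry TopologicalSpace Opposite

namespace Groth.Agent.H5.Gro.Ell

open Groth.Agent.LD Groth.Agent.LD.QC Groth.Agent.H5.Curve2 Groth.Agent.H5.Curve4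
  Groth.Agent.H5.Curve6 Groth.Agent.H5.DegC Twist Groth.Agent.LD.TW Groth.Agent.LD.PN
  Groth.Agent.H5.Gro

variable (k : Type u) [Field k] {E : Scheme.{u}} [E.Over (Spec (CommRingCat.of k))]
  [IsProper (E ↘ Spec (CommRingCat.of k))]
  (π : E ⟶ P1 k) (hπ : π ≫ CohB1.ProjSpace.toSpec 1 k = E ↘ Spec (CommRingCat.of k))
  [IsFinite π] [Flat π]

/-- the twist `π^* O(n) ⊗ L`. -/
noncomputable abbrev tw (L : E.Modules) (n : ℤ) : E.Modules :=
  CohB1.tensorMod ((Scheme.Modules.pullback π).obj (O k n)) L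

/-- the direct image of a twist is a sum of twisting sheaves. -/
noncomputable def pushTwIso {r : ℕ} (L : E.Modules) (a : Fin r → ℤ)
    (α : (Scheme.Modules.pushforward π).obj L ≅ ∐ fun i => O k (a i)) (n : ℤ) :
    (Scheme.Modules.pushforward π).obj (tw k π L n) ≅ ∐ fun i => O k (n + a i) :=
  ((projIsoL π (O k n) (Curve.isFinLocFree_of_rank (rank_O k n))).app L).symm ≪≫
    (LT (O k n)).mapIso α ≪≫ tensorSigmaIso k n a

include hπ in
theorem euler_tw {r : ℕ} (L : E.Modules) [L.IsQuasicoherent] (a : Fin r → ℤ)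
    (α : (Scheme.Modules.pushforward π).obj L ≅ ∐ fun i => O k (a i)) (n : ℤ) :
    Curv2.euler k E (tw k π L n) = ∑ i, (n + a i + 1) := by
  haveI : π.IsOver (Spec (CommRingCat.of k)) := ⟨hπ⟩
  haveI : ((Scheme.Modules.pullback π).obj (O k n)).IsQuasicoherent :=
    qc_of_isInvertible _ (isInvertible_pullback π (isInv_O k n))
  haveI : (tw k π L n).IsQuasicoherent := inferInstance
  rw [← euler_push_of_isAffineHom k π (tw k π L n)]
  haveI : ((Scheme.Modules.pushforward π).obj (tw k π L n)).IsQuasicoherent :=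
    qc_pushforward π _
  exact euler_of_sigma_iso k _ _ (pushTwIso k π L a α n)

include hπ in
theorem finrank_H0_tw {r : ℕ} (L : E.Modules) [L.IsQuasicoherent] (a : Fin r → ℤ)
    (α : (Scheme.Modules.pushforward π).obj L ≅ ∐ fun i => O k (a i)) (n : ℤ) :
    Module.finrank k (Coh.HH E (tw k π L n) 0) = ∑ i, (n + a i + 1).toNat := by
  haveI : π.IsOver (Spec (CommRingCat.of k)) := ⟨hπ⟩
  haveI : ((Scheme.Modules.pullback π).obj (O k n)).IsQuasicoherent :=
    qc_of_isInvertible _ (isInvertible_pullback π (isInv_O k n))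
  haveI : (tw k π L n).IsQuasicoherent := inferInstance
  obtain ⟨ℓ⟩ := Groth.Agent.H5.Curve3.nonempty_HH_push_linearEquiv k π (tw k π L n) 0
  rw [← ℓ.finrank_eq]
  exact finrank_H0_of_sigma_iso k _ _ (pushTwIso k π L a α n)

section Genus1

variable [IsIntegral E] [LocallyOfFinitePresentation π] (hrk : ∀ y : ↥(P1 k), π.finrank y = 2)
  (hdim : topologicalKrullDim E ≤ 1)
  (h0 : Module.finrank k (Coh.HH E (Coh.structureModule E) 0) = 1)
  (hg : Curv2.genus k E = 1)

include hπ hrk hdim h0 hg in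
/-- the degree of `π^* O(n)` on a double cover of genus one. -/
theorem deg_pullback_twist (n : ℤ) :
    Curv2.deg k E ((Scheme.Modules.pullback π).obj (O k n)) 1 = 2 * n := by
  obtain ⟨α⟩ := nonempty_push_unit_iso k π hπ hrk hdim h0
  rw [hg] at α
  haveI : (Coh.structureModule E).IsQuasicoherent := (PF.isCoh_unitMod E).1
  have h1 := euler_tw k π hπ (Coh.structureModule E) _ α n
  rw [Fin.sum_univ_two] at h1
  simp only [Matrix.cons_val_zero, Matrix.cons_val_one] at h1
  have h2 : Curv2.euler k E (tw k π (Coh.structureModule E) n) =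
      Curv2.euler k E ((Scheme.Modules.pullback π).obj (O k n)) :=
    Curve.euler_iso k E (SecTwist.unitorR _)
  have h3 := Curve.euler_eq_sub k E hdim (Coh.structureModule E)
  have hg' : Module.finrank k (Coh.HH E (Coh.structureModule E) 1) = 1 := hg
  rw [h0, hg'] at h3
  unfold Curv2.deg
  rw [← h2, h1, h3]
  push_cast
  ring

include hπ hrk hdim h0 hg in
theorem deg_tw (L : E.Modules) (hL : PicF.IsInvertible L) (n : ℤ) :
    Curv2.deg k E (tw k π L n) 1 = 2 * n + Curv2.deg k E L 1 := by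
  rw [Curve2.deg_tensor k E hdim (isInvertible_pullback π (isInv_O k n)) hL,
    deg_pullback_twist k π hπ hrk hdim h0 hg n]

include hdim in
/-- an invertible module of negative degree has no sections. -/
theorem finrank_H0_eq_zero_of_deg_neg (M : E.Modules) (hM : PicF.IsInvertible M)
    (hdeg : Curv2.deg k E M 1 < 0) : Module.finrank k (Coh.HH E M 0) = 0 := by
  by_contra hne
  have hnt : Nontrivial (Coh.HH E M 0) := Module.nontrivial_of_finrank_pos (Nat.pos_of_ne_zero hne)
  obtain ⟨s, hs⟩ := Curve2.exists_section_ne_zero_of_nontrivial_H0 k E M hnt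
  have h := (Curve.deg_le_of_ne_zero k E hdim (Curve.isInvertible_structureModule E) hM s hs).1
  rw [Curve.deg_structureModule] at h
  omega

include hdim in
/-- an invertible module of degree zero with a nonzero section is trivial. -/
theorem nonempty_iso_of_deg_zero (M : E.Modules) (hM : PicF.IsInvertible M)
    (hdeg : Curv2.deg k E M 1 = 0) (hne : Module.finrank k (Coh.HH E M 0) ≠ 0) :
    Nonempty (unitMod E ≅ M) := by
  have hnt : Nontrivial (Coh.HH E M 0) := Module.nontrivial_of_finrank_pos (Nat.pos_of_ne_zero hne)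
  obtain ⟨s, hs⟩ := Curve2.exists_section_ne_zero_of_nontrivial_H0 k E M hnt
  have h := (Curve.deg_le_of_ne_zero k E hdim (Curve.isInvertible_structureModule E) hM s hs).2
  rw [Curve.deg_structureModule] at h
  haveI := h hdeg.symm
  exact ⟨asIso s⟩

include hπ hrk hdim h0 hg in
/-- the direct image of an invertible module on a double cover of genus one splits as
`O(a₀) ⊕ O(a₁)` with `a₀ + a₁ + 2 = deg L`. -/
theorem exists_split (L : E.Modules) (hL : PicF.IsInvertible L) :
    ∃ a : Fin 2 → ℤ, a 1 ≤ a 0 ∧ a 0 + a 1 + 2 = Curv2.deg k E L 1 ∧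
      Nonempty ((Scheme.Modules.pushforward π).obj L ≅ ∐ fun i => O k (a i)) := by
  haveI : IsNoetherian (P1 k) := Curve2.isNoetherian_of_proper k (P1 k)
  haveI : L.IsQuasicoherent := qc_of_isInvertible L hL
  have hLF := isFinLocFree_pushforward π L (Curve.isFinLocFree_of_rank ((isInvertible_iff L).mp hL))
  obtain ⟨r, hr⟩ := Curve4.exists_rank hLF
  obtain ⟨a, ⟨ha, ⟨α⟩⟩, -⟩ := grothendieck_splitting k r _ hr
  have h3 := Curve.euler_eq_sub k E hdim (Coh.structureModule E)
  have hg' : Module.finrank k (Coh.HH E (Coh.structureModule E) 1) = 1 := hg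
  rw [h0, hg'] at h3
  have key : ∀ n : ℤ, ∑ i, (n + a i + 1) = 2 * n + Curv2.deg k E L 1 := by
    intro n
    rw [← euler_tw k π hπ L a α n, ← deg_tw k π hπ hrk hdim h0 hg L hL n]
    unfold Curv2.deg
    rw [h3]
    push_cast
    ring
  have k0 := key 0
  have k1 := key 1
  have hr2 : (r : ℤ) = 2 := by
    have : ∑ i : Fin r, ((1 : ℤ) + a i + 1) - ∑ i : Fin r, ((0 : ℤ) + a i + 1) = (r : ℤ) := by
      rw [← Finset.sum_sub_distrib]
      simp
    rw [k0, k1] at this
    omega
  obtain rfl : r = 2 := by exact_mod_cast hr2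
  refine ⟨a, ha (by decide : (0 : Fin 2) ≤ 1), ?_, ⟨α⟩⟩
  rw [Fin.sum_univ_two] at k0
  omega

/-- rewriting the index function. -/
lemma sigma_iso_of_eq (a b : Fin 2 → ℤ) (h0' : a 0 = b 0) (h1 : a 1 = b 1) :
    Nonempty ((∐ fun i => O k (a i)) ≅ ∐ fun i => O k (b i)) := by
  have : a = b := by
    funext i
    fin_cases i
    · exact h0'
    · exact h1
  rw [this]
  exact ⟨Iso.refl _⟩

/-- untwisting: `π^* O(-e) ⊗ L ≅ O` gives `L ≅ π^* O(e)`. -/
lemma nonempty_iso_pullback_of_tw (L : E.Modules) [L.IsQuasicoherent] (e : ℤ)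
    (β : unitMod E ≅ tw k π L (-e)) :
    Nonempty (L ≅ (Scheme.Modules.pullback π).obj (O k e)) := by
  haveI : ((Scheme.Modules.pullback π).obj (O k e)).IsQuasicoherent :=
    qc_of_isInvertible _ (isInvertible_pullback π (isInv_O k e))
  haveI : ((Scheme.Modules.pullback π).obj (O k (-e))).IsQuasicoherent :=
    qc_of_isInvertible _ (isInvertible_pullback π (isInv_O k (-e)))
  -- π^*O(e) ≅ π^*O(e) ⊗ O ≅ π^*O(e) ⊗ (π^*O(-e) ⊗ L) ≅ (π^*O(e) ⊗ π^*O(-e)) ⊗ L ≅ π^*O(0) ⊗ L ≅ L
  have e0 : CohB1.tensorMod ((Scheme.Modules.pullback π).obj (O k e)) (unitMod E) ≅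
      (Scheme.Modules.pullback π).obj (O k e) :=
    SecTwist.unitorR ((Scheme.Modules.pullback π).obj (O k e))
  have e1' : CohB1.tensorMod ((Scheme.Modules.pullback π).obj (O k e)) (unitMod E) ≅
      CohB1.tensorMod ((Scheme.Modules.pullback π).obj (O k e)) (tw k π L (-e)) :=
    tensorIso' (Iso.refl ((Scheme.Modules.pullback π).obj (O k e))) β
  have e1 : (Scheme.Modules.pullback π).obj (O k e) ≅
      CohB1.tensorMod ((Scheme.Modules.pullback π).obj (O k e)) (tw k π L (-e)) :=
    e0.symm ≪≫ e1'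
  have e2 : CohB1.tensorMod ((Scheme.Modules.pullback π).obj (O k e)) (tw k π L (-e)) ≅
      CohB1.tensorMod (CohB1.tensorMod ((Scheme.Modules.pullback π).obj (O k e))
        ((Scheme.Modules.pullback π).obj (O k (-e)))) L := (tensorAssoc _ _ _).symm
  have e3 : CohB1.tensorMod ((Scheme.Modules.pullback π).obj (O k e))
        ((Scheme.Modules.pullback π).obj (O k (-e))) ≅ unitMod E :=
    Groth.Agent.H5.IntN.pbTwistTensorIso π e (-e) 0 (by ring) ≪≫
      (Scheme.Modules.pullback π).mapIso (zeroIso k) ≪≫ pbUnitIso π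
  have e4 : CohB1.tensorMod (CohB1.tensorMod ((Scheme.Modules.pullback π).obj (O k e))
        ((Scheme.Modules.pullback π).obj (O k (-e)))) L ≅ CohB1.tensorMod (unitMod E) L :=
    tensorIso' e3 (Iso.refl L)
  exact ⟨(e1 ≪≫ e2 ≪≫ e4 ≪≫ unitorL L).symm⟩


include hπ hrk hdim h0 hg in
/-- **S16520**: the direct image of an invertible module on a double cover of genus one. -/
theorem main (L : E.Modules) (hL : PicF.IsInvertible L) (d : ℤ) (hd : Curv2.deg k E L 1 = d) :
    (∀ e : ℤ, d = 2 * e + 1 → Nonempty ((Scheme.Modules.pushforward π).obj L ≅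
        ∐ fun j : Fin 2 => O k (![e, e - 1] j))) ∧
    (∀ e : ℤ, d = 2 * e → Nonempty (L ≅ (Scheme.Modules.pullback π).obj (O k e)) →
        Nonempty ((Scheme.Modules.pushforward π).obj L ≅
          ∐ fun j : Fin 2 => O k (![e, e - 2] j))) ∧
    (∀ e : ℤ, d = 2 * e → IsEmpty (L ≅ (Scheme.Modules.pullback π).obj (O k e)) →
        Nonempty ((Scheme.Modules.pushforward π).obj L ≅
          ∐ fun j : Fin 2 => O k (![e - 1, e - 1] j))) := by
  haveI : L.IsQuasicoherent := qc_of_isInvertible L hL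
  obtain ⟨a, ha, hsum, ⟨α⟩⟩ := exists_split k π hπ hrk hdim h0 hg L hL
  rw [hd] at hsum
  have hinv : ∀ n : ℤ, PicF.IsInvertible (tw k π L n) := fun n =>
    isInvertible_tensorMod (isInvertible_pullback π (isInv_O k n)) hL
  refine ⟨?_, ?_, ?_⟩
  · intro e he
    have hdeg : Curv2.deg k E (tw k π L (-e - 1)) 1 < 0 := by
      rw [deg_tw k π hπ hrk hdim h0 hg L hL, hd]; omega
    have hz := finrank_H0_eq_zero_of_deg_neg k hdim _ (hinv _) hdeg
    rw [finrank_H0_tw k π hπ L a α, Fin.sum_univ_two] at hz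
    obtain ⟨β⟩ := sigma_iso_of_eq k a ![e, e - 1] (by simp; omega) (by simp; omega)
    exact ⟨α ≪≫ β⟩
  · intro e he ⟨γ⟩
    obtain ⟨α₀⟩ := nonempty_push_unit_iso k π hπ hrk hdim h0
    rw [hg] at α₀
    have e1 : CohB1.tensorMod (O k e) ((Scheme.Modules.pushforward π).obj (unitMod E)) ≅
        (Scheme.Modules.pushforward π).obj ((Scheme.Modules.pullback π).obj (O k e)) :=
      (projIsoL π (O k e) (Curve.isFinLocFree_of_rank (rank_O k e))).app (unitMod E) ≪≫
        (Scheme.Modules.pushforward π).mapIso (SecTwist.unitorR _)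
    have e2 := (LT (O k e)).mapIso α₀
    obtain ⟨β⟩ := sigma_iso_of_eq k (fun i => e + ![0, -((1 : ℕ) : ℤ) - 1] i) ![e, e - 2]
      (by simp) (by simp; ring)
    exact ⟨(Scheme.Modules.pushforward π).mapIso γ ≪≫ e1.symm ≪≫ e2 ≪≫
      tensorSigmaIso k e _ ≪≫ β⟩
  · intro e he hemp
    have hdeg : Curv2.deg k E (tw k π L (-e)) 1 = 0 := by
      rw [deg_tw k π hπ hrk hdim h0 hg L hL, hd]; omega
    have hz : Module.finrank k (Coh.HH E (tw k π L (-e)) 0) = 0 := by
      by_contra hne
      obtain ⟨β⟩ := nonempty_iso_of_deg_zero k hdim _ (hinv _) hdeg hne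
      obtain ⟨γ⟩ := nonempty_iso_pullback_of_tw k π L e β
      exact hemp.false γ
    rw [finrank_H0_tw k π hπ L a α, Fin.sum_univ_two] at hz
    obtain ⟨β⟩ := sigma_iso_of_eq k a ![e - 1, e - 1] (by simp; omega) (by simp; omega)
    exact ⟨α ≪≫ β⟩

end Genus1

end Groth.Agent.H5.Gro.Ell
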