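import Groth.Agent.Lib.Helper5.Gro.HypCore

/-!
# The algebraic core in characteristic different from two: completing the square.
-/

set_option autoImplicit false
universe u
open Polynomial LaurentPolynomial

namespace Groth.Agent.H5.Gro.HypCore

variable {k : Type*} [Field k]

/-- `q(T) ↦ T^N q(T⁻¹)` on Laurent polynomials is the reflection. -/
lemma invert_toLaurent_reflect (q : k[X]) (N : ℕ) (hq : q.natDegree ≤ N) :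
    invert (toLaurent (reflect N q)) = T (-(N : ℤ)) * toLaurent q := by
  ext n
  rw [invert_apply, coeff_T_mul]
  by_cases hn : 0 ≤ n + N
  · obtain ⟨j, hj⟩ := Int.eq_ofNat_of_zero_le hn
    have e1 : n - -(N : ℤ) = (j : ℤ) := by omega
    rw [e1, coeff_toLaurent_nat]
    by_cases hjN : j ≤ N
    · have e2 : -n = ((N - j : ℕ) : ℤ) := by omega
      rw [e2, coeff_toLaurent_nat, coeff_reflect, revAt_le (by omega)]
      congr 1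
      omega
    · have e2 : -n < 0 := by omega
      rw [coeff_toLaurent_neg _ _ e2]
      exact (coeff_eq_zero_of_natDegree_lt (by omega)).symm
  · have e1 : n - -(N : ℤ) < 0 := by omega
    rw [coeff_toLaurent_neg _ _ e1]
    obtain ⟨m, hm⟩ := Int.eq_ofNat_of_zero_le (show 0 ≤ -n by omega)
    rw [hm, coeff_toLaurent_nat, coeff_reflect]
    have : N < m := by omega
    rw [revAt_eq_self_of_lt this]
    exact coeff_eq_zero_of_natDegree_lt (by omega)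

/-- **the algebraic core, characteristic different from two.** -/
theorem core2 {R₀ R₁ R₀₁ A₀ A₁ A₀₁ : Type*} [CommRing R₀] [CommRing R₁] [CommRing R₀₁]
    [CommRing A₀] [CommRing A₁] [CommRing A₀₁] [IsDomain A₁] [IsIntegrallyClosed A₁]
    (r₀ : R₀ →+* R₀₁) (r₁ : R₁ →+* R₀₁) (σ₀ : R₀ →+* A₀) (σ₁ : R₁ →+* A₁) (σ₀₁ : R₀₁ →+* A₀₁)
    (ρ₀ : A₀ →+* A₀₁) (ρ₁ : A₁ →+* A₀₁)
    (h₀ : ∀ a, ρ₀ (σ₀ a) = σ₀₁ (r₀ a)) (h₁ : ∀ a, ρ₁ (σ₁ a) = σ₀₁ (r₁ a))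
    (φ₀ : k[X] ≃+* R₀) (φ₁ : k[X] ≃+* R₁) (ψ : R₀₁ →+* k[T;T⁻¹]) (hψ : Function.Injective ψ)
    (hψ₀ : ∀ a, ψ (r₀ (φ₀ a)) = toLaurent a)
    (hψ₁ : ∀ b, ψ (r₁ (φ₁ b)) = invert (toLaurent b))
    (y₀ : A₀) (y₁ : A₁)
    (hs₀ : ∀ z : A₀, ∃ a b : R₀, z = σ₀ a + σ₀ b * y₀)
    (hs₁ : ∀ z : A₁, ∃ a b : R₁, z = σ₁ a + σ₁ b * y₁)
    (hi₁ : ∀ a b : R₁, σ₁ a + σ₁ b * y₁ = 0 → a = 0 ∧ b = 0)
    (hi₀₁ : ∀ a b : R₀₁, σ₀₁ a + σ₀₁ b * ρ₀ y₀ = 0 → a = 0 ∧ b = 0)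
    (N : ℕ) (hy : ρ₁ y₁ = σ₀₁ (r₁ (φ₁ X)) ^ N * ρ₀ y₀) (h2 : (2 : k) ≠ 0) :
    ∃ P Q : k[X], y₀ ^ 2 + σ₀ (φ₀ Q) * y₀ - σ₀ (φ₀ P) = 0 ∧
      max P.natDegree (2 * Q.natDegree) ≤ 2 * N ∧
      2 * N ≤ max P.natDegree (2 * Q.natDegree) + 1 ∧
      ∃ P' : k[X], (y₀ + σ₀ (φ₀ (Polynomial.C (2⁻¹ : k) * Q))) ^ 2 = σ₀ (φ₀ P') ∧
        P'.natDegree ≤ 2 * N ∧ 2 * N ≤ P'.natDegree + 1 := by
  obtain ⟨P, Q, hrel, hub, hlb⟩ := core r₀ r₁ σ₀ σ₁ σ₀₁ ρ₀ ρ₁ h₀ h₁ φ₀ φ₁ ψ hψ₀ hψ₁ y₀ y₁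
    hs₀ hs₁ hi₁ hi₀₁ N hy
  refine ⟨P, Q, hrel, hub, hlb, ?_⟩
  set Qh : k[X] := Polynomial.C (2⁻¹ : k) * Q with hQh
  have hQh2 : Polynomial.C (2 : k) * Qh = Q := by
    rw [hQh, ← mul_assoc, ← Polynomial.C_mul, mul_inv_cancel₀ h2, Polynomial.C_1, one_mul]
  have hQhdeg : Qh.natDegree ≤ N := by
    have h1 : Qh.natDegree ≤ Q.natDegree := by
      rw [hQh]; exact natDegree_C_mul_le _ _
    have h3 := le_max_right P.natDegree (2 * Q.natDegree)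
    omega
  have hr₀ : Function.Injective r₀ := by
    intro a b hab
    obtain ⟨a', rfl⟩ := φ₀.surjective a
    obtain ⟨b', rfl⟩ := φ₀.surjective b
    have := congrArg ψ hab
    rw [hψ₀, hψ₀] at this
    rw [toLaurent_injective this]
  -- the new generators
  set y₀' : A₀ := y₀ + σ₀ (φ₀ Qh) with hy₀'
  set y₁' : A₁ := y₁ + σ₁ (φ₁ (reflect N Qh)) with hy₁'
  have hkey : r₁ (φ₁ (reflect N Qh)) = r₁ (φ₁ X) ^ N * r₀ (φ₀ Qh) := by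
    apply hψ
    rw [map_mul, map_pow, hψ₁, hψ₁, hψ₀, toLaurent_X, invert_T, T_pow,
      invert_toLaurent_reflect Qh N hQhdeg]
    congr 2
    ring
  have hy' : ρ₁ y₁' = σ₀₁ (r₁ (φ₁ X)) ^ N * ρ₀ y₀' := by
    rw [hy₁', hy₀', map_add, map_add, hy, h₁, h₀, hkey, map_mul, map_pow]
    ring
  have hs₀' : ∀ z : A₀, ∃ a b : R₀, z = σ₀ a + σ₀ b * y₀' := by
    intro z
    obtain ⟨a, b, hab⟩ := hs₀ z
    refine ⟨a - b * φ₀ Qh, b, ?_⟩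
    rw [hab, hy₀', map_sub, map_mul]
    ring
  have hs₁' : ∀ z : A₁, ∃ a b : R₁, z = σ₁ a + σ₁ b * y₁' := by
    intro z
    obtain ⟨a, b, hab⟩ := hs₁ z
    refine ⟨a - b * φ₁ (reflect N Qh), b, ?_⟩
    rw [hab, hy₁', map_sub, map_mul]
    ring
  have hi₁' : ∀ a b : R₁, σ₁ a + σ₁ b * y₁' = 0 → a = 0 ∧ b = 0 := by
    intro a b hab
    have h3 : σ₁ (a + b * φ₁ (reflect N Qh)) + σ₁ b * y₁ = 0 := by
      rw [map_add, map_mul]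
      rw [hy₁'] at hab
      linear_combination hab
    obtain ⟨h4, h5⟩ := hi₁ _ _ h3
    refine ⟨?_, h5⟩
    rw [h5, zero_mul, add_zero] at h4
    exact h4
  have hi₀₁' : ∀ a b : R₀₁, σ₀₁ a + σ₀₁ b * ρ₀ y₀' = 0 → a = 0 ∧ b = 0 := by
    intro a b hab
    have h3 : σ₀₁ (a + b * r₀ (φ₀ Qh)) + σ₀₁ b * ρ₀ y₀ = 0 := by
      rw [map_add, map_mul]
      rw [hy₀', map_add, h₀] at hab
      linear_combination hab
    obtain ⟨h4, h5⟩ := hi₀₁ _ _ h3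
    refine ⟨?_, h5⟩
    rw [h5, zero_mul, add_zero] at h4
    exact h4
  obtain ⟨P'', Q'', hrel', hub', hlb'⟩ := core r₀ r₁ σ₀ σ₁ σ₀₁ ρ₀ ρ₁ h₀ h₁ φ₀ φ₁ ψ hψ₀ hψ₁ y₀' y₁'
    hs₀' hs₁' hi₁' hi₀₁' N hy'
  -- completing the square
  have hsq : y₀' ^ 2 = σ₀ (φ₀ (P + Qh ^ 2)) := by
    have e : σ₀ (φ₀ Q) = 2 * σ₀ (φ₀ Qh) := by
      rw [← hQh2, map_mul, map_mul]
      congr 1
      rw [show (Polynomial.C (2 : k) : k[X]) = 2 from map_ofNat Polynomial.C 2, map_ofNat, map_ofNat]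
    rw [hy₀', map_add, map_add, map_pow, map_pow]
    rw [e] at hrel
    linear_combination hrel
  -- uniqueness of the relation
  have hi₀' : ∀ a b : R₀, σ₀ a + σ₀ b * y₀' = 0 → a = 0 ∧ b = 0 := by
    intro a b hab
    have h3 := congrArg ρ₀ hab
    rw [map_add, map_mul, h₀, h₀, map_zero] at h3
    obtain ⟨h4, h5⟩ := hi₀₁' _ _ h3
    exact ⟨hr₀ (h4.trans (map_zero r₀).symm), hr₀ (h5.trans (map_zero r₀).symm)⟩
  have h6 : σ₀ (φ₀ (P + Qh ^ 2) - φ₀ P'') + σ₀ (φ₀ Q'') * y₀' = 0 := by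
    rw [map_sub, ← hsq]
    linear_combination hrel'
  obtain ⟨h7, h8⟩ := hi₀' _ _ h6
  have h9 : P'' = P + Qh ^ 2 := (φ₀.injective (sub_eq_zero.mp h7)).symm
  have h10 : Q'' = 0 := φ₀.injective (h8.trans (map_zero φ₀).symm)
  rw [h9, h10, natDegree_zero, mul_zero] at hub' hlb'
  refine ⟨P + Qh ^ 2, hsq, ?_, ?_⟩
  · exact (le_max_left _ _).trans hub'
  · rwa [max_eq_left (Nat.zero_le _)] at hlb'

end Groth.Agent.H5.Gro.HypCore
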