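import Mathlib

/-!
# The algebraic core of the affine equation of a double cover of the projective line.
-/

set_option autoImplicit false
universe u
open Polynomial LaurentPolynomial

namespace Groth.Agent.H5.Gro.HypCore

variable {k : Type*} [Field k]

lemma coeff_toLaurent_nat (p : k[X]) (n : ℕ) : (toLaurent p).coeff (n : ℤ) = p.coeff n := by
  rw [coeff_toLaurent]
  exact Finsupp.mapDomain_apply Nat.castEmbedding.injective _ n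

lemma coeff_toLaurent_neg (p : k[X]) (n : ℤ) (hn : n < 0) : (toLaurent p).coeff n = 0 := by
  rw [coeff_toLaurent]
  apply Finsupp.mapDomain_notin_range
  rintro ⟨m, hm⟩
  have : (m : ℤ) = n := hm
  omega

lemma coeff_T_mul (f : k[T;T⁻¹]) (m n : ℤ) : (T m * f).coeff n = f.coeff (n - m) := by
  change (AddMonoidAlgebra.single m 1 * f).coeff n = _
  rw [AddMonoidAlgebra.coeff_single_mul_apply, one_mul]
  congr 1
  ring

/-- if `p(T) = T^N p₁(T⁻¹)` then `deg p ≤ N` and `p₁` is the reflection of `p`. -/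
lemma reflect_of_eq (p p₁ : k[X]) (N : ℕ)
    (h : toLaurent p = T (N : ℤ) * invert (toLaurent p₁)) :
    p.natDegree ≤ N ∧ ∀ i : ℕ, i ≤ N → p₁.coeff i = p.coeff (N - i) := by
  have hc : ∀ j : ℤ, (toLaurent p).coeff j = (toLaurent p₁).coeff (N - j) := by
    intro j
    rw [h, coeff_T_mul, invert_apply]
    congr 1
    ring
  constructor
  · rw [natDegree_le_iff_coeff_eq_zero]
    intro j hj
    have h1 := hc (j : ℤ)
    rw [coeff_toLaurent_nat, coeff_toLaurent_neg _ _ (by omega)] at h1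
    exact h1
  · intro i hi
    have h1 := hc ((N - i : ℕ) : ℤ)
    rw [coeff_toLaurent_nat] at h1
    have h2 : (N : ℤ) - ((N - i : ℕ) : ℤ) = (i : ℤ) := by omega
    rw [h2, coeff_toLaurent_nat] at h1
    exact h1.symm

/-- **the algebraic core**: two charts of a double cover of the projective line. -/
theorem core {R₀ R₁ R₀₁ A₀ A₁ A₀₁ : Type*} [CommRing R₀] [CommRing R₁] [CommRing R₀₁]
    [CommRing A₀] [CommRing A₁] [CommRing A₀₁] [IsDomain A₁] [IsIntegrallyClosed A₁]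
    (r₀ : R₀ →+* R₀₁) (r₁ : R₁ →+* R₀₁) (σ₀ : R₀ →+* A₀) (σ₁ : R₁ →+* A₁) (σ₀₁ : R₀₁ →+* A₀₁)
    (ρ₀ : A₀ →+* A₀₁) (ρ₁ : A₁ →+* A₀₁)
    (h₀ : ∀ a, ρ₀ (σ₀ a) = σ₀₁ (r₀ a)) (h₁ : ∀ a, ρ₁ (σ₁ a) = σ₀₁ (r₁ a))
    (φ₀ : k[X] ≃+* R₀) (φ₁ : k[X] ≃+* R₁) (ψ : R₀₁ →+* k[T;T⁻¹])
    (hψ₀ : ∀ a, ψ (r₀ (φ₀ a)) = toLaurent a)
    (hψ₁ : ∀ b, ψ (r₁ (φ₁ b)) = invert (toLaurent b))
    (y₀ : A₀) (y₁ : A₁)
    (hs₀ : ∀ z : A₀, ∃ a b : R₀, z = σ₀ a + σ₀ b * y₀)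
    (hs₁ : ∀ z : A₁, ∃ a b : R₁, z = σ₁ a + σ₁ b * y₁)
    (hi₁ : ∀ a b : R₁, σ₁ a + σ₁ b * y₁ = 0 → a = 0 ∧ b = 0)
    (hi₀₁ : ∀ a b : R₀₁, σ₀₁ a + σ₀₁ b * ρ₀ y₀ = 0 → a = 0 ∧ b = 0)
    (N : ℕ) (hy : ρ₁ y₁ = σ₀₁ (r₁ (φ₁ X)) ^ N * ρ₀ y₀) :
    ∃ P Q : k[X], y₀ ^ 2 + σ₀ (φ₀ Q) * y₀ - σ₀ (φ₀ P) = 0 ∧
      max P.natDegree (2 * Q.natDegree) ≤ 2 * N ∧
      2 * N ≤ max P.natDegree (2 * Q.natDegree) + 1 := by
  obtain ⟨p₀, q₀, hpq₀⟩ := hs₀ (y₀ ^ 2)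
  obtain ⟨p₁, q₁, hpq₁⟩ := hs₁ (y₁ ^ 2)
  obtain ⟨P, rfl⟩ := φ₀.surjective p₀
  obtain ⟨Q, rfl⟩ := φ₀.surjective q₀
  obtain ⟨P₁, rfl⟩ := φ₁.surjective p₁
  obtain ⟨Q₁, rfl⟩ := φ₁.surjective q₁
  have hrel : y₀ ^ 2 + σ₀ (φ₀ (-Q)) * y₀ - σ₀ (φ₀ P) = 0 := by
    rw [hpq₀, map_neg, map_neg]; ring
  -- the relation on the overlap
  set u : R₀₁ := r₁ (φ₁ X) with hu
  have hψu : ψ u = T (-1) := by
    rw [hu, hψ₁, toLaurent_X, invert_T]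
  have e0 : ρ₀ y₀ ^ 2 = σ₀₁ (r₀ (φ₀ P)) + σ₀₁ (r₀ (φ₀ Q)) * ρ₀ y₀ := by
    rw [← map_pow, hpq₀, map_add, map_mul, h₀, h₀]
  have e1 : ρ₁ y₁ ^ 2 = σ₀₁ (r₁ (φ₁ P₁)) + σ₀₁ (r₁ (φ₁ Q₁)) * ρ₁ y₁ := by
    rw [← map_pow, hpq₁, map_add, map_mul, h₁, h₁]
  rw [hy] at e1
  have e2 : σ₀₁ (u ^ (2 * N) * r₀ (φ₀ P) - r₁ (φ₁ P₁)) +
      σ₀₁ (u ^ (2 * N) * r₀ (φ₀ Q) - u ^ N * r₁ (φ₁ Q₁)) * ρ₀ y₀ = 0 := by
    have : (σ₀₁ u ^ N * ρ₀ y₀) ^ 2 = σ₀₁ u ^ (2 * N) * ρ₀ y₀ ^ 2 := by ring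
    rw [this, e0] at e1
    simp only [map_sub, map_mul, map_pow]
    linear_combination e1
  obtain ⟨e3, e4⟩ := hi₀₁ _ _ e2
  have e5 := congrArg ψ e3
  have e6 := congrArg ψ e4
  rw [map_sub, map_mul, map_pow, map_zero, hψu, hψ₀, hψ₁, T_pow, sub_eq_zero] at e5
  rw [map_sub, map_mul, map_mul, map_pow, map_pow, map_zero, hψu, hψ₀, hψ₁, T_pow, T_pow,
    sub_eq_zero] at e6
  have e7 : toLaurent P = T ((2 * N : ℕ) : ℤ) * invert (toLaurent P₁) := by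
    rw [← e5, ← mul_assoc, ← T_add]
    have : ((2 * N : ℕ) : ℤ) + ((2 * N : ℕ) : ℤ) * (-1) = 0 := by ring
    rw [this, T_zero, one_mul]
  have e8 : toLaurent Q = T ((N : ℕ) : ℤ) * invert (toLaurent Q₁) := by
    have h := congrArg (fun z => T ((2 * N : ℕ) : ℤ) * z) e6
    beta_reduce at h
    rw [← mul_assoc, ← T_add, ← mul_assoc, ← T_add] at h
    have a1 : ((2 * N : ℕ) : ℤ) + ((2 * N : ℕ) : ℤ) * (-1) = 0 := by ring
    have a2 : ((2 * N : ℕ) : ℤ) + ((N : ℕ) : ℤ) * (-1) = (N : ℤ) := by push_cast; ring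
    rw [a1, a2, T_zero, one_mul] at h
    exact h
  obtain ⟨dP, cP⟩ := reflect_of_eq P P₁ (2 * N) e7
  obtain ⟨dQ, cQ⟩ := reflect_of_eq Q Q₁ N e8
  refine ⟨P, -Q, hrel, max_le dP (by rw [natDegree_neg]; omega), ?_⟩
  rw [natDegree_neg]
  -- the lower bound, from normality
  by_contra hlt
  rw [not_le] at hlt
  have hN : 1 ≤ N := by omega
  have hdP : P.natDegree + 2 ≤ 2 * N := by
    have := le_max_left P.natDegree (2 * Q.natDegree); omega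
  have hdQ : Q.natDegree + 1 ≤ N := by
    have := le_max_right P.natDegree (2 * Q.natDegree); omega
  have c0 : P₁.coeff 0 = 0 := by
    rw [cP 0 (by omega)]; exact coeff_eq_zero_of_natDegree_lt (by omega)
  have c1 : P₁.coeff 1 = 0 := by
    rw [cP 1 (by omega)]; exact coeff_eq_zero_of_natDegree_lt (by omega)
  have d0 : Q₁.coeff 0 = 0 := by
    rw [cQ 0 (by omega)]; exact coeff_eq_zero_of_natDegree_lt (by omega)
  obtain ⟨P₁', hP₁'⟩ : X ^ 2 ∣ P₁ := by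
    rw [X_pow_dvd_iff]
    intro d hd
    interval_cases d
    · exact c0
    · exact c1
  obtain ⟨Q₁', hQ₁'⟩ : X ∣ Q₁ := by
    rw [X_dvd_iff]; exact d0
  -- the element `y₁ / x` is integral
  set x : A₁ := σ₁ (φ₁ X) with hx
  have hσ₁ : Function.Injective σ₁ := by
    rw [injective_iff_map_eq_zero]
    intro a ha
    exact (hi₁ a 0 (by rw [ha, map_zero, zero_mul, add_zero])).1
  have hx0 : x ≠ 0 := by
    rw [hx]
    intro h
    have := hσ₁ (h.trans (map_zero σ₁).symm)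
    exact X_ne_zero (φ₁.injective (this.trans (map_zero φ₁).symm))
  have hrel₁ : y₁ ^ 2 - x * σ₁ (φ₁ Q₁') * y₁ - x ^ 2 * σ₁ (φ₁ P₁') = 0 := by
    have h1 : σ₁ (φ₁ P₁) = x ^ 2 * σ₁ (φ₁ P₁') := by
      rw [hP₁', map_mul, map_mul, map_pow, map_pow]
    have h2 : σ₁ (φ₁ Q₁) = x * σ₁ (φ₁ Q₁') := by
      rw [hQ₁', map_mul, map_mul]
    rw [← h1, ← h2, hpq₁]; ring
  let K := FractionRing A₁
  have hxK : algebraMap A₁ K x ≠ 0 := by
    rw [Ne, map_eq_zero_iff _ (IsFractionRing.injective A₁ K)]; exact hx0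
  set z : K := algebraMap A₁ K y₁ / algebraMap A₁ K x with hz
  have hzint : IsIntegral A₁ z := by
    refine ⟨X ^ 2 - Polynomial.C (σ₁ (φ₁ Q₁')) * X - Polynomial.C (σ₁ (φ₁ P₁')), ?_, ?_⟩
    · have : (X ^ 2 - Polynomial.C (σ₁ (φ₁ Q₁')) * X - Polynomial.C (σ₁ (φ₁ P₁')) : A₁[X]) =
          X ^ 2 + (-(Polynomial.C (σ₁ (φ₁ Q₁')) * X) - Polynomial.C (σ₁ (φ₁ P₁'))) := by ring
      rw [this]
      apply monic_X_pow_add
      refine lt_of_le_of_lt (degree_sub_le _ _) ?_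
      rw [degree_neg]
      refine max_lt (lt_of_le_of_lt (degree_C_mul_X_le _) (by norm_num)) ?_
      exact lt_of_le_of_lt degree_C_le (by norm_num)
    · simp only [Polynomial.eval₂_sub, Polynomial.eval₂_pow, Polynomial.eval₂_X,
        Polynomial.eval₂_mul, Polynomial.eval₂_C]
      have h := congrArg (algebraMap A₁ K) hrel₁
      simp only [map_sub, map_mul, map_pow, map_zero] at h
      have hz' : z * algebraMap A₁ K x = algebraMap A₁ K y₁ := by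
        rw [hz, div_mul_cancel₀ _ hxK]
      have hx2 : algebraMap A₁ K x ^ 2 ≠ 0 := pow_ne_zero 2 hxK
      apply mul_left_cancel₀ hx2
      rw [mul_zero]
      rw [← hz'] at h
      linear_combination h
  obtain ⟨w, hw⟩ := IsIntegrallyClosed.isIntegral_iff.mp hzint
  have hxw : x * w = y₁ := by
    apply IsFractionRing.injective A₁ K
    rw [map_mul, hw, hz, mul_div_cancel₀ _ hxK]
  obtain ⟨a, b, hab⟩ := hs₁ w
  have h3 : σ₁ (φ₁ X * a) + σ₁ (φ₁ X * b - 1) * y₁ = 0 := by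
    rw [map_mul, map_sub, map_mul, map_one, ← hx]
    rw [hab] at hxw
    linear_combination hxw
  obtain ⟨-, h4⟩ := hi₁ _ _ h3
  have h5 : X * φ₁.symm b = 1 := by
    apply φ₁.injective
    rw [map_mul, φ₁.apply_symm_apply, map_one]
    exact sub_eq_zero.mp h4
  exact not_isUnit_X (IsUnit.of_mul_eq_one _ h5)

end Groth.Agent.H5.Gro.HypCore
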