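import Mathlib

/-!
# A free algebra of rank two over a polynomial ring as a plane curve.
-/

set_option autoImplicit false
universe u

namespace Groth.Agent.H5.Gro.HypCore

open Polynomial

variable {k : Type u} [Field k]

/-- the equation. -/
noncomputable def eqn (P Q : k[X]) : MvPolynomial (Fin 2) k :=
  MvPolynomial.X 1 ^ 2 + Polynomial.aeval (MvPolynomial.X 0) Q * MvPolynomial.X 1 -
    Polynomial.aeval (MvPolynomial.X 0) P

lemma exists_reduce (P Q : k[X]) (G : MvPolynomial (Fin 2) k) :
    ∃ a b : k[X], Ideal.Quotient.mk (Ideal.span {eqn P Q}) G =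
      Ideal.Quotient.mk (Ideal.span {eqn P Q})
        (Polynomial.aeval (MvPolynomial.X 0 : MvPolynomial (Fin 2) k) a +
          Polynomial.aeval (MvPolynomial.X 0 : MvPolynomial (Fin 2) k) b * MvPolynomial.X 1) := by
  have hF : Ideal.Quotient.mk (Ideal.span {eqn P Q}) (MvPolynomial.X 1 ^ 2) =
      Ideal.Quotient.mk (Ideal.span {eqn P Q})
        (Polynomial.aeval (MvPolynomial.X 0 : MvPolynomial (Fin 2) k) P -
          Polynomial.aeval (MvPolynomial.X 0 : MvPolynomial (Fin 2) k) Q * MvPolynomial.X 1) := by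
    rw [Ideal.Quotient.eq]
    have : (MvPolynomial.X 1 ^ 2 - (Polynomial.aeval (MvPolynomial.X 0 : MvPolynomial (Fin 2) k) P -
          Polynomial.aeval (MvPolynomial.X 0 : MvPolynomial (Fin 2) k) Q * MvPolynomial.X 1)) =
        eqn P Q := by unfold eqn; ring
    rw [this]
    exact Ideal.subset_span rfl
  induction G using MvPolynomial.induction_on with
  | C c =>
    refine ⟨Polynomial.C c, 0, ?_⟩
    rw [Polynomial.aeval_C, map_zero, zero_mul, add_zero]
    rfl
  | add G₁ G₂ h₁ h₂ =>
    obtain ⟨a₁, b₁, e₁⟩ := h₁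
    obtain ⟨a₂, b₂, e₂⟩ := h₂
    refine ⟨a₁ + a₂, b₁ + b₂, ?_⟩
    rw [map_add, e₁, e₂, ← map_add, map_add (Polynomial.aeval _), map_add (Polynomial.aeval _)]
    congr 1
    ring
  | mul_X G i h =>
    obtain ⟨a, b, e⟩ := h
    fin_cases i
    · refine ⟨a * X, b * X, ?_⟩
      rw [map_mul, e, ← map_mul, map_mul (Polynomial.aeval _), map_mul (Polynomial.aeval _),
        Polynomial.aeval_X]
      congr 1
      simp only [Fin.zero_eta]
      ring
    · refine ⟨b * P, a - b * Q, ?_⟩
      have h1 : (Polynomial.aeval (MvPolynomial.X 0 : MvPolynomial (Fin 2) k) a +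
          Polynomial.aeval (MvPolynomial.X 0 : MvPolynomial (Fin 2) k) b * MvPolynomial.X 1) *
            MvPolynomial.X 1 =
          Polynomial.aeval (MvPolynomial.X 0 : MvPolynomial (Fin 2) k) a * MvPolynomial.X 1 +
          Polynomial.aeval (MvPolynomial.X 0 : MvPolynomial (Fin 2) k) b *
            MvPolynomial.X 1 ^ 2 := by ring
      simp only [Fin.mk_one]
      rw [map_mul, e, ← map_mul, h1, map_add, map_mul _ _ (MvPolynomial.X 1 ^ 2), hF, ← map_mul,
        ← map_add, map_mul (Polynomial.aeval _), map_sub (Polynomial.aeval _),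
        map_mul (Polynomial.aeval _)]
      congr 1
      ring

/-- **a free algebra with basis `1, y` over `k[t]` is the plane curve
`y² + Q(t) y = P(t)`.** -/
theorem exists_algEquiv {A : Type u} [CommRing A] [Algebra k A] (t y : A) (P Q : k[X])
    (hs : ∀ z : A, ∃ a b : k[X], z = Polynomial.aeval t a + Polynomial.aeval t b * y)
    (hi : ∀ a b : k[X], Polynomial.aeval t a + Polynomial.aeval t b * y = 0 → a = 0 ∧ b = 0)
    (hrel : y ^ 2 + Polynomial.aeval t Q * y - Polynomial.aeval t P = 0) :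
    Nonempty ((MvPolynomial (Fin 2) k ⧸ Ideal.span {eqn P Q}) ≃ₐ[k] A) := by
  let Φ : MvPolynomial (Fin 2) k →ₐ[k] A := MvPolynomial.aeval ![t, y]
  have hΦ0 : Φ (MvPolynomial.X 0) = t := by simp [Φ]
  have hΦ1 : Φ (MvPolynomial.X 1) = y := by simp [Φ]
  have hΦa : ∀ a : k[X], Φ (Polynomial.aeval (MvPolynomial.X 0) a) = Polynomial.aeval t a := by
    intro a
    rw [← Polynomial.aeval_algHom_apply, hΦ0]
  have hΦF : Φ (eqn P Q) = 0 := by
    unfold eqn
    rw [map_sub, map_add, map_pow, map_mul, hΦ1, hΦa, hΦa]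
    exact hrel
  have hsurj : Function.Surjective Φ := by
    intro z
    obtain ⟨a, b, rfl⟩ := hs z
    refine ⟨Polynomial.aeval (MvPolynomial.X 0) a +
      Polynomial.aeval (MvPolynomial.X 0) b * MvPolynomial.X 1, ?_⟩
    rw [map_add, map_mul, hΦa, hΦa, hΦ1]
  have hker : Ideal.span {eqn P Q} = RingHom.ker (Φ : MvPolynomial (Fin 2) k →+* A) := by
    apply le_antisymm
    · rw [Ideal.span_le, Set.singleton_subset_iff]
      exact hΦF
    · intro G hG
      obtain ⟨a, b, e⟩ := exists_reduce P Q G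
      rw [Ideal.Quotient.eq] at e
      have h1 : Φ (G - (Polynomial.aeval (MvPolynomial.X 0) a +
          Polynomial.aeval (MvPolynomial.X 0) b * MvPolynomial.X 1)) = 0 := by
        have hle : Ideal.span {eqn P Q} ≤ RingHom.ker (Φ : MvPolynomial (Fin 2) k →+* A) := by
          rw [Ideal.span_le, Set.singleton_subset_iff]
          exact hΦF
        exact hle e
      rw [map_sub, (show Φ G = 0 from hG), zero_sub, neg_eq_zero, map_add, map_mul, hΦa, hΦa,
        hΦ1] at h1
      obtain ⟨rfl, rfl⟩ := hi a b h1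
      simpa using e
  exact ⟨(Ideal.quotientEquivAlgOfEq k hker).trans (Ideal.quotientKerAlgEquivOfSurjective hsurj)⟩

end Groth.Agent.H5.Gro.HypCore
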