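import Mathlib
import Groth.Agent.Lib.Lead.PN.ThetaSmul

/-!
# Sections of the twisting sheaves over basic opens as Laurent polynomials: multiplicativity.
-/

set_option autoImplicit false
universe u
open CategoryTheory AlgebraicGeometry TopologicalSpace Opposite AddMonoidAlgebra

namespace Groth.Agent.H5.Gro.TM

open Groth.Agent.LD.PN Groth.Agent.LD.TW Twist HomogeneousLocalization

section Graded

variable {R A : Type u} [CommRing R] [CommRing A] [Algebra R A] {𝒜 : ℕ → Submodule R A}
  [GradedAlgebra 𝒜]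

theorem IsHomog.mul {g : A} {m : ℕ} {d d' : ℤ} {ℓ ℓ' : Localization.Away g}
    (h : IsHomog 𝒜 g m d ℓ) (h' : IsHomog 𝒜 g m d' ℓ') : IsHomog 𝒜 g m (d + d') (ℓ * ℓ') := by
  obtain ⟨k, j, b, hb, hj, rfl⟩ := h
  obtain ⟨k', j', b', hb', hj', rfl⟩ := h'
  refine ⟨k + k', j + j', b * b', SetLike.mul_mem_graded hb hb', by push_cast; rw [hj, hj']; ring,
    ?_⟩
  rw [Localization.mk_mul, gpow_mul]

theorem IsHomog.cast {g : A} {m : ℕ} {d d' : ℤ} (hd : d = d') {ℓ : Localization.Away g}
    (h : IsHomog 𝒜 g m d ℓ) : IsHomog 𝒜 g m d' ℓ := hd ▸ h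

theorem isHomog_one (g : A) (m : ℕ) : IsHomog 𝒜 g m 0 (1 : Localization.Away g) :=
  ⟨0, 0, 1, SetLike.GradedOne.one_mem, by simp, by
    rw [← Localization.mk_one]
    congr 1
    exact Subtype.ext (pow_zero g).symm⟩

theorem isHomog_val {g : A} {m : ℕ} (hg : g ∈ 𝒜 m) (z : Away 𝒜 g) :
    IsHomog 𝒜 g m 0 z.val := by
  obtain ⟨k, a, ha, rfl⟩ := Away.mk_surjective 𝒜 hg z
  refine ⟨k, k • m, a, ha, by simp, ?_⟩
  rw [Away.val_mk]
  rfl

end Graded

variable {n : ℕ} {R : Type u} [CommRing R]

section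

variable {c c' : Fin (n+1) →₀ ℕ} {v : Fin (n+1)} (hc : c = c' + Finsupp.single v 1)
  {V : Opens (ProjectiveSpectrum.top (CohB1.polyGrading n R))}
  (hV : V = ProjectiveSpectrum.basicOpen (CohB1.polyGrading n R) (G c))

include hc in
/-- `theta` is multiplicative. -/
theorem theta_mulSec (d d' : ℤ) (u : sectN (𝒜 := (CohB1.polyGrading n R)) d (op V))
    (s : sectN (𝒜 := (CohB1.polyGrading n R)) d' (op V)) :
    theta n R c (d + d') hV.le (mulSec le_rfl u s) =
      theta n R c d hV.le u * theta n R c d' hV.le s := by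
  obtain ⟨ℓ, h, h'⟩ := exists_isRep hc d hV u
  obtain ⟨ℓ₂, h₂, h₂'⟩ := exists_isRep hc d' hV s
  rw [theta_eq hc d hV u h h', theta_eq hc d' hV s h₂ h₂',
    theta_eq hc (d + d') hV (mulSec le_rfl u s) (IsHomog.mul h h₂) (fun x => by
      rw [map_mul, ← h' x, ← h₂' x]; rfl), map_mul]

/-- `theta` does not see casts of the degree. -/
theorem theta_castSec {d d' : ℤ} (hd : d = d')
    (u : sectN (𝒜 := (CohB1.polyGrading n R)) d (op V)) :
    theta n R c d' hV.le (castSec hd u) = theta n R c d hV.le u := by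
  subst hd; rfl

end

section Fn

variable (c : Fin (n+1) →₀ ℕ) (hcpos : 0 < Finsupp.degree c)

/-- the functions on `D₊(X^c)` are the degree zero part of the localization. -/
noncomputable def awayEquiv :
    Away (CohB1.polyGrading n R) (G c) ≃+*
      Γ(Proj (CohB1.polyGrading n R), Proj.basicOpen (CohB1.polyGrading n R) (G c)) :=
  RingEquiv.ofBijective (Proj.awayToSection (CohB1.polyGrading n R) (G c)).hom
    (awayToSection_bijective (G_mem c) hcpos)

/-- the Laurent polynomial of a function on `D₊(X^c)`. -/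
noncomputable def thetaO :
    Γ(Proj (CohB1.polyGrading n R), Proj.basicOpen (CohB1.polyGrading n R) (G c)) →+* Lau n R :=
  (lam c).comp ((algebraMap (Away (CohB1.polyGrading n R) (G c))
    (Localization.Away (G c : MvPolynomial (Fin (n+1)) R))).comp
      (awayEquiv c hcpos).symm.toRingHom)

lemma thetaO_injective : Function.Injective (thetaO (R := R) c hcpos) := by
  intro a b hab
  have h1 := lam_injective c hab
  have h2 : ((awayEquiv c hcpos).symm a).val = ((awayEquiv c hcpos).symm b).val := h1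
  exact (awayEquiv c hcpos).symm.injective (HomogeneousLocalization.val_injective _ h2)

variable {c} {c' : Fin (n+1) →₀ ℕ} {v : Fin (n+1)} (hc : c = c' + Finsupp.single v 1)

include hc in
lemma thetaO_eq (a : Γ(Proj (CohB1.polyGrading n R),
    Proj.basicOpen (CohB1.polyGrading n R) (G c))) :
    thetaO c hcpos a = theta n R c 0 le_rfl
      (ofO (op (ProjectiveSpectrum.basicOpen (CohB1.polyGrading n R) (G c))) a) := by
  obtain ⟨z, rfl⟩ := (awayEquiv c hcpos).surjective a
  have h1 : thetaO c hcpos (awayEquiv c hcpos z) = lam c z.val := by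
    change lam c (((awayEquiv c hcpos).symm (awayEquiv c hcpos z)).val) = _
    rw [RingEquiv.symm_apply_apply]
  rw [h1]
  symm
  exact theta_eq hc 0 rfl _ (isHomog_val (G_mem c) z)
    (fun x => (ofO_val _ _ x).trans (awayToSection_val (G c) z x))

include hc in
/-- `theta` is semilinear over the functions, pointwise form. -/
theorem theta_smul_aux (d : ℤ)
    (a : O (𝒜 := (CohB1.polyGrading n R))
      (op (ProjectiveSpectrum.basicOpen (CohB1.polyGrading n R) (G c))))
    (s t : sectN (𝒜 := (CohB1.polyGrading n R)) d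
      (op (ProjectiveSpectrum.basicOpen (CohB1.polyGrading n R) (G c))))
    (hst : ∀ x : ProjectiveSpectrum.basicOpen (CohB1.polyGrading n R) (G c),
      ((t.1 x : twistAt (CohB1.polyGrading n R) d x.1) : Loc (CohB1.polyGrading n R) x.1) =
        (a.1 x).val * ((s.1 x : twistAt (CohB1.polyGrading n R) d x.1) :
          Loc (CohB1.polyGrading n R) x.1)) :
    theta n R c d le_rfl t = theta n R c 0 le_rfl
      (ofO (op (ProjectiveSpectrum.basicOpen (CohB1.polyGrading n R) (G c))) a) *
        theta n R c d le_rfl s := by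
  obtain ⟨ℓ, h, h'⟩ := exists_isRep hc 0 rfl
    (ofO (op (ProjectiveSpectrum.basicOpen (CohB1.polyGrading n R) (G c))) a)
  obtain ⟨ℓ₂, h₂, h₂'⟩ := exists_isRep hc d rfl s
  rw [theta_eq hc 0 rfl _ h h', theta_eq hc d rfl s h₂ h₂',
    theta_eq hc d rfl t (IsHomog.cast (zero_add d) (IsHomog.mul h h₂)) (fun x => by
      rw [map_mul, ← h' x, ← h₂' x, ofO_val]
      exact hst x), map_mul]

include hc in
/-- `theta` is semilinear over the functions. -/
theorem theta_smul_fn (d : ℤ) (a : Γ(Proj (CohB1.polyGrading n R),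
      Proj.basicOpen (CohB1.polyGrading n R) (G c)))
    (s : Γ(twist (CohB1.polyGrading n R) d, Proj.basicOpen (CohB1.polyGrading n R) (G c))) :
    theta n R c d le_rfl (show sectN (𝒜 := (CohB1.polyGrading n R)) d
      (op (ProjectiveSpectrum.basicOpen (CohB1.polyGrading n R) (G c))) from a • s) =
    thetaO c hcpos a * theta n R c d le_rfl (show sectN (𝒜 := (CohB1.polyGrading n R)) d
      (op (ProjectiveSpectrum.basicOpen (CohB1.polyGrading n R) (G c))) from s) := by
  rw [thetaO_eq hcpos hc]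
  exact theta_smul_aux hc d a _ _ (fun x => smul_sec_val a s x)

include hc in
/-- `thetaO` is compatible with restriction to smaller basic opens. -/
theorem thetaO_res {c'' c₂ : Fin (n+1) →₀ ℕ} (hc₂ : c₂ = c + c'') (hcpos₂ : 0 < Finsupp.degree c₂)
    (hle : Proj.basicOpen (CohB1.polyGrading n R) (G c₂) ≤
      Proj.basicOpen (CohB1.polyGrading n R) (G c))
    (a : Γ(Proj (CohB1.polyGrading n R), Proj.basicOpen (CohB1.polyGrading n R) (G c))) :
    thetaO c₂ hcpos₂ ((Proj (CohB1.polyGrading n R)).presheaf.map (homOfLE hle).op a) =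
      thetaO c hcpos a := by
  have hc₂' : c₂ = (c' + c'') + Finsupp.single v 1 := by rw [hc₂, hc, add_right_comm]
  rw [thetaO_eq hcpos₂ hc₂', thetaO_eq hcpos hc]
  exact theta_res hc hc₂ 0 rfl rfl hle
    (ofO (op (ProjectiveSpectrum.basicOpen (CohB1.polyGrading n R) (G c))) a)

include hc in
/-- `thetaO` on constants. -/
theorem thetaO_toGlobal (r : R) :
    thetaO c hcpos ((Proj (CohB1.polyGrading n R)).presheaf.map
      (homOfLE (le_top : Proj.basicOpen (CohB1.polyGrading n R) (G c) ≤ ⊤)).op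
        (show Γ(Proj (CohB1.polyGrading n R), ⊤) from
          Coh.toGlobal (CohB1.ProjSpace.toSpec n R) r)) = single 0 r := by
  rw [thetaO_eq hcpos hc]
  have hH : IsHomog (CohB1.polyGrading n R) (G c) (Finsupp.degree c) 0
      (Localization.mk (MvPolynomial.C r) (gpow (G c) 0)) :=
    ⟨0, 0, MvPolynomial.C r, (MvPolynomial.mem_homogeneousSubmodule _ _).2
      (MvPolynomial.isHomogeneous_C _ r), by simp, rfl⟩
  rw [theta_eq hc 0 rfl _ hH (fun x => by
    rw [ofO_val, toLoc_mk (G c) x.1 x.2 _ 0 (pow_notMem _ x.1 x.2 0)]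
    refine (toGlobal_val (n := n) r x.1).trans ?_
    congr 1)]
  change lam c (Localization.mk _ (⟨G c ^ 0, 0, rfl⟩ : Submonoid.powers (G c))) = _
  rw [lam_mk, zero_smul, neg_zero, mono_zero, mul_one]
  have := ιL_monomial (n := n) (R := R) 0 r
  rw [map_zero] at this
  exact this

include hc in
theorem thetaO_mem_Mset (a : Γ(Proj (CohB1.polyGrading n R),
    Proj.basicOpen (CohB1.polyGrading n R) (G c))) : thetaO c hcpos a ∈ Mset n R c 0 := by
  rw [thetaO_eq hcpos hc]
  exact theta_mem_Mset hc 0 rfl _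

include hc in
theorem exists_thetaO_eq (ℓ : Lau n R) (hℓ : ℓ ∈ Mset n R c 0) :
    ∃ a : Γ(Proj (CohB1.polyGrading n R), Proj.basicOpen (CohB1.polyGrading n R) (G c)),
      thetaO c hcpos a = ℓ := by
  obtain ⟨s, hs⟩ := exists_theta_eq hc 0
    (V := ProjectiveSpectrum.basicOpen (CohB1.polyGrading n R) (G c)) rfl ℓ hℓ
  obtain ⟨a, rfl⟩ := ofO_surjective _ s
  exact ⟨a, (thetaO_eq hcpos hc a).trans hs⟩

end Fn

end Groth.Agent.H5.Gro.TM
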