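import Mathlib
import Groth.Agent.Lib.Helper5.Gro.ThetaMul

/-!
# The two standard charts of the projective line, explicitly.
-/

set_option autoImplicit false
universe u
open CategoryTheory AlgebraicGeometry TopologicalSpace Opposite AddMonoidAlgebra

namespace Groth.Agent.H5.Gro.P1C

open Groth.Agent.LD.PN Groth.Agent.LD.TW Twist Groth.Agent.H5.Gro.TM Polynomial LaurentPolynomial

variable (k : Type u) [Field k]

/-- the projective line as a `Proj`. -/
noncomputable abbrev PP : Scheme.{u} := Proj (CohB1.polyGrading 1 k)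

/-- exponent vectors. -/
noncomputable abbrev c0 : Fin 2 →₀ ℕ := Finsupp.single 0 1
noncomputable abbrev c1 : Fin 2 →₀ ℕ := Finsupp.single 1 1
noncomputable abbrev c01 : Fin 2 →₀ ℕ := Finsupp.single 0 1 + Finsupp.single 1 1

lemma hc0 : c0 = 0 + Finsupp.single 0 1 := (zero_add _).symm
lemma hc1 : c1 = 0 + Finsupp.single 1 1 := (zero_add _).symm
lemma hc01 : c01 = c0 + Finsupp.single 1 1 := rfl
lemma hc01' : c01 = c1 + c0 := add_comm _ _

lemma deg_c0 : 0 < Finsupp.degree c0 := by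
  rw [Finsupp.degree_single]; exact one_pos
lemma deg_c1 : 0 < Finsupp.degree c1 := by
  rw [Finsupp.degree_single]; exact one_pos
lemma deg_c01 : 0 < Finsupp.degree c01 := by
  rw [map_add, Finsupp.degree_single, Finsupp.degree_single]; norm_num

/-- the charts. -/
noncomputable abbrev U0 : (PP k).Opens := Proj.basicOpen (CohB1.polyGrading 1 k) (G c0)
noncomputable abbrev U1 : (PP k).Opens := Proj.basicOpen (CohB1.polyGrading 1 k) (G c1)
noncomputable abbrev U01 : (PP k).Opens := Proj.basicOpen (CohB1.polyGrading 1 k) (G c01)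

lemma G_c01 : (G c01 : MvPolynomial (Fin 2) k) = G c0 * G c1 := G_add _ _

lemma U01_le_U0 : U01 k ≤ U0 k := by
  change Proj.basicOpen _ _ ≤ Proj.basicOpen _ _
  rw [G_c01, Proj.basicOpen_mul]
  exact inf_le_left

lemma U01_le_U1 : U01 k ≤ U1 k := by
  change Proj.basicOpen _ _ ≤ Proj.basicOpen _ _
  rw [G_c01, Proj.basicOpen_mul]
  exact inf_le_right

/-- the `T₁`-exponent. -/
noncomputable def toT : Lau 1 k →+* k[T;T⁻¹] :=
  AddMonoidAlgebra.mapDomainRingHom k (Finsupp.applyAddHom (1 : Fin 2))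

lemma toT_single (e : Fin 2 →₀ ℤ) (r : k) : toT k (single e r) = single (e 1) r :=
  AddMonoidAlgebra.mapDomain_single

/-- the structure maps. -/
noncomputable def κ (V : (PP k).Opens) : k →+* Γ(PP k, V) :=
  ((PP k).presheaf.map (homOfLE (le_top : V ≤ ⊤)).op).hom.comp
    ((CohB1.ProjSpace.toSpec 1 k).appTop.hom.comp (Scheme.ΓSpecIso (CommRingCat.of k)).inv.hom)

/-- functions on the charts as Laurent polynomials in one variable. -/
noncomputable def ψ0 : Γ(PP k, U0 k) →+* k[T;T⁻¹] := (toT k).comp (thetaO c0 deg_c0)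
noncomputable def ψ1 : Γ(PP k, U1 k) →+* k[T;T⁻¹] := (toT k).comp (thetaO c1 deg_c1)
noncomputable def ψ01 : Γ(PP k, U01 k) →+* k[T;T⁻¹] := (toT k).comp (thetaO c01 deg_c01)

lemma ψ01_res0 (a : Γ(PP k, U0 k)) :
    ψ01 k ((PP k).presheaf.map (homOfLE (U01_le_U0 k)).op a) = ψ0 k a := by
  change toT k (thetaO c01 deg_c01 _) = toT k (thetaO c0 deg_c0 a)
  rw [thetaO_res deg_c0 hc0 rfl deg_c01 (U01_le_U0 k) a]

lemma ψ01_res1 (a : Γ(PP k, U1 k)) :
    ψ01 k ((PP k).presheaf.map (homOfLE (U01_le_U1 k)).op a) = ψ1 k a := by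
  change toT k (thetaO c01 deg_c01 _) = toT k (thetaO c1 deg_c1 a)
  rw [thetaO_res deg_c1 hc1 hc01' deg_c01 (U01_le_U1 k) a]

lemma thetaO_κ0 (r : k) : thetaO c0 deg_c0 (κ k (U0 k) r) = single 0 r :=
  thetaO_toGlobal deg_c0 hc0 r

lemma thetaO_κ1 (r : k) : thetaO c1 deg_c1 (κ k (U1 k) r) = single 0 r :=
  thetaO_toGlobal deg_c1 hc1 r

lemma ψ0_κ (r : k) : ψ0 k (κ k (U0 k) r) = LaurentPolynomial.C r := by
  change toT k (thetaO c0 deg_c0 _) = _
  rw [thetaO_κ0, toT_single]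
  rfl

lemma ψ1_κ (r : k) : ψ1 k (κ k (U1 k) r) = LaurentPolynomial.C r := by
  change toT k (thetaO c1 deg_c1 _) = _
  rw [thetaO_κ1, toT_single]
  rfl

/-- the exponent of `T₁ / T₀`. -/
noncomputable abbrev ε : Fin 2 →₀ ℤ := Finsupp.single 1 1 - Finsupp.single 0 1

lemma mono_ε_mem : mono 1 k ε ∈ Mset 1 k c0 0 := by
  intro e he
  have : e = ε := by
    by_contra h
    apply he
    change (single ε (1 : k)).coeff e = 0
    rw [AddMonoidAlgebra.coeff_single, Finsupp.single_apply, if_neg (Ne.symm h)]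
  subst this
  refine ⟨by simp [ε, Finsupp.degree_eq_sum], fun j hj => ?_⟩
  fin_cases j
  · simp [c0] at hj
  · simp [ε]

lemma mono_neg_ε_mem : mono 1 k (-ε) ∈ Mset 1 k c1 0 := by
  intro e he
  have : e = -ε := by
    by_contra h
    apply he
    change (single (-ε) (1 : k)).coeff e = 0
    rw [AddMonoidAlgebra.coeff_single, Finsupp.single_apply, if_neg (Ne.symm h)]
  subst this
  refine ⟨by simp [ε, Finsupp.degree_eq_sum], fun j hj => ?_⟩
  fin_cases j
  · simp [ε]
  · simp [c1] at hj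

/-- the coordinate `T₁ / T₀` on `D₊(T₀)`. -/
noncomputable def t0 : Γ(PP k, U0 k) := (exists_thetaO_eq deg_c0 hc0 _ (mono_ε_mem k)).choose

lemma thetaO_t0 : thetaO c0 deg_c0 (t0 k) = mono 1 k ε :=
  (exists_thetaO_eq deg_c0 hc0 _ (mono_ε_mem k)).choose_spec

/-- the coordinate `T₀ / T₁` on `D₊(T₁)`. -/
noncomputable def t1 : Γ(PP k, U1 k) := (exists_thetaO_eq deg_c1 hc1 _ (mono_neg_ε_mem k)).choose

lemma thetaO_t1 : thetaO c1 deg_c1 (t1 k) = mono 1 k (-ε) :=
  (exists_thetaO_eq deg_c1 hc1 _ (mono_neg_ε_mem k)).choose_spec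

lemma ψ0_t0 : ψ0 k (t0 k) = T 1 := by
  change toT k (thetaO c0 deg_c0 _) = _
  rw [thetaO_t0, toT_single]
  have : (ε 1 : ℤ) = 1 := by simp [ε]
  rw [this]
  rfl

lemma ψ1_t1 : ψ1 k (t1 k) = T (-1) := by
  change toT k (thetaO c1 deg_c1 _) = _
  rw [thetaO_t1, toT_single]
  have : ((-ε) 1 : ℤ) = -1 := by simp [ε]
  rw [this]
  rfl

/-- the polynomial ring maps to the functions on the charts. -/
noncomputable def φ0 : k[X] →+* Γ(PP k, U0 k) := Polynomial.eval₂RingHom (κ k (U0 k)) (t0 k)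
noncomputable def φ1 : k[X] →+* Γ(PP k, U1 k) := Polynomial.eval₂RingHom (κ k (U1 k)) (t1 k)

lemma ψ0_φ0 (a : k[X]) : ψ0 k (φ0 k a) = toLaurent a := by
  have : (ψ0 k).comp (φ0 k) = toLaurent := by
    apply Polynomial.ringHom_ext
    · intro r
      change ψ0 k (Polynomial.eval₂ _ _ (Polynomial.C r)) = _
      rw [Polynomial.eval₂_C, ψ0_κ, Polynomial.toLaurent_C]
    · change ψ0 k (Polynomial.eval₂ _ _ Polynomial.X) = _
      rw [Polynomial.eval₂_X, ψ0_t0, Polynomial.toLaurent_X]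
  exact DFunLike.congr_fun this a

lemma ψ1_φ1 (a : k[X]) : ψ1 k (φ1 k a) = invert (toLaurent a) := by
  have : (ψ1 k).comp (φ1 k) = (invert (R := k)).toRingEquiv.toRingHom.comp toLaurent := by
    apply Polynomial.ringHom_ext
    · intro r
      change ψ1 k (Polynomial.eval₂ _ _ (Polynomial.C r)) = invert (toLaurent (Polynomial.C r))
      rw [Polynomial.eval₂_C, ψ1_κ, Polynomial.toLaurent_C, invert_C]
    · change ψ1 k (Polynomial.eval₂ _ _ Polynomial.X) = invert (toLaurent Polynomial.X)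
      rw [Polynomial.eval₂_X, ψ1_t1, Polynomial.toLaurent_X, invert_T]
  exact DFunLike.congr_fun this a

lemma φ0_injective : Function.Injective (φ0 k) := by
  intro a b hab
  apply Polynomial.toLaurent_injective
  rw [← ψ0_φ0, ← ψ0_φ0, hab]

lemma φ1_injective : Function.Injective (φ1 k) := by
  intro a b hab
  apply Polynomial.toLaurent_injective
  apply (invert (R := k)).injective
  rw [← ψ1_φ1, ← ψ1_φ1, hab]

lemma thetaO_φ0_monomial (j : ℕ) (r : k) :
    thetaO c0 deg_c0 (φ0 k (Polynomial.monomial j r)) = single (j • ε) r := by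
  rw [← Polynomial.C_mul_X_pow_eq_monomial]
  change thetaO c0 deg_c0 (Polynomial.eval₂ _ _ _) = _
  rw [Polynomial.eval₂_mul, Polynomial.eval₂_C, Polynomial.eval₂_pow, Polynomial.eval₂_X, map_mul,
    map_pow, thetaO_κ0, thetaO_t0, AddMonoidAlgebra.single_pow, one_pow,
    AddMonoidAlgebra.single_mul_single, zero_add, mul_one]

lemma thetaO_φ1_monomial (j : ℕ) (r : k) :
    thetaO c1 deg_c1 (φ1 k (Polynomial.monomial j r)) = single (j • (-ε)) r := by
  rw [← Polynomial.C_mul_X_pow_eq_monomial]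
  change thetaO c1 deg_c1 (Polynomial.eval₂ _ _ _) = _
  rw [Polynomial.eval₂_mul, Polynomial.eval₂_C, Polynomial.eval₂_pow, Polynomial.eval₂_X, map_mul,
    map_pow, thetaO_κ1, thetaO_t1, AddMonoidAlgebra.single_pow, one_pow,
    AddMonoidAlgebra.single_mul_single, zero_add, mul_one]

lemma eq_nsmul_ε (e : Fin 2 →₀ ℤ) (hdeg : Finsupp.degree e = 0) (h1 : 0 ≤ e 1) :
    e = (e 1).toNat • ε := by
  rw [Finsupp.degree_eq_sum, Fin.sum_univ_two] at hdeg
  ext j
  fin_cases j
  · simp only [Fin.zero_eta, Finsupp.smul_apply, ε, Finsupp.sub_apply, Finsupp.single_apply]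
    simp
    omega
  · simp only [Fin.mk_one, Finsupp.smul_apply, ε, Finsupp.sub_apply, Finsupp.single_apply]
    simp
    omega

lemma eq_nsmul_neg_ε (e : Fin 2 →₀ ℤ) (hdeg : Finsupp.degree e = 0) (h0 : 0 ≤ e 0) :
    e = (e 0).toNat • (-ε) := by
  rw [Finsupp.degree_eq_sum, Fin.sum_univ_two] at hdeg
  ext j
  fin_cases j
  · simp only [Fin.zero_eta, Finsupp.smul_apply, ε, Finsupp.neg_apply, Finsupp.sub_apply,
      Finsupp.single_apply]
    simp
    omega
  · simp only [Fin.mk_one, Finsupp.smul_apply, ε, Finsupp.neg_apply, Finsupp.sub_apply,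
      Finsupp.single_apply]
    simp
    omega

lemma φ0_surjective : Function.Surjective (φ0 k) := by
  classical
  intro a
  have hmem := thetaO_mem_Mset deg_c0 hc0 a
  set ℓ := thetaO c0 deg_c0 a with hℓ
  refine ⟨∑ e ∈ ℓ.coeff.support, Polynomial.monomial (e 1).toNat (ℓ.coeff e), ?_⟩
  apply thetaO_injective c0 deg_c0
  rw [map_sum, map_sum, ← hℓ]
  conv_rhs => rw [← AddMonoidAlgebra.sum_coeff_single ℓ]
  rw [Finsupp.sum]
  refine Finset.sum_congr rfl (fun e he => ?_)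
  rw [thetaO_φ0_monomial]
  have h := hmem e (Finsupp.mem_support_iff.mp he)
  rw [← eq_nsmul_ε e h.1 (h.2 1 (by simp [c0]))]

lemma φ1_surjective : Function.Surjective (φ1 k) := by
  classical
  intro a
  have hmem := thetaO_mem_Mset deg_c1 hc1 a
  set ℓ := thetaO c1 deg_c1 a with hℓ
  refine ⟨∑ e ∈ ℓ.coeff.support, Polynomial.monomial (e 0).toNat (ℓ.coeff e), ?_⟩
  apply thetaO_injective c1 deg_c1
  rw [map_sum, map_sum, ← hℓ]
  conv_rhs => rw [← AddMonoidAlgebra.sum_coeff_single ℓ]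
  rw [Finsupp.sum]
  refine Finset.sum_congr rfl (fun e he => ?_)
  rw [thetaO_φ1_monomial]
  have h := hmem e (Finsupp.mem_support_iff.mp he)
  rw [← eq_nsmul_neg_ε e h.1 (h.2 0 (by simp [c1]))]

/-- the functions on the charts are polynomial rings. -/
noncomputable def φ0E : k[X] ≃+* Γ(PP k, U0 k) :=
  RingEquiv.ofBijective (φ0 k) ⟨φ0_injective k, φ0_surjective k⟩

noncomputable def φ1E : k[X] ≃+* Γ(PP k, U1 k) :=
  RingEquiv.ofBijective (φ1 k) ⟨φ1_injective k, φ1_surjective k⟩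

/-! ### Generators of the twisting sheaves on the charts -/

noncomputable abbrev δ0 : Fin 2 →₀ ℤ := Finsupp.single 0 1
noncomputable abbrev δ1 : Fin 2 →₀ ℤ := Finsupp.single 1 1

lemma mono_δ0_mem (m : ℤ) : mono 1 k (m • δ0) ∈ Mset 1 k c0 m := by
  intro e he
  have : e = m • δ0 := by
    by_contra h
    apply he
    change (single (m • δ0) (1 : k)).coeff e = 0
    rw [AddMonoidAlgebra.coeff_single, Finsupp.single_apply, if_neg (Ne.symm h)]
  subst this
  refine ⟨by simp [δ0, Finsupp.degree_eq_sum], fun j hj => ?_⟩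
  fin_cases j
  · simp [c0] at hj
  · simp [δ0]

lemma mono_δ1_mem (m : ℤ) : mono 1 k (m • δ1) ∈ Mset 1 k c1 m := by
  intro e he
  have : e = m • δ1 := by
    by_contra h
    apply he
    change (single (m • δ1) (1 : k)).coeff e = 0
    rw [AddMonoidAlgebra.coeff_single, Finsupp.single_apply, if_neg (Ne.symm h)]
  subst this
  refine ⟨by simp [δ1, Finsupp.degree_eq_sum], fun j hj => ?_⟩
  fin_cases j
  · simp [δ1]
  · simp [c1] at hj

/-- the generator `T₀^m` of `O(m)` on `D₊(T₀)`. -/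
noncomputable def e0 (m : ℤ) : sectN (𝒜 := CohB1.polyGrading 1 k) m
    (op (ProjectiveSpectrum.basicOpen (CohB1.polyGrading 1 k) (G c0))) :=
  (exists_theta_eq hc0 m rfl _ (mono_δ0_mem k m)).choose

lemma theta_e0 (m : ℤ) : theta 1 k c0 m le_rfl (e0 k m) = mono 1 k (m • δ0) :=
  (exists_theta_eq hc0 m rfl _ (mono_δ0_mem k m)).choose_spec

/-- the generator `T₁^m` of `O(m)` on `D₊(T₁)`. -/
noncomputable def e1 (m : ℤ) : sectN (𝒜 := CohB1.polyGrading 1 k) m
    (op (ProjectiveSpectrum.basicOpen (CohB1.polyGrading 1 k) (G c1))) :=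
  (exists_theta_eq hc1 m rfl _ (mono_δ1_mem k m)).choose

lemma theta_e1 (m : ℤ) : theta 1 k c1 m le_rfl (e1 k m) = mono 1 k (m • δ1) :=
  (exists_theta_eq hc1 m rfl _ (mono_δ1_mem k m)).choose_spec

section UnitSec

variable {k}
variable {c c' : Fin 2 →₀ ℕ} {v : Fin 2} (hc : c = c' + Finsupp.single v 1)
  (hcpos : 0 < Finsupp.degree c)

include hc hcpos in
/-- a section whose Laurent polynomial is invertible is pointwise invertible. -/
lemma isUnitSec_of_theta {m : ℤ}
    (u : sectN (𝒜 := CohB1.polyGrading 1 k) m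
      (op (ProjectiveSpectrum.basicOpen (CohB1.polyGrading 1 k) (G c))))
    (w : sectN (𝒜 := CohB1.polyGrading 1 k) (-m)
      (op (ProjectiveSpectrum.basicOpen (CohB1.polyGrading 1 k) (G c))))
    (h : theta 1 k c m le_rfl u * theta 1 k c (-m) le_rfl w = 1) : IsUnitSec u := by
  refine ⟨w, fun x => ?_⟩
  have hm : (0 : ℤ) = m + -m := by ring
  have h1 : mulSec le_rfl u w = castSec hm
      (ofO (op (ProjectiveSpectrum.basicOpen (CohB1.polyGrading 1 k) (G c))) 1) := by
    apply theta_injective hc (m + -m) rfl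
    rw [theta_mulSec hc rfl, h, theta_castSec rfl hm, ← thetaO_eq hcpos hc]
    exact (map_one (thetaO c hcpos)).symm
  have h2 := congrArg (fun s : sectN (𝒜 := CohB1.polyGrading 1 k) (m + -m)
    (op (ProjectiveSpectrum.basicOpen (CohB1.polyGrading 1 k) (G c))) =>
      ((s.1 x : twistAt (CohB1.polyGrading 1 k) (m + -m) x.1) :
        Loc (CohB1.polyGrading 1 k) x.1)) h1
  simp only [mulSec_apply, castSec_val, ofO_val] at h2
  refine h2.trans ?_
  exact HomogeneousLocalization.val_one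

end UnitSec

lemma isUnitSec_e0 (m : ℤ) : IsUnitSec (e0 k m) := by
  refine isUnitSec_of_theta hc0 deg_c0 (e0 k m) (e0 k (-m)) ?_
  rw [theta_e0, theta_e0, mono_mul_mono, neg_smul, add_neg_cancel]
  rfl

lemma isUnitSec_e1 (m : ℤ) : IsUnitSec (e1 k m) := by
  refine isUnitSec_of_theta hc1 deg_c1 (e1 k m) (e1 k (-m)) ?_
  rw [theta_e1, theta_e1, mono_mul_mono, neg_smul, add_neg_cancel]
  rfl

/-- the generators as sections of the modules. -/
noncomputable def E0 (m : ℤ) : Γ(twist (CohB1.polyGrading 1 k) m, U0 k) := e0 k m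
noncomputable def E1 (m : ℤ) : Γ(twist (CohB1.polyGrading 1 k) m, U1 k) := e1 k m

lemma isBasisOver_E0 (m : ℤ) :
    Groth.Agent.LD.QC.IsBasisOver (twist (CohB1.polyGrading 1 k) m) (U0 k) (E0 k m) :=
  (isUnitSec_e0 k m).isBasisOver

lemma isBasisOver_E1 (m : ℤ) :
    Groth.Agent.LD.QC.IsBasisOver (twist (CohB1.polyGrading 1 k) m) (U1 k) (E1 k m) :=
  (isUnitSec_e1 k m).isBasisOver

/-- the transition: `T₁^{-N} = (T₀/T₁)^N T₀^{-N}`. -/
lemma E1_res (N : ℕ) :
    (twist (CohB1.polyGrading 1 k) (-(N : ℤ))).presheaf.map (homOfLE (U01_le_U1 k)).op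
        (E1 k (-(N : ℤ))) =
      ((PP k).presheaf.map (homOfLE (U01_le_U1 k)).op (t1 k)) ^ N •
        (twist (CohB1.polyGrading 1 k) (-(N : ℤ))).presheaf.map (homOfLE (U01_le_U0 k)).op
          (E0 k (-(N : ℤ))) := by
  have inj := theta_injective (R := k) hc01 (-(N : ℤ))
    (V := ProjectiveSpectrum.basicOpen (CohB1.polyGrading 1 k) (G c01)) rfl
  apply inj
  have h1 := theta_res (R := k) hc1 hc01' (-(N : ℤ)) rfl rfl (U01_le_U1 k) (e1 k (-(N : ℤ)))
  have h2 := theta_res (R := k) hc0 (rfl : c01 = c0 + c1) (-(N : ℤ)) rfl rfl (U01_le_U0 k)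
    (e0 k (-(N : ℤ)))
  have h3 := theta_smul_fn (R := k) deg_c01 hc01 (-(N : ℤ))
    (((PP k).presheaf.map (homOfLE (U01_le_U1 k)).op (t1 k)) ^ N)
    ((twist (CohB1.polyGrading 1 k) (-(N : ℤ))).presheaf.map (homOfLE (U01_le_U0 k)).op
          (E0 k (-(N : ℤ))))
  refine h1.trans (Eq.trans ?_ h3.symm)
  rw [map_pow, thetaO_res deg_c1 hc1 hc01' deg_c01 (U01_le_U1 k) (t1 k), thetaO_t1]
  refine Eq.trans ?_ (congrArg (fun z => mono 1 k (-ε) ^ N * z) h2.symm)
  rw [theta_e1, theta_e0, AddMonoidAlgebra.single_pow, one_pow, mono_mul_mono]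
  congr 1
  simp only [ε, δ0, δ1]
  ext j
  fin_cases j <;> simp

end Groth.Agent.H5.Gro.P1C
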