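import Mathlib
import Groth.Agent.Lib.Helper5.Gro.P1Chart
import Groth.Agent.Lib.Lead.QC.BiprodSec
import Groth.Agent.Lib.Lead.QC.Push
import Groth.Agent.Lib.Helper5.Gro.HypCore
import Groth.Agent.Lib.Helper5.Gro.HypQuot

/-!
# Double covers of the projective line: from the splitting of the direct image to bases of the
coordinate rings of the two charts.
-/

set_option autoImplicit false
universe u
open CategoryTheory CategoryTheory.Limits AlgebraicGeometry TopologicalSpace Opposite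

namespace Groth.Agent.H5.Gro.HypGlue

open Groth.Agent.LD Groth.Agent.LD.QC Twist Groth.Agent.H5.Gro.P1C

variable (k : Type u) [Field k] {C : Scheme.{u}} (f : C ⟶ PP k)

/-- the direct image of the structure sheaf. -/
noncomputable abbrev EE : (PP k).Modules := (Scheme.Modules.pushforward f).obj (unitMod C)

variable {k}

/-- a section of the direct image as a function on the preimage. -/
def toFn {V : (PP k).Opens} (s : Γ(EE k f, V)) : Γ(C, f ⁻¹ᵁ V) := s

/-- a function on the preimage as a section of the direct image. -/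
def ofFn {V : (PP k).Opens} (s : Γ(C, f ⁻¹ᵁ V)) : Γ(EE k f, V) := s

lemma smul_eq {V : (PP k).Opens} (a : Γ(PP k, V)) (s : Γ(EE k f, V)) :
    toFn f (a • s) = (f.app V).hom a * toFn f s := rfl

lemma res_eq {V W : (PP k).Opens} (h : W ≤ V) (s : Γ(EE k f, V)) :
    toFn f ((EE k f).presheaf.map (homOfLE h).op s) =
      (C.presheaf.map (homOfLE (f.preimage_mono h)).op).hom (toFn f s) := rfl

lemma toFn_add {V : (PP k).Opens} (s t : Γ(EE k f, V)) :
    toFn f (s + t) = toFn f s + toFn f t := rfl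

/-- a splitting of the direct image as `O ⊕ L`. -/
structure Split (L : (PP k).Modules) where
  ι₀ : unitMod (PP k) ⟶ EE k f
  π₀ : EE k f ⟶ unitMod (PP k)
  ι₁ : L ⟶ EE k f
  π₁ : EE k f ⟶ L
  h00 : ι₀ ≫ π₀ = 𝟙 _
  h11 : ι₁ ≫ π₁ = 𝟙 _
  h01 : ι₀ ≫ π₁ = 0
  h10 : ι₁ ≫ π₀ = 0
  htot : π₀ ≫ ι₀ + π₁ ≫ ι₁ = 𝟙 _
  lam : k
  hlam : lam ≠ 0
  hw : toFn f (ι₀.app ⊤ (1 : Γ(PP k, ⊤))) = (f.app ⊤).hom (κ k ⊤ lam)

variable {f} {L : (PP k).Modules} (S : Split f L)

lemma κ_res {V W : (PP k).Opens} (h : W ≤ V) (r : k) :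
    ((PP k).presheaf.map (homOfLE h).op).hom (κ k V r) = κ k W r := by
  unfold κ
  simp only [RingHom.comp_apply]
  rw [← CommRingCat.comp_apply, ← Functor.map_comp]
  rfl

lemma Split.ι₀_one (V : (PP k).Opens) :
    toFn f (S.ι₀.app V (1 : Γ(PP k, V))) = (f.app V).hom (κ k V S.lam) := by
  have h1 : (1 : Γ(PP k, V)) = (unitMod (PP k)).presheaf.map (homOfLE (le_top : V ≤ ⊤)).op
      (1 : Γ(PP k, ⊤)) := (map_one ((PP k).presheaf.map (homOfLE (le_top : V ≤ ⊤)).op).hom).symm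
  rw [h1, app_res, res_eq, S.hw, ← κ_res (le_top : V ≤ ⊤)]
  have := f.naturality (homOfLE (le_top : V ≤ ⊤)).op
  exact (congr($this (κ k ⊤ S.lam))).symm

lemma unit_smul {V : (PP k).Opens} (a : Γ(PP k, V)) (s : Γ(unitMod (PP k), V)) :
    a • s = (show Γ(unitMod (PP k), V) from a * (show Γ(PP k, V) from s)) := rfl

lemma κ_mul_inv (V : (PP k).Opens) {r : k} (hr : r ≠ 0) : κ k V r * κ k V r⁻¹ = 1 := by
  rw [← map_mul, mul_inv_cancel₀ hr, map_one]

/-- the unit section in terms of the splitting. -/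
lemma Split.one_eq (V : (PP k).Opens) :
    ofFn f (1 : Γ(C, f ⁻¹ᵁ V)) = κ k V S.lam⁻¹ • S.ι₀.app V (1 : Γ(PP k, V)) := by
  change _ = ofFn f (toFn f (κ k V S.lam⁻¹ • S.ι₀.app V (1 : Γ(PP k, V))))
  rw [smul_eq, S.ι₀_one, ← map_mul, mul_comm, κ_mul_inv V S.hlam, map_one]

/-- **generation**: `1` and the image of a basis of `L` generate. -/
theorem Split.span {V : (PP k).Opens} (e : Γ(L, V)) (he : IsBasisOver L V e)
    (z : Γ(C, f ⁻¹ᵁ V)) :
    ∃ a b : Γ(PP k, V), z = (f.app V).hom a + (f.app V).hom b * toFn f (S.ι₁.app V e) := by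
  have h1 := congrArg (fun φ : EE k f ⟶ EE k f => φ.app V (ofFn f z)) S.htot
  simp only [add_app', comp_app', id_app'] at h1
  obtain ⟨b, hb⟩ := (he V le_rfl).2 (S.π₁.app V (ofFn f z))
  simp only [res_self] at hb
  set a' : Γ(PP k, V) := S.π₀.app V (ofFn f z) with ha'
  refine ⟨a' * κ k V S.lam, b, ?_⟩
  have h2 : S.ι₀.app V (S.π₀.app V (ofFn f z)) = a' • S.ι₀.app V (1 : Γ(PP k, V)) := by
    rw [← Scheme.Modules.Hom.app_smul, unit_smul]
    congr 1
    exact (mul_one a').symm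
  have h3 : S.ι₁.app V (S.π₁.app V (ofFn f z)) = b • S.ι₁.app V e := by
    rw [← hb, Scheme.Modules.Hom.app_smul]
  rw [h2, h3] at h1
  have h4 := congrArg (toFn f) h1
  rw [toFn_add, smul_eq, smul_eq, S.ι₀_one, ← map_mul] at h4
  exact h4.symm

/-- **independence**. -/
theorem Split.indep {V : (PP k).Opens} (e : Γ(L, V)) (he : IsBasisOver L V e)
    (a b : Γ(PP k, V))
    (h : (f.app V).hom a + (f.app V).hom b * toFn f (S.ι₁.app V e) = 0) : a = 0 ∧ b = 0 := by
  have hx : a • ofFn f (1 : Γ(C, f ⁻¹ᵁ V)) + b • S.ι₁.app V e = 0 := by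
    change ofFn f (toFn f (a • ofFn f (1 : Γ(C, f ⁻¹ᵁ V)) + b • S.ι₁.app V e)) = ofFn f 0
    rw [toFn_add, smul_eq, smul_eq]
    change ofFn f ((f.app V).hom a * 1 + _) = _
    rw [mul_one, h]
  rw [S.one_eq] at hx
  have hb : b = 0 := by
    have h1 := congrArg (S.π₁.app V) hx
    rw [map_add, Scheme.Modules.Hom.app_smul, Scheme.Modules.Hom.app_smul,
      Scheme.Modules.Hom.app_smul, ← comp_app', ← comp_app', S.h01, S.h11, zero_app',
      id_app', smul_zero, smul_zero, zero_add, map_zero] at h1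
    have h2 := (he V le_rfl).1
    simp only [res_self] at h2
    apply h2
    simp only
    rw [h1, zero_smul]
  subst hb
  refine ⟨?_, rfl⟩
  have h1 := congrArg (S.π₀.app V) hx
  rw [map_add, Scheme.Modules.Hom.app_smul, Scheme.Modules.Hom.app_smul,
    Scheme.Modules.Hom.app_smul, ← comp_app', ← comp_app', S.h00, S.h10, zero_app',
    id_app', smul_zero, add_zero, map_zero, unit_smul, unit_smul] at h1
  have h2 : a * (κ k V S.lam⁻¹ * 1) = 0 := h1
  rw [mul_one] at h2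
  calc a = a * κ k V S.lam⁻¹ * κ k V S.lam := by
        rw [mul_assoc, mul_comm (κ k V S.lam⁻¹), κ_mul_inv V S.hlam, mul_one]
    _ = 0 := by rw [h2, zero_mul]

open Polynomial LaurentPolynomial in
/-- **the affine equation, ring form.** -/
theorem Split.exists_equation (N : ℕ) (S : Split f (twist (CohB1.polyGrading 1 k) (-(N : ℤ))))
    [IsDomain Γ(C, f ⁻¹ᵁ U1 k)] [IsIntegrallyClosed Γ(C, f ⁻¹ᵁ U1 k)] :
    ∃ P Q : k[X], max P.natDegree (2 * Q.natDegree) ≤ 2 * N ∧
      2 * N ≤ max P.natDegree (2 * Q.natDegree) + 1 ∧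
      (toFn f (S.ι₁.app (U0 k) (E0 k (-(N : ℤ))))) ^ 2 +
        (f.app (U0 k)).hom (φ0 k Q) * toFn f (S.ι₁.app (U0 k) (E0 k (-(N : ℤ)))) -
          (f.app (U0 k)).hom (φ0 k P) = 0 := by
  have hnat0 : ∀ a : Γ(PP k, U0 k),
      (C.presheaf.map (homOfLE (f.preimage_mono (U01_le_U0 k))).op).hom ((f.app (U0 k)).hom a) =
        (f.app (U01 k)).hom (((PP k).presheaf.map (homOfLE (U01_le_U0 k)).op).hom a) := by
    intro a
    have := f.naturality (homOfLE (U01_le_U0 k)).op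
    exact (congr($this a)).symm
  have hnat1 : ∀ a : Γ(PP k, U1 k),
      (C.presheaf.map (homOfLE (f.preimage_mono (U01_le_U1 k))).op).hom ((f.app (U1 k)).hom a) =
        (f.app (U01 k)).hom (((PP k).presheaf.map (homOfLE (U01_le_U1 k)).op).hom a) := by
    intro a
    have := f.naturality (homOfLE (U01_le_U1 k)).op
    exact (congr($this a)).symm
  obtain ⟨P, Q, h1, h2, h3⟩ := HypCore.core (k := k)
    ((PP k).presheaf.map (homOfLE (U01_le_U0 k)).op).hom
    ((PP k).presheaf.map (homOfLE (U01_le_U1 k)).op).hom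
    (f.app (U0 k)).hom (f.app (U1 k)).hom (f.app (U01 k)).hom
    (C.presheaf.map (homOfLE (f.preimage_mono (U01_le_U0 k))).op).hom
    (C.presheaf.map (homOfLE (f.preimage_mono (U01_le_U1 k))).op).hom
    hnat0 hnat1 (φ0E k) (φ1E k) (ψ01 k)
    (fun a => (ψ01_res0 k _).trans (ψ0_φ0 k a))
    (fun b => (ψ01_res1 k _).trans (ψ1_φ1 k b))
    (toFn f (S.ι₁.app (U0 k) (E0 k (-(N : ℤ)))))
    (toFn f (S.ι₁.app (U1 k) (E1 k (-(N : ℤ)))))
    (S.span _ (isBasisOver_E0 k _)) (S.span _ (isBasisOver_E1 k _))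
    (S.indep _ (isBasisOver_E1 k _))
    (fun a b h => by
      refine S.indep _ ((isBasisOver_E0 k (-(N : ℤ))).mono (U01_le_U0 k)) a b ?_
      rw [app_res, res_eq]
      exact h)
    N (by
      have e1 : (C.presheaf.map (homOfLE (f.preimage_mono (U01_le_U1 k))).op).hom
          (toFn f (S.ι₁.app (U1 k) (E1 k (-(N : ℤ))))) =
          toFn f (S.ι₁.app (U01 k) ((twist (CohB1.polyGrading 1 k) (-(N : ℤ))).presheaf.map
            (homOfLE (U01_le_U1 k)).op (E1 k (-(N : ℤ))))) := by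
        rw [app_res, res_eq]
      have e0 : (C.presheaf.map (homOfLE (f.preimage_mono (U01_le_U0 k))).op).hom
          (toFn f (S.ι₁.app (U0 k) (E0 k (-(N : ℤ))))) =
          toFn f (S.ι₁.app (U01 k) ((twist (CohB1.polyGrading 1 k) (-(N : ℤ))).presheaf.map
            (homOfLE (U01_le_U0 k)).op (E0 k (-(N : ℤ))))) := by
        rw [app_res, res_eq]
      have : (φ1E k) Polynomial.X = t1 k := by
        change Polynomial.eval₂ _ _ Polynomial.X = _
        rw [Polynomial.eval₂_X]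
      rw [e1, e0, E1_res, Scheme.Modules.Hom.app_smul, smul_eq, map_pow, this])
  exact ⟨P, Q, h2, h3, h1⟩

end Groth.Agent.H5.Gro.HypGlue
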