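import Mathlib
import Groth.Agent.Lib.Helper5.Gro.Pi1D
import Groth.Agent.Lib.Helper5.Curve6.Conic
import Groth.Agent.Lib.Helper5.HensCouple.H

/-!
# Smooth projective curves of genus zero are simply connected.
-/

set_option autoImplicit false
set_option linter.style.haveILetI false
universe u
open CategoryTheory CategoryTheory.Limits AlgebraicGeometry TopologicalSpace Opposite

namespace Groth.Agent.H5.Gro

open Groth.Agent.LD Groth.Agent.LD.QC Groth.Agent.H5.Curve6

section

variable (k : Type u) [Field k] (X : Scheme.{u}) [X.Over (Spec (CommRingCat.of k))]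

/-- a scheme over a field with `h⁰(O) = 1` is connected. -/
theorem connectedSpace_of_finrank_HH0_eq_one
    (h0 : Module.finrank k (Coh.HH X (Coh.structureModule X) 0) = 1) : ConnectedSpace X := by
  letI : Algebra k Γ(X, ⊤) := (Coh.toGlobal (X ↘ Spec (CommRingCat.of k))).toAlgebra
  have h1 : Module.finrank k Γ(X, ⊤) = 1 := (FF.finrank_HH0_eq k X).symm.trans h0
  haveI : Nontrivial Γ(X, ⊤) :=
    Module.nontrivial_of_finrank_pos (R := k) (by rw [h1]; exact one_pos)
  have hsurj := toGlobal_surjective k X h0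
  have hinj : Function.Injective (algebraMap k Γ(X, ⊤)) := (algebraMap k Γ(X, ⊤)).injective
  haveI : Nonempty X := by
    by_contra hne
    rw [not_nonempty_iff] at hne
    exact not_subsingleton Γ(X, ⊤) inferInstance
  haveI : PreconnectedSpace X := by
    rw [preconnectedSpace_iff_clopen]
    intro U hU
    obtain ⟨e, he, heU⟩ := Groth.Agent.H5.HensCouple.exists_idem_basicOpen_eq hU
    obtain ⟨c, hc⟩ := hsurj e
    have hc' : algebraMap k Γ(X, ⊤) c = e := hc
    have hcc : c * c = c := by
      apply hinj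
      rw [map_mul, hc']
      exact he
    have h01 : c = 0 ∨ c = 1 := by
      have : c * (c - 1) = 0 := by rw [mul_sub, hcc, mul_one, sub_self]
      rcases mul_eq_zero.mp this with h | h
      · exact Or.inl h
      · exact Or.inr (sub_eq_zero.mp h)
    rcases h01 with h | h
    · left
      rw [← heU, ← hc', h, map_zero, Scheme.basicOpen_zero]
      rfl
    · right
      rw [← heU, ← hc', h, map_one, Scheme.basicOpen_one]
      rfl
  exact ⟨inferInstance⟩

variable [IsProper (X ↘ Spec (CommRingCat.of k))]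

/-- **a smooth proper integral curve of genus zero over a separably closed field is the
projective line.** -/
theorem exists_iso_P1_of_smooth_genus_zero [IsSepClosed k] [IsIntegral X]
    [Smooth (X ↘ Spec (CommRingCat.of k))]
    (hdim : topologicalKrullDim X = 1) (hg : Curv2.genus k X = 0) :
    ∃ e : X ≅ CohB1.ProjSpace 1 k,
      e.hom ≫ CohB1.ProjSpace.toSpec 1 k = X ↘ Spec (CommRingCat.of k) := by
  haveI := Curve.isLocallyNoetherian k X
  haveI : LocallyOfFinitePresentation (X ↘ Spec (CommRingCat.of k)) :=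
    LocallyOfFinitePresentation.iff_locallyOfFiniteType.mpr inferInstance
  obtain ⟨x, hx⟩ := Groth.Agent.H9.SCP.exists_section_of_smooth k (X ↘ Spec (CommRingCat.of k))
  have ha : x default ∈ (X ↘ Spec (CommRingCat.of k)).smoothLocus := by
    rw [(X ↘ Spec (CommRingCat.of k)).smoothLocus_eq_top]
    trivial
  have hreg := Groth.Agent.H1.SmoothReg.isRegularLocalRing_of_mem_smoothLocus k
    (X ↘ Spec (CommRingCat.of k)) (x default) ha
  obtain ⟨L, hL, hdeg⟩ := exists_invertible_deg_one_of_regular_rational_point k X hdim x hx hreg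
  have h1 : Subsingleton (Coh.HH X (Coh.structureModule X) 1) := by
    haveI : Module.Finite k (Coh.HH X (Coh.structureModule X) 1) :=
      Curve.finite_HH k X _ (PF.isCoh_unitMod X) 1
    exact Module.finrank_zero_iff.mp hg
  exact exists_iso_P1_of_h1_zero_of_deg_one k X hdim h1 L hL hdeg

end

/-- **S11574**: a finite étale cover of a smooth proper curve of genus zero with `h⁰(O) = 1` by a
proper scheme with `h⁰(O) = 1` is an isomorphism. -/
theorem isIso_of_finite_etale_of_genus_zero (k : Type u) [Field k] (X Y : Scheme.{u})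
    [X.Over (Spec (CommRingCat.of k))] [Y.Over (Spec (CommRingCat.of k))]
    [IsProper (X ↘ Spec (CommRingCat.of k))] [IsProper (Y ↘ Spec (CommRingCat.of k))]
    (hdY : topologicalKrullDim Y = 1) [Smooth (Y ↘ Spec (CommRingCat.of k))]
    (hX0 : Module.finrank k (Coh.HH X (Coh.structureModule X) 0) = 1)
    (hY0 : Module.finrank k (Coh.HH Y (Coh.structureModule Y) 0) = 1)
    (f : X ⟶ Y) [IsFinite f] [Etale f]
    (hf : f ≫ (Y ↘ Spec (CommRingCat.of k)) = X ↘ Spec (CommRingCat.of k))
    (hg : Curv2.genus k Y = 0) : IsIso f := by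
  let Ω := AlgebraicClosure k
  let g : Spec (CommRingCat.of Ω) ⟶ Spec (CommRingCat.of k) :=
    Spec.map (CommRingCat.ofHom (algebraMap k Ω))
  haveI : CompactSpace X := Curve.compactSpace k X
  haveI : QuasiSeparatedSpace X := Curve.quasiSeparatedSpace k X
  haveI : CompactSpace Y := Curve.compactSpace k Y
  haveI : QuasiSeparatedSpace Y := Curve.quasiSeparatedSpace k Y
  haveI : IsIntegralHom g := by
    rw [IsIntegralHom.SpecMap_iff]
    exact algebraMap_isIntegral_iff.mpr inferInstance
  haveI : Flat g := inferInstance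
  haveI : Surjective g := inferInstance
  let Y' := pullback (Y ↘ Spec (CommRingCat.of k)) g
  let q : Y' ⟶ Y := pullback.fst (Y ↘ Spec (CommRingCat.of k)) g
  letI : Y'.Over (Spec (CommRingCat.of Ω)) := ⟨pullback.snd _ _⟩
  haveI : IsProper (Y' ↘ Spec (CommRingCat.of Ω)) :=
    inferInstanceAs (IsProper (pullback.snd (Y ↘ Spec (CommRingCat.of k)) g))
  haveI : Smooth (Y' ↘ Spec (CommRingCat.of Ω)) :=
    inferInstanceAs (Smooth (pullback.snd (Y ↘ Spec (CommRingCat.of k)) g))
  have hdim' : topologicalKrullDim Y' = 1 :=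
    (topologicalKrullDim_eq_of_integral_flat_surjective q).trans hdY
  have hg' : Curv2.genus Ω Y' = 0 := by
    unfold Curv2.genus
    rw [FBC.finrank_HH_unit_bc k Ω Y Y' q (IsPullback.of_hasPullback _ _) 1]
    exact hg
  have hY0' : Module.finrank Ω (Coh.HH Y' (Coh.structureModule Y') 0) = 1 :=
    (FBC.finrank_HH_unit_bc k Ω Y Y' q (IsPullback.of_hasPullback _ _) 0).trans hY0
  haveI : ConnectedSpace Y' := connectedSpace_of_finrank_HH0_eq_one Ω Y' hY0'
  haveI : IsIntegral Y' :=
    Groth.Agent.H5.Curve3.isIntegral_of_smooth_connected Ω (Y' ↘ Spec (CommRingCat.of Ω))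
  obtain ⟨e, he⟩ := exists_iso_P1_of_smooth_genus_zero Ω Y' hdim' hg'
  -- the base change of `f`
  let X' := pullback f q
  let f' : X' ⟶ Y' := pullback.snd f q
  letI : X'.Over (Spec (CommRingCat.of Ω)) := ⟨f' ≫ (Y' ↘ Spec (CommRingCat.of Ω))⟩
  have hpb : IsPullback (pullback.fst f q) (X' ↘ Spec (CommRingCat.of Ω))
      (X ↘ Spec (CommRingCat.of k)) g := by
    have h1 : IsPullback (pullback.fst f q) f' f q := IsPullback.of_hasPullback f q
    have h2 : IsPullback q (Y' ↘ Spec (CommRingCat.of Ω)) (Y ↘ Spec (CommRingCat.of k)) g :=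
      IsPullback.of_hasPullback _ _
    have h3 := h1.paste_vert h2
    rwa [hf] at h3
  have hX0' : Module.finrank Ω (Coh.HH X' (Coh.structureModule X') 0) = 1 :=
    (FBC.finrank_HH_unit_bc k Ω X X' (pullback.fst f q) hpb 0).trans hX0
  haveI : IsFinite f' := inferInstanceAs (IsFinite (pullback.snd f q))
  haveI : Etale f' := inferInstanceAs (Etale (pullback.snd f q))
  let g' : X' ⟶ P1 Ω := f' ≫ e.hom
  have hg'' : g' ≫ CohB1.ProjSpace.toSpec 1 Ω = X' ↘ Spec (CommRingCat.of Ω) := by
    change (f' ≫ e.hom) ≫ _ = f' ≫ _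
    rw [Category.assoc, he]
  haveI : IsIso g' := isIso_of_finite_etale_P1 Ω X' g' hg'' hX0'
  haveI : IsIso f' := by
    have : f' = g' ≫ e.inv := by
      change f' = (f' ≫ e.hom) ≫ e.inv
      rw [Category.assoc, Iso.hom_inv_id, Category.comp_id]
    rw [this]
    infer_instance
  have hq : (@Surjective ⊓ @Flat ⊓ @QuasiCompact : MorphismProperty Scheme.{u}) q :=
    ⟨⟨inferInstanceAs (Surjective (pullback.fst (Y ↘ Spec (CommRingCat.of k)) g)),
      inferInstanceAs (Flat (pullback.fst (Y ↘ Spec (CommRingCat.of k)) g))⟩,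
      inferInstanceAs (QuasiCompact (pullback.fst (Y ↘ Spec (CommRingCat.of k)) g))⟩
  exact MorphismProperty.of_pullback_snd_of_descendsAlong
    (P := MorphismProperty.isomorphisms Scheme.{u})
    (Q := @Surjective ⊓ @Flat ⊓ @QuasiCompact) (f := f) (g := q) hq
    (inferInstance : IsIso f')

end Groth.Agent.H5.Gro
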