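import Mathlib
import Groth.Agent.Lib.Helper5.Gro.HypGlue
import Groth.Agent.Lib.Helper5.Gro.Hyp1
import Groth.Agent.Lib.Lead.CohLES.H0Lin
import Groth.Agent.Lib.Helper5.Gro.Pi1E
import Groth.Agent.Lib.Helper8.SmoothNormal
import Groth.Agent.Lib.Helper9.Misc.FinBir

/-!
# The affine equation of a double cover of the projective line.
-/

set_option autoImplicit false
set_option linter.style.haveILetI false
universe u
open CategoryTheory CategoryTheory.Limits AlgebraicGeometry TopologicalSpace Opposite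

namespace Groth.Agent.H5.Gro.HypGlue

open Groth.Agent.LD Groth.Agent.LD.QC Twist Groth.Agent.H5.Gro.P1C Groth.Agent.LD.TW

/-- the structure maps of a biproduct of two objects. -/
lemma biprod_data {𝒞 : Type*} [Category 𝒞] [Preadditive 𝒞] [HasFiniteBiproducts 𝒞] (E : 𝒞)
    (F : Fin 2 → 𝒞) (β : E ≅ ⨁ F) :
    ∃ (i₀ : F 0 ⟶ E) (p₀ : E ⟶ F 0) (i₁ : F 1 ⟶ E) (p₁ : E ⟶ F 1),
      i₀ ≫ p₀ = 𝟙 _ ∧ i₁ ≫ p₁ = 𝟙 _ ∧ i₀ ≫ p₁ = 0 ∧ i₁ ≫ p₀ = 0 ∧ p₀ ≫ i₀ + p₁ ≫ i₁ = 𝟙 _ := by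
  refine ⟨biproduct.ι F 0 ≫ β.inv, β.hom ≫ biproduct.π F 0, biproduct.ι F 1 ≫ β.inv,
    β.hom ≫ biproduct.π F 1, ?_, ?_, ?_, ?_, ?_⟩
  · simp
  · simp
  · simp only [Category.assoc, Iso.inv_hom_id_assoc]
    exact biproduct.ι_π_ne F (by decide : (0 : Fin 2) ≠ 1)
  · simp only [Category.assoc, Iso.inv_hom_id_assoc]
    exact biproduct.ι_π_ne F (by decide : (1 : Fin 2) ≠ 0)
  · have h := biproduct.total (f := F)
    rw [Fin.sum_univ_two] at h
    have h2 : (β.hom ≫ biproduct.π F 0) ≫ biproduct.ι F 0 ≫ β.inv +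
        (β.hom ≫ biproduct.π F 1) ≫ biproduct.ι F 1 ≫ β.inv =
        β.hom ≫ (biproduct.π F 0 ≫ biproduct.ι F 0 +
        biproduct.π F 1 ≫ biproduct.ι F 1) ≫ β.inv := by
      simp only [Category.assoc, Preadditive.comp_add, Preadditive.add_comp]
    rw [h2, h, Category.id_comp, Iso.hom_inv_id]

variable {k : Type u} [Field k] {C : Scheme.{u}} (f : C ⟶ PP k)

/-- a splitting from an isomorphism with `O ⊕ O(-N)`. -/
theorem nonempty_split (N : ℕ)
    (α : EE k f ≅ ∐ fun i : Fin 2 => twist (CohB1.polyGrading 1 k) (![0, -(N : ℤ)] i))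
    (hlam : ∀ w : Γ(C, f ⁻¹ᵁ ⊤), ∃ c : k, w = (f.app ⊤).hom (κ k ⊤ c))
    [Nontrivial Γ(PP k, ⊤)] :
    Nonempty (Split f (twist (CohB1.polyGrading 1 k) (-(N : ℤ)))) := by
  let F : Fin 2 → (PP k).Modules := fun i => twist (CohB1.polyGrading 1 k) (![0, -(N : ℤ)] i)
  let β : EE k f ≅ ⨁ F := α ≪≫ (biproduct.isoCoproduct F).symm
  obtain ⟨i₀, p₀, i₁, p₁, a00, a11, a01, a10, atot⟩ := biprod_data (EE k f) F β
  let j₀ : twist (CohB1.polyGrading 1 k) 0 ⟶ EE k f := i₀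
  let q₀ : EE k f ⟶ twist (CohB1.polyGrading 1 k) 0 := p₀
  let ι₁ : twist (CohB1.polyGrading 1 k) (-(N : ℤ)) ⟶ EE k f := i₁
  let π₁ : EE k f ⟶ twist (CohB1.polyGrading 1 k) (-(N : ℤ)) := p₁
  have b00 : j₀ ≫ q₀ = 𝟙 _ := a00
  have h11 : ι₁ ≫ π₁ = 𝟙 _ := a11
  have b01 : j₀ ≫ π₁ = 0 := a01
  have b10 : ι₁ ≫ q₀ = 0 := a10
  have btot : q₀ ≫ j₀ + π₁ ≫ ι₁ = 𝟙 _ := atot
  clear_value j₀ q₀ ι₁ π₁
  let z : twist (CohB1.polyGrading 1 k) 0 ≅ unitMod (PP k) := twistZeroIso (CohB1.polyGrading 1 k)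
  let ι₀ : unitMod (PP k) ⟶ EE k f := z.inv ≫ j₀
  let π₀ : EE k f ⟶ unitMod (PP k) := q₀ ≫ z.hom
  have h00 : ι₀ ≫ π₀ = 𝟙 _ := by
    simp only [ι₀, π₀, Category.assoc]
    rw [reassoc_of% b00, Iso.inv_hom_id]
  have h01 : ι₀ ≫ π₁ = 0 := by
    simp only [ι₀, Category.assoc]
    rw [b01, comp_zero]
  have h10 : ι₁ ≫ π₀ = 0 := by
    simp only [π₀]
    rw [reassoc_of% b10, zero_comp]
  have htot : π₀ ≫ ι₀ + π₁ ≫ ι₁ = 𝟙 _ := by
    simp only [ι₀, π₀, Category.assoc, Iso.hom_inv_id_assoc]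
    exact btot
  obtain ⟨c, hc⟩ := hlam (toFn f (ι₀.app ⊤ (1 : Γ(PP k, ⊤))))
  have hc0 : c ≠ 0 := by
    rintro rfl
    rw [map_zero, map_zero] at hc
    have h1 : ι₀.app ⊤ (1 : Γ(PP k, ⊤)) = 0 := hc
    have h2 := congrArg (π₀.app ⊤) h1
    rw [← comp_app', h00, id_app', map_zero] at h2
    exact one_ne_zero (α := Γ(PP k, ⊤)) h2
  exact ⟨⟨ι₀, π₀, ι₁, π₁, h00, h11, h01, h10, htot, c, hc0, hc⟩⟩

/-- if `h⁰(O_X) = 1` then the global functions are the constants. -/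
theorem exists_const_of_finrank_HH0 (X : Scheme.{u}) [X.Over (Spec (CommRingCat.of k))]
    (h0 : Module.finrank k (Coh.HH X (unitMod X) 0) = 1) (w : Γ(X, ⊤)) :
    ∃ c : k, w = (show Γ(X, ⊤) from Coh.toGlobal (X ↘ Spec (CommRingCat.of k)) c) := by
  let e := CL.HH0Equiv (unitMod X)
  by_cases hy : e.symm (1 : Γ(X, ⊤)) = 0
  · have h1 : (1 : Γ(X, ⊤)) = 0 := by
      have := congrArg e hy
      rwa [e.apply_symm_apply, map_zero] at this
    refine ⟨0, ?_⟩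
    rw [map_zero]
    calc w = w * 1 := (mul_one w).symm
      _ = 0 := by rw [h1, mul_zero]
  · obtain ⟨c, hc⟩ := (finrank_eq_one_iff_of_nonzero' _ hy).mp h0 (e.symm w)
    refine ⟨c, ?_⟩
    have h1 := congrArg e hc
    rw [e.apply_symm_apply] at h1
    rw [← h1]
    have h2 := CL.HH0Equiv_smul (unitMod X) (Coh.toGlobal (X ↘ Spec (CommRingCat.of k)) c)
      (e.symm (1 : Γ(X, ⊤)))
    refine h2.trans ?_
    change _ • e (e.symm (1 : Γ(X, ⊤))) = _
    rw [e.apply_symm_apply]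
    exact mul_one (show Γ(X, ⊤) from Coh.toGlobal (X ↘ Spec (CommRingCat.of k)) c)

section Main

open Groth.Agent.H5.Gro

variable (k)

/-- **the ring form of the affine equation of a hyperelliptic curve.** -/
theorem exists_equation_of_cover {C : Scheme.{u}}
    (sC : C ⟶ Spec (CommRingCat.of k)) [IsProper sC] [Smooth sC] [GeometricallyConnected sC]
    (hC : topologicalKrullDim C = 1) (g : ℕ) (hg : @Curv2.genus k _ C ⟨sC⟩ = g)
    (f : C ⟶ PP k) (hf : f ≫ CohB1.ProjSpace.toSpec 1 k = sC) [IsFinite f] [Flat f]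
    (hrk : ∀ y : ↥(PP k), Scheme.Hom.finrank f y = 2) :
    ∃ (P Q : Polynomial k) (y : Γ(C, f ⁻¹ᵁ U0 k)),
      max P.natDegree (2 * Q.natDegree) ≤ 2 * g + 2 ∧
      2 * g + 1 ≤ max P.natDegree (2 * Q.natDegree) ∧
      y ^ 2 + (f.app (U0 k)).hom (φ0 k Q) * y - (f.app (U0 k)).hom (φ0 k P) = 0 ∧
      (∀ z : Γ(C, f ⁻¹ᵁ U0 k), ∃ a b : Γ(PP k, U0 k),
        z = (f.app (U0 k)).hom a + (f.app (U0 k)).hom b * y) ∧
      (∀ a b : Γ(PP k, U0 k), (f.app (U0 k)).hom a + (f.app (U0 k)).hom b * y = 0 →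
        a = 0 ∧ b = 0) := by
  letI : C.Over (Spec (CommRingCat.of k)) := ⟨sC⟩
  haveI : IsProper (C ↘ Spec (CommRingCat.of k)) := inferInstanceAs (IsProper sC)
  haveI : Smooth (C ↘ Spec (CommRingCat.of k)) := inferInstanceAs (Smooth sC)
  haveI : GeometricallyConnected (C ↘ Spec (CommRingCat.of k)) :=
    inferInstanceAs (GeometricallyConnected sC)
  haveI : GeometricallyReduced (C ↘ Spec (CommRingCat.of k)) :=
    geometricallyReduced_of_smooth k _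
  have h0 := FF.finrank_HH0_eq_one k C
  haveI : LocallyOfFiniteType (f ≫ CohB1.ProjSpace.toSpec 1 k) := by rw [hf]; infer_instance
  haveI : LocallyOfFiniteType f := locallyOfFiniteType_of_comp f (CohB1.ProjSpace.toSpec 1 k)
  haveI : IsNoetherian (P1 k) := Curve2.isNoetherian_of_proper k (P1 k)
  haveI : LocallyOfFinitePresentation f :=
    LocallyOfFinitePresentation.iff_locallyOfFiniteType.mpr inferInstance
  let f' : C ⟶ P1 k := f
  haveI : IsFinite f' := ‹IsFinite f›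
  haveI : Flat f' := ‹Flat f›
  haveI : LocallyOfFinitePresentation f' := ‹LocallyOfFinitePresentation f›
  obtain ⟨α⟩ := nonempty_push_unit_iso k f' hf hrk hC.le h0
  have hN : -(Curv2.genus k C : ℤ) - 1 = -(((g + 1 : ℕ)) : ℤ) := by
    rw [hg]; push_cast; ring
  rw [hN] at α
  haveI : ConnectedSpace C := connectedSpace_of_finrank_HH0_eq_one k C h0
  haveI : IsIntegral C := Groth.Agent.H5.Curve3.isIntegral_of_smooth_connected k sC
  haveI : Nontrivial Γ(PP k, ⊤) := by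
    haveI : IsIntegral (PP k) := inferInstanceAs (IsIntegral (P1 k))
    infer_instance
  have hlam : ∀ w : Γ(C, f ⁻¹ᵁ ⊤), ∃ c : k, w = (f.app ⊤).hom (κ k ⊤ c) := by
    intro w
    obtain ⟨c, hc⟩ := toGlobal_surjective k C h0 w
    refine ⟨c, ?_⟩
    rw [← hc]
    have e : (C ↘ Spec (CommRingCat.of k)) = f ≫ CohB1.ProjSpace.toSpec 1 k := hf.symm
    unfold Coh.toGlobal
    rw [e]
    unfold κ
    simp only [RingHom.comp_apply]
    have : ((PP k).presheaf.map (homOfLE (le_top : (⊤ : (PP k).Opens) ≤ ⊤)).op) = 𝟙 _ :=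
      (PP k).presheaf.map_id _
    rw [this]
    rfl
  obtain ⟨S⟩ := nonempty_split f (g + 1) α hlam
  -- the preimage of the second chart
  have hinj1 : Function.Injective (f.app (U1 k)).hom := by
    rw [injective_iff_map_eq_zero]
    intro a ha
    exact (S.indep _ (isBasisOver_E1 k _) a 0 (by rw [ha, map_zero, zero_mul, add_zero])).1
  haveI : Nontrivial Γ(PP k, U1 k) := (φ1E k).injective.nontrivial
  haveI : Nontrivial Γ(C, f ⁻¹ᵁ U1 k) := hinj1.nontrivial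
  have hne1 : Nonempty ↥(f ⁻¹ᵁ U1 k) := by
    by_contra hne
    rw [not_nonempty_iff] at hne
    have : (f ⁻¹ᵁ U1 k) = ⊥ := by
      ext x
      simp only [Opens.coe_bot, Set.mem_empty_iff_false, iff_false]
      exact fun hx => hne.false ⟨x, hx⟩
    have hs : Subsingleton Γ(C, f ⁻¹ᵁ U1 k) := by
      rw [this]
      infer_instance
    exact not_subsingleton _ hs
  haveI : Nonempty (f ⁻¹ᵁ U1 k).toScheme := hne1
  haveI : IsDomain Γ(C, f ⁻¹ᵁ U1 k) := inferInstance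
  have hU1 : IsAffineOpen (f ⁻¹ᵁ U1 k) :=
    (Proj.isAffineOpen_basicOpen (CohB1.polyGrading 1 k) (PN.G c1) (PN.G_mem c1) deg_c1).preimage f
  haveI : IsIntegrallyClosed Γ(C, f ⁻¹ᵁ U1 k) :=
    Groth.Agent.H9.FinBir.intClosed_sections
      (fun y => Groth.Agent.H8.SmoothNormal.isIntegrallyClosed_stalk_of_smooth_field k C sC y)
      _ hU1
  obtain ⟨P, Q, hub, hlb, hrel⟩ := S.exists_equation (g + 1)
  refine ⟨P, Q, toFn f (S.ι₁.app (U0 k) (E0 k (-((g + 1 : ℕ) : ℤ)))), by omega, by omega, hrel,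
    S.span _ (isBasisOver_E0 k _), S.indep _ (isBasisOver_E0 k _)⟩

/-- a morphism from an affine open to an affine scheme in terms of the ring map. -/
lemma ι_comp_eq {C : Scheme.{u}} {R : CommRingCat.{u}} (s : C ⟶ Spec R) (W : C.Opens) :
    W.ι ≫ s = W.toSpecΓ ≫ Spec.map ((Scheme.ΓSpecIso R).inv ≫ s.appLE ⊤ W le_top) := by
  have h1 := Scheme.Opens.toSpecΓ_SpecMap_appLE s (⊤ : (Spec R).Opens) W le_top
  rw [Scheme.Opens.toSpecΓ_top, ← Category.assoc, Scheme.Hom.resLE_comp_ι] at h1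
  rw [Spec.map_comp, ← Category.assoc, h1, Category.assoc, Category.assoc,
    toSpecΓ_SpecMap_ΓSpecIso_inv, Category.comp_id]

/-- **S7851**: the affine equation of a hyperelliptic curve. -/
theorem exists_affine_equation {C : Scheme.{u}}
    (sC : C ⟶ Spec (CommRingCat.of k)) [IsProper sC] [Smooth sC] [GeometricallyConnected sC]
    (hC : topologicalKrullDim C = 1) (g : ℕ) (hg : @Curv2.genus k _ C ⟨sC⟩ = g)
    (f : C ⟶ PP k) (hf : f ≫ CohB1.ProjSpace.toSpec 1 k = sC) [IsFinite f] [Flat f]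
    (hrk : ∀ y : ↥(PP k), Scheme.Hom.finrank f y = 2) :
    ∃ p q : Polynomial k, 2 * g + 1 ≤ max p.natDegree (2 * q.natDegree) ∧
      max p.natDegree (2 * q.natDegree) ≤ 2 * g + 2 ∧
      ∃ e : (↑(f ⁻¹ᵁ (U0 k)) : Scheme.{u}) ≅
          Spec (CommRingCat.of (MvPolynomial (Fin 2) k ⧸ Ideal.span {HypCore.eqn p q})),
        e.hom ≫ Spec.map (CommRingCat.ofHom ((Ideal.Quotient.mk
          (Ideal.span {HypCore.eqn p q})).comp
            (MvPolynomial.C : k →+* MvPolynomial (Fin 2) k))) = (f ⁻¹ᵁ (U0 k)).ι ≫ sC := by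
  obtain ⟨P, Q, y, hub, hlb, hrel, hs, hi⟩ := exists_equation_of_cover k sC hC g hg f hf hrk
  refine ⟨P, Q, hlb, hub, ?_⟩
  have hW : IsAffineOpen (f ⁻¹ᵁ U0 k) :=
    (Proj.isAffineOpen_basicOpen (CohB1.polyGrading 1 k) (PN.G c0) (PN.G_mem c0) deg_c0).preimage f
  let ρ : k →+* Γ(C, f ⁻¹ᵁ U0 k) := (f.app (U0 k)).hom.comp (κ k (U0 k))
  letI : Algebra k Γ(C, f ⁻¹ᵁ U0 k) := ρ.toAlgebra
  let t : Γ(C, f ⁻¹ᵁ U0 k) := (f.app (U0 k)).hom (t0 k)
  have haeval : ∀ a : Polynomial k, Polynomial.aeval t a = (f.app (U0 k)).hom (φ0 k a) := by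
    intro a
    rw [Polynomial.aeval_def]
    change _ = (f.app (U0 k)).hom (Polynomial.eval₂ (κ k (U0 k)) (t0 k) a)
    rw [Polynomial.hom_eval₂]
    rfl
  have hs' : ∀ z : Γ(C, f ⁻¹ᵁ U0 k), ∃ a b : Polynomial k,
      z = Polynomial.aeval t a + Polynomial.aeval t b * y := by
    intro z
    obtain ⟨a, b, hab⟩ := hs z
    obtain ⟨a', rfl⟩ := φ0_surjective k a
    obtain ⟨b', rfl⟩ := φ0_surjective k b
    exact ⟨a', b', by rw [haeval, haeval]; exact hab⟩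
  have hi' : ∀ a b : Polynomial k, Polynomial.aeval t a + Polynomial.aeval t b * y = 0 →
      a = 0 ∧ b = 0 := by
    intro a b hab
    rw [haeval, haeval] at hab
    obtain ⟨h1, h2⟩ := hi _ _ hab
    exact ⟨φ0_injective k (h1.trans (map_zero _).symm), φ0_injective k (h2.trans (map_zero _).symm)⟩
  have hrel' : y ^ 2 + Polynomial.aeval t Q * y - Polynomial.aeval t P = 0 := by
    rw [haeval, haeval]; exact hrel
  obtain ⟨e⟩ := HypCore.exists_algEquiv t y P Q hs' hi' hrel'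
  refine ⟨hW.isoSpec ≪≫ Scheme.Spec.mapIso (e.toRingEquiv.toCommRingCatIso).op, ?_⟩
  rw [ι_comp_eq sC (f ⁻¹ᵁ U0 k)]
  change (hW.isoSpec.hom ≫ Spec.map (CommRingCat.ofHom e.toRingEquiv.toRingHom)) ≫ _ = _
  rw [Category.assoc, ← Spec.map_comp, IsAffineOpen.isoSpec_hom]
  congr 2
  ext c
  change e (Ideal.Quotient.mk _ (MvPolynomial.C c)) = _
  have h1 : Ideal.Quotient.mk (Ideal.span {HypCore.eqn P Q}) (MvPolynomial.C c) =
      algebraMap k _ c := rfl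
  rw [h1, e.commutes]
  change (f.app (U0 k)).hom (κ k (U0 k) c) = _
  subst hf
  unfold κ
  simp only [RingHom.comp_apply]
  have := f.naturality (homOfLE (le_top : U0 k ≤ ⊤)).op
  have h2 := congr($this ((CohB1.ProjSpace.toSpec 1 k).appTop.hom
    ((Scheme.ΓSpecIso (CommRingCat.of k)).inv.hom c)))
  refine Eq.trans ?_ (h2.trans ?_)
  · rfl
  · rfl

end Main

end Groth.Agent.H5.Gro.HypGlue
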