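import Mathlib
import Groth.Agent.Lib.Helper5.Gro.HypEq
import Groth.Agent.Lib.Helper5.Gro.HypCore2

/-!
# The affine equation of a double cover of the projective line, II: completing the square in
characteristic different from two, and a version for integral curves with `h⁰(O) = 1`.
-/

set_option autoImplicit false
set_option linter.style.haveILetI false
universe u
open CategoryTheory CategoryTheory.Limits AlgebraicGeometry TopologicalSpace Opposite

namespace Groth.Agent.H5.Gro.HypGlue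

open Groth.Agent.LD Groth.Agent.LD.QC Twist Groth.Agent.H5.Gro.P1C Groth.Agent.LD.TW
open Groth.Agent.LD.PN Groth.Agent.H5.Gro.TM

section Inj

variable (k : Type u) [Field k]

open AddMonoidAlgebra in
lemma toT_injOn (a b : Lau 1 k) (ha : a ∈ Mset 1 k c01 0) (hb : b ∈ Mset 1 k c01 0)
    (h : toT k a = toT k b) : a = b := by
  have h1 : (toT k a).coeff = (toT k b).coeff := by rw [h]
  change (mapDomain _ a).coeff = (mapDomain _ b).coeff at h1
  rw [coeff_mapDomain, coeff_mapDomain] at h1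
  have hinj : Set.InjOn (fun e : Fin 2 →₀ ℤ => e 1) {e | Finsupp.degree e = 0} := by
    intro e he e' he' hee'
    simp only [Set.mem_ofPred_eq] at he he'
    rw [Finsupp.degree_eq_sum, Fin.sum_univ_two] at he he'
    ext j
    fin_cases j
    · change e 0 = e' 0
      have : e 1 = e' 1 := hee'
      omega
    · exact hee'
  have := Finsupp.mapDomain_injOn _ hinj (x₁ := a.coeff) (x₂ := b.coeff)
    (fun e he => (ha e (Finsupp.mem_support_iff.mp he)).1)
    (fun e he => (hb e (Finsupp.mem_support_iff.mp he)).1) h1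
  exact AddMonoidAlgebra.coeff_injective this

lemma ψ01_injective : Function.Injective (ψ01 k) := by
  intro a b hab
  apply thetaO_injective (c := c01) deg_c01
  exact toT_injOn k _ _ (thetaO_mem_Mset deg_c01 hc01 a) (thetaO_mem_Mset deg_c01 hc01 b) hab

end Inj

variable {k : Type u} [Field k] {C : Scheme.{u}} {f : C ⟶ PP k}

open Polynomial in
theorem Split.exists_equation2 (N : ℕ) (S : Split f (twist (CohB1.polyGrading 1 k) (-(N : ℤ))))
    [IsDomain Γ(C, f ⁻¹ᵁ U1 k)] [IsIntegrallyClosed Γ(C, f ⁻¹ᵁ U1 k)] (h2 : (2 : k) ≠ 0) :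
    ∃ P Q : k[X], max P.natDegree (2 * Q.natDegree) ≤ 2 * N ∧
      2 * N ≤ max P.natDegree (2 * Q.natDegree) + 1 ∧
      (toFn f (S.ι₁.app (U0 k) (E0 k (-(N : ℤ))))) ^ 2 +
        (f.app (U0 k)).hom (φ0 k Q) * toFn f (S.ι₁.app (U0 k) (E0 k (-(N : ℤ)))) -
          (f.app (U0 k)).hom (φ0 k P) = 0 ∧
      ∃ P' : k[X], (toFn f (S.ι₁.app (U0 k) (E0 k (-(N : ℤ)))) +
          (f.app (U0 k)).hom (φ0 k (Polynomial.C (2⁻¹ : k) * Q))) ^ 2 =
            (f.app (U0 k)).hom (φ0 k P') ∧
        P'.natDegree ≤ 2 * N ∧ 2 * N ≤ P'.natDegree + 1 := by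
  have hnat0 : ∀ a : Γ(PP k, U0 k),
      (C.presheaf.map (homOfLE (f.preimage_mono (U01_le_U0 k))).op).hom ((f.app (U0 k)).hom a) =
        (f.app (U01 k)).hom (((PP k).presheaf.map (homOfLE (U01_le_U0 k)).op).hom a) := by
    intro a
    have := f.naturality (homOfLE (U01_le_U0 k)).op
    exact (congr($this a)).symm
  have hnat1 : ∀ a : Γ(PP k, U1 k),
      (C.presheaf.map (homOfLE (f.preimage_mono (U01_le_U1 k))).op).hom ((f.app (U1 k)).hom a) =
        (f.app (U01 k)).hom (((PP k).presheaf.map (homOfLE (U01_le_U1 k)).op).hom a) := by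
    intro a
    have := f.naturality (homOfLE (U01_le_U1 k)).op
    exact (congr($this a)).symm
  obtain ⟨P, Q, h1, h2', h3, P', h4, h5, h6⟩ := HypCore.core2 (k := k)
    ((PP k).presheaf.map (homOfLE (U01_le_U0 k)).op).hom
    ((PP k).presheaf.map (homOfLE (U01_le_U1 k)).op).hom
    (f.app (U0 k)).hom (f.app (U1 k)).hom (f.app (U01 k)).hom
    (C.presheaf.map (homOfLE (f.preimage_mono (U01_le_U0 k))).op).hom
    (C.presheaf.map (homOfLE (f.preimage_mono (U01_le_U1 k))).op).hom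
    hnat0 hnat1 (φ0E k) (φ1E k) (ψ01 k) (ψ01_injective k)
    (fun a => (ψ01_res0 k _).trans (ψ0_φ0 k a))
    (fun b => (ψ01_res1 k _).trans (ψ1_φ1 k b))
    (toFn f (S.ι₁.app (U0 k) (E0 k (-(N : ℤ)))))
    (toFn f (S.ι₁.app (U1 k) (E1 k (-(N : ℤ)))))
    (S.span _ (isBasisOver_E0 k _)) (S.span _ (isBasisOver_E1 k _))
    (S.indep _ (isBasisOver_E1 k _))
    (fun a b h => by
      refine S.indep _ ((isBasisOver_E0 k (-(N : ℤ))).mono (U01_le_U0 k)) a b ?_
      rw [app_res, res_eq]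
      exact h)
    N (by
      have e1 : (C.presheaf.map (homOfLE (f.preimage_mono (U01_le_U1 k))).op).hom
          (toFn f (S.ι₁.app (U1 k) (E1 k (-(N : ℤ))))) =
          toFn f (S.ι₁.app (U01 k) ((twist (CohB1.polyGrading 1 k) (-(N : ℤ))).presheaf.map
            (homOfLE (U01_le_U1 k)).op (E1 k (-(N : ℤ))))) := by
        rw [app_res, res_eq]
      have e0 : (C.presheaf.map (homOfLE (f.preimage_mono (U01_le_U0 k))).op).hom
          (toFn f (S.ι₁.app (U0 k) (E0 k (-(N : ℤ))))) =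
          toFn f (S.ι₁.app (U01 k) ((twist (CohB1.polyGrading 1 k) (-(N : ℤ))).presheaf.map
            (homOfLE (U01_le_U0 k)).op (E0 k (-(N : ℤ))))) := by
        rw [app_res, res_eq]
      have : (φ1E k) Polynomial.X = t1 k := by
        change Polynomial.eval₂ _ _ Polynomial.X = _
        rw [Polynomial.eval₂_X]
      rw [e1, e0, E1_res, Scheme.Modules.Hom.app_smul, smul_eq, map_pow, this]) h2
  exact ⟨P, Q, h2', h3, h1, P', h4, h5, h6⟩

section Main

open Groth.Agent.H5.Gro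

variable (k)

open Polynomial in
/-- **the ring form of the affine equation of a double cover of the projective line**, for an
integral smooth proper curve with `h⁰(O) = 1`; in characteristic different from two the square can
be completed without lowering the degree bounds. -/
theorem exists_equation_of_cover2 {C : Scheme.{u}} [C.Over (Spec (CommRingCat.of k))]
    [IsProper (C ↘ Spec (CommRingCat.of k))] [Smooth (C ↘ Spec (CommRingCat.of k))]
    [IsIntegral C]
    (hC : topologicalKrullDim C = 1) (g : ℕ) (hg : Curv2.genus k C = g)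
    (h0 : Module.finrank k (Coh.HH C (unitMod C) 0) = 1)
    (f : C ⟶ PP k) (hf : f ≫ CohB1.ProjSpace.toSpec 1 k = C ↘ Spec (CommRingCat.of k))
    [IsFinite f] [Flat f]
    (hrk : ∀ y : ↥(PP k), Scheme.Hom.finrank f y = 2) :
    ∃ (P Q : Polynomial k) (y : Γ(C, f ⁻¹ᵁ U0 k)),
      max P.natDegree (2 * Q.natDegree) ≤ 2 * g + 2 ∧
      2 * g + 1 ≤ max P.natDegree (2 * Q.natDegree) ∧
      y ^ 2 + (f.app (U0 k)).hom (φ0 k Q) * y - (f.app (U0 k)).hom (φ0 k P) = 0 ∧
      (∀ z : Γ(C, f ⁻¹ᵁ U0 k), ∃ a b : Γ(PP k, U0 k),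
        z = (f.app (U0 k)).hom a + (f.app (U0 k)).hom b * y) ∧
      (∀ a b : Γ(PP k, U0 k), (f.app (U0 k)).hom a + (f.app (U0 k)).hom b * y = 0 →
        a = 0 ∧ b = 0) ∧
      ((2 : k) ≠ 0 → ∃ P' : k[X],
        (y + (f.app (U0 k)).hom (φ0 k (Polynomial.C (2⁻¹ : k) * Q))) ^ 2 =
          (f.app (U0 k)).hom (φ0 k P') ∧
        P'.natDegree ≤ 2 * g + 2 ∧ 2 * g + 1 ≤ P'.natDegree) := by
  haveI : LocallyOfFiniteType (f ≫ CohB1.ProjSpace.toSpec 1 k) := by rw [hf]; infer_instance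
  haveI : LocallyOfFiniteType f := locallyOfFiniteType_of_comp f (CohB1.ProjSpace.toSpec 1 k)
  haveI : IsNoetherian (P1 k) := Curve2.isNoetherian_of_proper k (P1 k)
  haveI : LocallyOfFinitePresentation f :=
    LocallyOfFinitePresentation.iff_locallyOfFiniteType.mpr inferInstance
  let f' : C ⟶ P1 k := f
  haveI : IsFinite f' := ‹IsFinite f›
  haveI : Flat f' := ‹Flat f›
  haveI : LocallyOfFinitePresentation f' := ‹LocallyOfFinitePresentation f›
  obtain ⟨α⟩ := nonempty_push_unit_iso k f' hf hrk hC.le h0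
  have hN : -(Curv2.genus k C : ℤ) - 1 = -(((g + 1 : ℕ)) : ℤ) := by
    rw [hg]; push_cast; ring
  rw [hN] at α
  haveI : Nontrivial Γ(PP k, ⊤) := by
    haveI : IsIntegral (PP k) := inferInstanceAs (IsIntegral (P1 k))
    infer_instance
  have hlam : ∀ w : Γ(C, f ⁻¹ᵁ ⊤), ∃ c : k, w = (f.app ⊤).hom (κ k ⊤ c) := by
    intro w
    obtain ⟨c, hc⟩ := toGlobal_surjective k C h0 w
    refine ⟨c, ?_⟩
    rw [← hc]
    have e : (C ↘ Spec (CommRingCat.of k)) = f ≫ CohB1.ProjSpace.toSpec 1 k := hf.symm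
    unfold Coh.toGlobal
    rw [e]
    unfold κ
    simp only [RingHom.comp_apply]
    have : ((PP k).presheaf.map (homOfLE (le_top : (⊤ : (PP k).Opens) ≤ ⊤)).op) = 𝟙 _ :=
      (PP k).presheaf.map_id _
    rw [this]
    rfl
  obtain ⟨S⟩ := nonempty_split f (g + 1) α hlam
  -- the preimage of the second chart
  have hinj1 : Function.Injective (f.app (U1 k)).hom := by
    rw [injective_iff_map_eq_zero]
    intro a ha
    exact (S.indep _ (isBasisOver_E1 k _) a 0 (by rw [ha, map_zero, zero_mul, add_zero])).1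
  haveI : Nontrivial Γ(PP k, U1 k) := (φ1E k).injective.nontrivial
  haveI : Nontrivial Γ(C, f ⁻¹ᵁ U1 k) := hinj1.nontrivial
  have hne1 : Nonempty ↥(f ⁻¹ᵁ U1 k) := by
    by_contra hne
    rw [not_nonempty_iff] at hne
    have : (f ⁻¹ᵁ U1 k) = ⊥ := by
      ext x
      simp only [Opens.coe_bot, Set.mem_empty_iff_false, iff_false]
      exact fun hx => hne.false ⟨x, hx⟩
    have hs : Subsingleton Γ(C, f ⁻¹ᵁ U1 k) := by
      rw [this]
      infer_instance
    exact not_subsingleton _ hs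
  haveI : Nonempty (f ⁻¹ᵁ U1 k).toScheme := hne1
  haveI : IsDomain Γ(C, f ⁻¹ᵁ U1 k) := inferInstance
  have hU1 : IsAffineOpen (f ⁻¹ᵁ U1 k) :=
    (Proj.isAffineOpen_basicOpen (CohB1.polyGrading 1 k) (PN.G c1) (PN.G_mem c1) deg_c1).preimage f
  haveI : IsIntegrallyClosed Γ(C, f ⁻¹ᵁ U1 k) :=
    Groth.Agent.H9.FinBir.intClosed_sections
      (fun y => Groth.Agent.H8.SmoothNormal.isIntegrallyClosed_stalk_of_smooth_field k C
        (C ↘ Spec (CommRingCat.of k)) y)
      _ hU1
  by_cases h2 : (2 : k) = 0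
  · obtain ⟨P, Q, hub, hlb, hrel⟩ := S.exists_equation (g + 1)
    exact ⟨P, Q, toFn f (S.ι₁.app (U0 k) (E0 k (-((g + 1 : ℕ) : ℤ)))), by omega, by omega, hrel,
      S.span _ (isBasisOver_E0 k _), S.indep _ (isBasisOver_E0 k _), fun h => absurd h2 h⟩
  · obtain ⟨P, Q, hub, hlb, hrel, P', hsq, hub', hlb'⟩ := S.exists_equation2 (g + 1) h2
    exact ⟨P, Q, toFn f (S.ι₁.app (U0 k) (E0 k (-((g + 1 : ℕ) : ℤ)))), by omega, by omega, hrel,
      S.span _ (isBasisOver_E0 k _), S.indep _ (isBasisOver_E0 k _),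
      fun _ => ⟨P', hsq, by omega, by omega⟩⟩

end Main

end Groth.Agent.H5.Gro.HypGlue
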