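import Mathlib
import Groth.Agent.Lib.Helper5.Gro.HypEq2
import Groth.Agent.Lib.Helper5.Gro.HypDom
import Groth.Agent.Lib.Helper2.PnChart
import Groth.Agent.Lib.Helper5.IntN.Veronese
import Groth.Agent.Lib.Helper5.AG.ProjProper

/-!
# The equation of a hyperelliptic curve in its function field.
-/

set_option autoImplicit false
set_option linter.style.haveILetI false
universe u
open CategoryTheory CategoryTheory.Limits AlgebraicGeometry TopologicalSpace Opposite
attribute [local instance] Curv2.stalkAlgebra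

namespace Groth.Agent.H5.Gro.HypFF

open Groth.Agent.LD Groth.Agent.LD.QC Twist Groth.Agent.H5.Gro.P1C Groth.Agent.LD.TW
open Groth.Agent.LD.PN Groth.Agent.H5.Gro.TM Groth.Agent.H5.Gro.HypGlue Groth.Agent.H5.Gro.HypDom

section Alg

open Polynomial

lemma aeval_mem_of_mem {k L : Type*} [Field k] [Field L] [Algebra k L] (E : IntermediateField k L)
    (t : L) (ht : t ∈ E) (p : k[X]) : aeval t p ∈ E := by
  have := IntermediateField.aeval_coe (R := k) E ⟨t, ht⟩ p
  rw [show ((⟨t, ht⟩ : E) : L) = t from rfl] at this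
  rw [this]
  exact (aeval (⟨t, ht⟩ : E) p).2

/-- the function field of a double cover of the line, algebraically. -/
theorem ff_alg {k L K R₀ A₀ : Type*} [Field k] [Field L] [Algebra k L] [Field K] [CommRing R₀]
    [CommRing A₀] (φ : k[X] →+* R₀) (hφ : Function.Surjective φ) (σ : R₀ →+* A₀) (gη : A₀ →+* L)
    (γ : R₀ →+* K) (sm : K →+* L) (hsm : ∀ a, sm (γ a) = gη (σ a))
    (hK : ∀ z : K, ∃ a b : R₀, γ b ≠ 0 ∧ z * γ b = γ a)
    (hL : ∀ z : L, ∃ a b : A₀, gη b ≠ 0 ∧ z * gη b = gη a)
    (t : L) (ht : ∀ p, gη (σ (φ p)) = aeval t p)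
    (y : A₀) (hs : ∀ z : A₀, ∃ a b : R₀, z = σ a + σ b * y) :
    (∀ E : IntermediateField k L, t ∈ E → gη y ∈ E → E = ⊤) ∧
      ∃ e : K ≃+* IntermediateField.adjoin k ({t} : Set L), ∀ z, (e z : L) = sm z := by
  constructor
  · intro E htE hyE
    rw [eq_top_iff]
    intro z _
    have hA : ∀ a : A₀, gη a ∈ E := by
      intro a
      obtain ⟨a₁, a₂, rfl⟩ := hs a
      obtain ⟨p₁, rfl⟩ := hφ a₁
      obtain ⟨p₂, rfl⟩ := hφ a₂
      rw [map_add, map_mul, ht, ht]
      exact E.add_mem (aeval_mem_of_mem E t htE p₁) (E.mul_mem (aeval_mem_of_mem E t htE p₂) hyE)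
    obtain ⟨a, b, hb, hab⟩ := hL z
    rw [eq_div_of_mul_eq hb hab]
    exact E.div_mem (hA a) (hA b)
  · have hmem : ∀ z : K, sm z ∈ IntermediateField.adjoin k ({t} : Set L) := by
      intro z
      obtain ⟨a, b, hb, hab⟩ := hK z
      rw [eq_div_of_mul_eq hb hab]
      obtain ⟨p, rfl⟩ := hφ a
      obtain ⟨q, rfl⟩ := hφ b
      rw [map_div₀, hsm, hsm, ht, ht]
      exact (IntermediateField.mem_adjoin_simple_iff k _).mpr ⟨p, q, rfl⟩
    let e₀ : K →+* IntermediateField.adjoin k ({t} : Set L) :=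
      sm.codRestrict (IntermediateField.adjoin k ({t} : Set L)).toSubfield.toSubring hmem
    have hinj : Function.Injective e₀ := e₀.injective
    have hsurj : Function.Surjective e₀ := by
      rintro ⟨w, hw⟩
      obtain ⟨r, s, rfl⟩ := (IntermediateField.mem_adjoin_simple_iff k _).mp hw
      refine ⟨γ (φ r) / γ (φ s), ?_⟩
      apply Subtype.ext
      change sm (γ (φ r) / γ (φ s)) = _
      rw [map_div₀, hsm, hsm, ht, ht]
    exact ⟨RingEquiv.ofBijective e₀ ⟨hinj, hsurj⟩, fun z => rfl⟩

end Alg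

variable (k : Type u) [Field k]

/-- the two charts cover the projective line. -/
lemma mem_U0_or_U1 (y : ↥(PP k)) : y ∈ U0 k ∨ y ∈ U1 k := by
  have h := Groth.Agent.H2.PnChart.iSup_basicOpen (n := 1) (R := k)
  have hy : y ∈ (⨆ i : Fin 2, Proj.basicOpen (CohB1.polyGrading 1 k) (MvPolynomial.X i)) := by
    rw [h]; trivial
  rw [Opens.mem_iSup] at hy
  obtain ⟨i, hi⟩ := hy
  fin_cases i
  · exact Or.inl hi
  · exact Or.inr hi

lemma isAffineOpen_U0 : IsAffineOpen (U0 k) :=
  Proj.isAffineOpen_basicOpen (CohB1.polyGrading 1 k) (PN.G c0) (PN.G_mem c0) deg_c0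

lemma isAffineOpen_U1 : IsAffineOpen (U1 k) :=
  Proj.isAffineOpen_basicOpen (CohB1.polyGrading 1 k) (PN.G c1) (PN.G_mem c1) deg_c1

lemma isPrincipalIdealRing_U0 : IsPrincipalIdealRing Γ(PP k, U0 k) :=
  IsPrincipalIdealRing.of_surjective (φ0E k).toRingHom (φ0E k).surjective

lemma isPrincipalIdealRing_U1 : IsPrincipalIdealRing Γ(PP k, U1 k) :=
  IsPrincipalIdealRing.of_surjective (φ1E k).toRingHom (φ1E k).surjective

lemma isDomain_U0 : IsDomain Γ(PP k, U0 k) := (φ0E k).symm.injective.isDomain (φ0E k).symm.toRingHom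

lemma isDomain_U1 : IsDomain Γ(PP k, U1 k) := (φ1E k).symm.injective.isDomain (φ1E k).symm.toRingHom

lemma exists_dedekind_chart (y : ↥(PP k)) :
    ∃ V : (PP k).Opens, IsAffineOpen V ∧ y ∈ V ∧ IsDedekindDomain Γ(PP k, V) := by
  rcases mem_U0_or_U1 k y with h | h
  · haveI := isPrincipalIdealRing_U0 k
    haveI := isDomain_U0 k
    exact ⟨U0 k, isAffineOpen_U0 k, h, inferInstance⟩
  · haveI := isPrincipalIdealRing_U1 k
    haveI := isDomain_U1 k
    exact ⟨U1 k, isAffineOpen_U1 k, h, inferInstance⟩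

lemma exists_pid_chart (y : ↥(PP k)) :
    ∃ V : (PP k).Opens, IsAffineOpen V ∧ y ∈ V ∧ IsPrincipalIdealRing Γ(PP k, V) := by
  rcases mem_U0_or_U1 k y with h | h
  · exact ⟨U0 k, isAffineOpen_U0 k, h, isPrincipalIdealRing_U0 k⟩
  · exact ⟨U1 k, isAffineOpen_U1 k, h, isPrincipalIdealRing_U1 k⟩

lemma genericPoint_mem_U0 [IsIntegral (PP k)] : genericPoint (PP k) ∈ U0 k := by
  refine ((genericPoint_spec (PP k)).mem_open_set_iff (U0 k).isOpen).mpr ?_
  rw [Set.univ_inter]
  by_contra hne
  have : (U0 k) = ⊥ := by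
    ext x
    simp only [Opens.coe_bot, Set.mem_empty_iff_false, iff_false]
    exact fun hx => hne ⟨x, hx⟩
  have hs : Subsingleton Γ(PP k, U0 k) := by
    rw [this]
    infer_instance
  haveI : Nontrivial Γ(PP k, U0 k) := (φ0E k).injective.nontrivial
  exact not_subsingleton _ hs

/-- the structure map to the function field through a chart of the projective line. -/
lemma algebraMap_functionField {Z : Scheme.{u}} [Z.Over (Spec (CommRingCat.of k))] [IsIntegral Z]
    (f : Z ⟶ PP k) (hf : f ≫ CohB1.ProjSpace.toSpec 1 k = Z ↘ Spec (CommRingCat.of k))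
    (V : (PP k).Opens) (hη : f (genericPoint Z) ∈ V) (c : k) :
    algebraMap k Z.functionField c =
      (Z.presheaf.germ (f ⁻¹ᵁ V) (genericPoint Z) hη).hom ((f.app V).hom (κ k V c)) := by
  rw [RingHom.algebraMap_toAlgebra]
  unfold Curv2.stalkMap
  rw [RingHom.comp_apply]
  have e : (Z ↘ Spec (CommRingCat.of k)) = f ≫ CohB1.ProjSpace.toSpec 1 k := hf.symm
  unfold Coh.toGlobal
  rw [e]
  rw [← κ_res (le_top : V ≤ ⊤) c]
  have hnat := f.naturality (homOfLE (le_top : V ≤ ⊤)).op
  have h2 : (f.app V).hom (((PP k).presheaf.map (homOfLE (le_top : V ≤ ⊤)).op).hom (κ k ⊤ c)) =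
      (Z.presheaf.map (homOfLE (f.preimage_mono (le_top : V ≤ ⊤))).op).hom
        ((f.app ⊤).hom (κ k ⊤ c)) := congr($hnat (κ k ⊤ c))
  rw [h2]
  erw [TopCat.Presheaf.germ_res_apply]
  unfold κ
  simp only [RingHom.comp_apply]
  have : ((PP k).presheaf.map (homOfLE (le_top : (⊤ : (PP k).Opens) ≤ ⊤)).op) = 𝟙 _ :=
    (PP k).presheaf.map_id _
  rw [this]
  rfl

open Polynomial in
lemma germ_φ0 {Z : Scheme.{u}} [Z.Over (Spec (CommRingCat.of k))] [IsIntegral Z]
    (f : Z ⟶ PP k) (hf : f ≫ CohB1.ProjSpace.toSpec 1 k = Z ↘ Spec (CommRingCat.of k))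
    (hη : f (genericPoint Z) ∈ U0 k) (p : k[X]) :
    (Z.presheaf.germ (f ⁻¹ᵁ U0 k) (genericPoint Z) hη).hom ((f.app (U0 k)).hom (φ0 k p)) =
      aeval (R := k) (A := Z.functionField)
        ((Z.presheaf.germ (f ⁻¹ᵁ U0 k) (genericPoint Z) hη).hom ((f.app (U0 k)).hom (t0 k))) p := by
  set t : Z.functionField :=
    (Z.presheaf.germ (f ⁻¹ᵁ U0 k) (genericPoint Z) hη).hom ((f.app (U0 k)).hom (t0 k)) with ht
  have h : ((Z.presheaf.germ (f ⁻¹ᵁ U0 k) (genericPoint Z) hη).hom.comp (f.app (U0 k)).hom).comp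
      (φ0 k) = (aeval (R := k) (A := Z.functionField) t).toRingHom := by
    refine Polynomial.ringHom_ext (fun c => ?_) ?_
    · change (Z.presheaf.germ (f ⁻¹ᵁ U0 k) (genericPoint Z) hη).hom
        ((f.app (U0 k)).hom (Polynomial.eval₂ (κ k (U0 k)) (t0 k) (C c))) = aeval t (C c)
      rw [Polynomial.eval₂_C, aeval_C]
      exact (algebraMap_functionField k f hf (U0 k) hη c).symm
    · change (Z.presheaf.germ (f ⁻¹ᵁ U0 k) (genericPoint Z) hη).hom
        ((f.app (U0 k)).hom (Polynomial.eval₂ (κ k (U0 k)) (t0 k) X)) = aeval t X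
      rw [Polynomial.eval₂_X, aeval_X]
  exact congr($h p)


open Polynomial in
/-- **S11584**: the equation of a hyperelliptic curve in its function field. -/
theorem main (X : Scheme.{u}) [X.Over (Spec (CommRingCat.of k))]
    (hprojX : ∃ (N : ℕ) (i : X ⟶ CohB1.ProjSpace N k), IsClosedImmersion i ∧
      i ≫ CohB1.ProjSpace.toSpec N k = X ↘ (Spec (CommRingCat.of k)))
    [IsIntegral X] (hdX : topologicalKrullDim X = 1) [Smooth (X ↘ (Spec (CommRingCat.of k)))]
    (hX0 : Module.finrank k (Coh.HH X (Coh.structureModule X) 0) = 1)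
    (g : ℕ) (hg : Curv2.genus k X = g)
    (hhyp : ∃ f : X ⟶ CohB1.ProjSpace 1 k,
        f ≫ CohB1.ProjSpace.toSpec 1 k = X ↘ (Spec (CommRingCat.of k)) ∧ IsFinite f ∧
        f.residueDegree (genericPoint X) = 2 ∧
        letI := (f.residueFieldMap (genericPoint X)).hom.toAlgebra
        Algebra.IsSeparable ((CohB1.ProjSpace 1 k).residueField (f (genericPoint X)))
          (X.residueField (genericPoint X))) :
    ∃ (t y : X.functionField) (P Q : Polynomial k),
      IntermediateField.adjoin k ({t, y} : Set X.functionField) = ⊤ ∧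
      Module.finrank (IntermediateField.adjoin k ({t} : Set X.functionField)) X.functionField = 2 ∧
      Algebra.IsSeparable (IntermediateField.adjoin k ({t} : Set X.functionField))
        X.functionField ∧
      y ^ 2 + Polynomial.aeval t Q * y = Polynomial.aeval t P ∧
      2 * g + 1 ≤ max (2 * Q.natDegree) P.natDegree ∧
      max (2 * Q.natDegree) P.natDegree ≤ 2 * g + 2 ∧
      (ringChar k ≠ 2 → ∃ (t' y' : X.functionField) (P' : Polynomial k),
        IntermediateField.adjoin k ({t', y'} : Set X.functionField) = ⊤ ∧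
        Module.finrank (IntermediateField.adjoin k ({t'} : Set X.functionField))
          X.functionField = 2 ∧
        y' ^ 2 = Polynomial.aeval t' P' ∧ 2 * g + 1 ≤ P'.natDegree ∧
        P'.natDegree ≤ 2 * g + 2) := by
  obtain ⟨f₀, hf, hfin, hdeg, hsep⟩ := hhyp
  let f : X ⟶ PP k := f₀
  haveI : IsFinite f := hfin
  have hdeg' : f.residueDegree (genericPoint X) = 2 := hdeg
  haveI hprop : IsProper (X ↘ Spec (CommRingCat.of k)) := by
    obtain ⟨N, i, hi, hic⟩ := hprojX
    rw [← hic]
    haveI := hi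
    haveI := Groth.Agent.H5.AG.isProper_toSpec N k
    infer_instance
  haveI : IsIntegral (PP k) := inferInstanceAs (IsIntegral (P1 k))
  have hgen : f (genericPoint X) = genericPoint (PP k) := by
    refine map_genericPoint_eq_of_isFinite f (by rw [hdX]) ?_
    have := Groth.Agent.H5.IntN.dim_projSpace k 1
    exact this.le
  haveI : Flat f := flat_of_dedekind_charts f hgen (exists_dedekind_chart k)
  have hrk : ∀ y, f.finrank y = 2 := fun y => by
    obtain ⟨V, hV, hy, hP⟩ := exists_pid_chart k y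
    rw [finrank_eq_residueDegree f hgen V hV hP y hy, hdeg']
  obtain ⟨P, Q, y, hub, hlb, hrel, hspan, hindep, h2⟩ :=
    exists_equation_of_cover2 k hdX g hg hX0 f hf hrk
  have hη : f (genericPoint X) ∈ U0 k := by rw [hgen]; exact genericPoint_mem_U0 k
  have hU0 : IsAffineOpen (U0 k) := isAffineOpen_U0 k
  haveI : Nonempty (f ⁻¹ᵁ U0 k) := ⟨⟨_, hη⟩⟩
  -- the rings and maps
  let gη : Γ(X, f ⁻¹ᵁ U0 k) →+* X.functionField :=
    (X.presheaf.germ (f ⁻¹ᵁ U0 k) (genericPoint X) hη).hom
  let σ : Γ(PP k, U0 k) →+* Γ(X, f ⁻¹ᵁ U0 k) := (f.app (U0 k)).hom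
  let γ : Γ(PP k, U0 k) →+* (PP k).presheaf.stalk (f (genericPoint X)) :=
    ((PP k).presheaf.germ (U0 k) (f (genericPoint X)) hη).hom
  let sm : (PP k).presheaf.stalk (f (genericPoint X)) →+* X.functionField :=
    (f.stalkMap (genericPoint X)).hom
  have hKf : IsField ((PP k).presheaf.stalk (f (genericPoint X))) :=
    isField_stalk_of_eq_genericPoint (f (genericPoint X)) hgen
  have hLf : IsField (X.presheaf.stalk (genericPoint X)) := Field.toIsField X.functionField
  letI : Field ((PP k).presheaf.stalk (f (genericPoint X))) := hKf.toField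
  have hsm : ∀ a, sm (γ a) = gη (σ a) := fun a =>
    Scheme.Hom.germ_stalkMap_apply f (U0 k) (genericPoint X) hη a
  set t : X.functionField := gη (σ (t0 k)) with ht
  have htp : ∀ p : k[X], gη (σ (φ0 k p)) = aeval t p := fun p => germ_φ0 k f hf hη p
  -- fractions
  have hL : ∀ z : X.functionField, ∃ a b : Γ(X, f ⁻¹ᵁ U0 k), gη b ≠ 0 ∧ z * gη b = gη a := by
    intro z
    haveI := functionField_isFractionRing_of_isAffineOpen X (f ⁻¹ᵁ U0 k) (hU0.preimage f)
    obtain ⟨⟨a, b⟩, hab⟩ := IsLocalization.surj (nonZeroDivisors Γ(X, f ⁻¹ᵁ U0 k)) z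
    refine ⟨a, b.1, ?_, hab⟩
    exact IsFractionRing.to_map_ne_zero_of_mem_nonZeroDivisors b.2
  have hK : ∀ z : (PP k).presheaf.stalk (f (genericPoint X)),
      ∃ a b : Γ(PP k, U0 k), γ b ≠ 0 ∧ z * γ b = γ a := by
    intro z
    letI : Algebra Γ(PP k, U0 k) ((PP k).presheaf.stalk (f (genericPoint X))) := γ.toAlgebra
    haveI : IsFractionRing Γ(PP k, U0 k) ((PP k).presheaf.stalk (f (genericPoint X))) :=
      isFractionRing_stalk_of_eq_genericPoint (U0 k) hU0 _ hgen hη
    haveI := isDomain_U0 k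
    obtain ⟨⟨a, b⟩, hab⟩ := IsLocalization.surj (nonZeroDivisors Γ(PP k, U0 k)) z
    refine ⟨a, b.1, ?_, hab⟩
    exact IsFractionRing.to_map_ne_zero_of_mem_nonZeroDivisors b.2
  obtain ⟨htop, e, he⟩ := ff_alg (k := k) (φ0 k) (φ0_surjective k) σ gη γ sm hsm hK hL t htp y hspan
  -- residue fields
  let i : (PP k).presheaf.stalk (f (genericPoint X)) ≃+* (PP k).residueField (f (genericPoint X)) :=
    RingEquiv.ofBijective (IsLocalRing.residue _) (residue_bijective_of_isField _ hKf)
  let j : (X.presheaf.stalk (genericPoint X)) ≃+* X.residueField (genericPoint X) :=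
    RingEquiv.ofBijective (IsLocalRing.residue _) (residue_bijective_of_isField _ hLf)
  letI a6 : Algebra ((PP k).residueField (f (genericPoint X))) (X.residueField (genericPoint X)) :=
    (f.residueFieldMap (genericPoint X)).hom.toAlgebra
  haveI : Algebra.IsSeparable ((PP k).residueField (f (genericPoint X)))
    (X.residueField (genericPoint X)) := hsep
  let e₁ : (PP k).residueField (f (genericPoint X)) ≃+*
      IntermediateField.adjoin k ({t} : Set X.functionField) := i.symm.trans e
  let e₂ : X.residueField (genericPoint X) ≃+* X.functionField := j.symm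
  have hee : RingHom.comp (algebraMap (IntermediateField.adjoin k ({t} : Set X.functionField))
      X.functionField) (e₁ : _ →+* _) = RingHom.comp (e₂ : _ →+* _)
        (algebraMap ((PP k).residueField (f (genericPoint X))) (X.residueField (genericPoint X))) := by
    ext w
    obtain ⟨z, rfl⟩ := i.surjective w
    change ((e (i.symm (i z)) : IntermediateField.adjoin k ({t} : Set X.functionField)) :
      X.functionField) = j.symm ((f.residueFieldMap (genericPoint X)).hom (i z))
    rw [i.symm_apply_apply, he]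
    have h3 : (f.residueFieldMap (genericPoint X)).hom (i z) = j (sm z) :=
      congr($(Scheme.residue_residueFieldMap f (genericPoint X)) z)
    rw [h3, j.symm_apply_apply]
  have hfr : Module.finrank (IntermediateField.adjoin k ({t} : Set X.functionField))
      X.functionField = 2 := by
    rw [← Algebra.finrank_eq_of_equiv_equiv e₁ e₂ hee]
    exact hdeg'
  have hsepF : Algebra.IsSeparable (IntermediateField.adjoin k ({t} : Set X.functionField))
      X.functionField := Algebra.IsSeparable.of_equiv_equiv e₁ e₂ hee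
  have hrelK : gη y ^ 2 + aeval t Q * gη y = aeval t P := by
    have h3 := congrArg gη hrel
    rw [map_sub, map_add, map_pow, map_mul, map_zero, htp, htp] at h3
    exact sub_eq_zero.mp h3
  refine ⟨t, gη y, P, Q, ?_, hfr, hsepF, hrelK, ?_, ?_, ?_⟩
  · exact htop _ (IntermediateField.subset_adjoin k _ (by simp))
      (IntermediateField.subset_adjoin k _ (by simp))
  · rw [max_comm]; exact hlb
  · rw [max_comm]; exact hub
  · intro hchar
    have h2k : (2 : k) ≠ 0 := Ring.two_ne_zero hchar
    obtain ⟨P', hsq, hub', hlb'⟩ := h2 h2k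
    refine ⟨t, gη y + aeval t (Polynomial.C (2⁻¹ : k) * Q), P', ?_, hfr, ?_, hlb', hub'⟩
    · apply htop
      · exact IntermediateField.subset_adjoin k _ (by simp)
      · have h3 : gη y + aeval t (Polynomial.C (2⁻¹ : k) * Q) ∈
            IntermediateField.adjoin k
              ({t, gη y + aeval t (Polynomial.C (2⁻¹ : k) * Q)} : Set X.functionField) :=
          IntermediateField.subset_adjoin k _ (by simp)
        have h4 : aeval t (Polynomial.C (2⁻¹ : k) * Q) ∈
            IntermediateField.adjoin k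
              ({t, gη y + aeval t (Polynomial.C (2⁻¹ : k) * Q)} : Set X.functionField) :=
          aeval_mem_of_mem _ t (IntermediateField.subset_adjoin k _ (by simp)) _
        have h5 := sub_mem h3 h4
        rwa [add_sub_cancel_right] at h5
    · have h3 := congrArg gη hsq
      rw [map_pow, map_add, htp, htp] at h3
      exact h3

end Groth.Agent.H5.Gro.HypFF
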