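import Mathlib
import Groth.Agent.Lib.Helper5.Gro.HypFF
import Groth.Agent.Lib.Helper5.DegC.PullDeg
import Groth.Agent.Lib.Lead.Curve.InvMono
import Groth.Agent.Lib.Helper2.HypIdD
import Groth.Prelude.Def_LinSer
import Groth.Prelude.Def_Twist2
import Groth.Prelude.Def_Omega3

/-!
# The morphism to the projective line attached to a `g¹_d`: degree bound, and the constant case.
-/

set_option autoImplicit false
set_option linter.style.haveILetI false
universe u
open CategoryTheory CategoryTheory.Limits AlgebraicGeometry TopologicalSpace Opposite

namespace Groth.Agent.H5.Gro.G1d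

open Groth.Agent.H5.Gro.HypDom Groth.Agent.LD Groth.Agent.LD.QC

section Top

variable {Y : Type*} [TopologicalSpace Y]

/-- in an irreducible sober space of dimension at most one every point is generic or closed. -/
theorem eq_genericPoint_or_isClosed [IrreducibleSpace Y] [QuasiSober Y] [T0Space Y]
    (hY : topologicalKrullDim Y ≤ 1) (y : Y) : y = genericPoint Y ∨ IsClosed ({y} : Set Y) := by
  by_cases hy : y = genericPoint Y
  · exact Or.inl hy
  right
  rw [← closure_eq_iff_isClosed]
  refine Set.Subset.antisymm ?_ subset_closure
  intro z hz
  by_contra hne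
  have hne' : y ≠ z := fun h => hne (by rw [h]; exact Set.mem_singleton z)
  have hs : y ⤳ z := specializes_iff_mem_closure.mpr hz
  have c1 : cl z < cl y := cl_lt hs hne'
  have c2 : cl y < cl (genericPoint Y) := cl_lt (genericPoint_specializes y) (Ne.symm hy)
  let p : LTSeries (IrreducibleCloseds Y) :=
    ((RelSeries.singleton _ (cl z)).snoc (cl y) c1).snoc (cl (genericPoint Y)) (by
      simpa using c2)
  have hp : (p.length : WithBot ℕ∞) ≤ topologicalKrullDim Y := Order.LTSeries.length_le_krullDim p
  have hp2 : p.length = 2 := by simp [p]
  rw [hp2] at hp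
  have := hp.trans hY
  norm_cast at this

end Top

section Sch

variable {X Y : Scheme.{u}}

/-- a morphism from an integral scheme to an integral scheme of dimension at most one which does
not map into a closed point maps the generic point to the generic point. -/
theorem map_genericPoint_of_nonconstant [IsIntegral X] [IsIntegral Y] (φ : X ⟶ Y)
    (hY : topologicalKrullDim Y ≤ 1)
    (h : ¬ ∃ p : Y, IsClosed ({p} : Set Y) ∧ Set.range φ ⊆ {p}) :
    φ (genericPoint X) = genericPoint Y := by
  rcases eq_genericPoint_or_isClosed hY (φ (genericPoint X)) with h1 | h1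
  · exact h1
  · exfalso
    apply h
    refine ⟨_, h1, ?_⟩
    rintro _ ⟨x, rfl⟩
    have h2 : φ (genericPoint X) ⤳ φ x := (genericPoint_specializes x).map φ.continuous
    have hx : φ x ∈ closure ({φ (genericPoint X)} : Set Y) := specializes_iff_mem_closure.mp h2
    rwa [h1.closure_eq] at hx

/-- the degree of the function field extension, computed on local rings, is the residue degree
at the generic point. -/
theorem finrank_stalk_eq_residueDegree [IsIntegral X] [IsIntegral Y] (φ : X ⟶ Y)
    (hξ : φ (genericPoint X) = genericPoint Y) :
    (letI := (φ.stalkMap (genericPoint X)).hom.toAlgebra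
     Module.finrank (Y.presheaf.stalk (φ (genericPoint X))) X.functionField) =
      φ.residueDegree (genericPoint X) := by
  letI a1 : Algebra (Y.presheaf.stalk (φ (genericPoint X))) X.functionField :=
    (φ.stalkMap (genericPoint X)).hom.toAlgebra
  letI a2 : Algebra (Y.residueField (φ (genericPoint X))) (X.residueField (genericPoint X)) :=
    (φ.residueFieldMap (genericPoint X)).hom.toAlgebra
  have hK : IsField (Y.presheaf.stalk (φ (genericPoint X))) :=
    isField_stalk_of_eq_genericPoint _ hξ
  have hL : IsField (X.presheaf.stalk (genericPoint X)) := Field.toIsField X.functionField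
  let e1 : Y.presheaf.stalk (φ (genericPoint X)) ≃+* Y.residueField (φ (genericPoint X)) :=
    RingEquiv.ofBijective (Y.residue (φ (genericPoint X))).hom
      (residue_bijective_of_isField _ hK)
  let e2 : X.functionField ≃+* X.residueField (genericPoint X) :=
    RingEquiv.ofBijective (X.residue (genericPoint X)).hom
      (residue_bijective_of_isField _ hL)
  refine Algebra.finrank_eq_of_equiv_equiv e1 e2 ?_
  ext a
  change (φ.residueFieldMap (genericPoint X)).hom ((Y.residue (φ (genericPoint X))).hom a) =
    (X.residue (genericPoint X)).hom ((φ.stalkMap (genericPoint X)).hom a)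
  have := Scheme.residue_residueFieldMap φ (genericPoint X)
  exact congr($(this).hom a)

end Sch

end Groth.Agent.H5.Gro.G1d
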