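import Mathlib
import Groth.Agent.Lib.Helper5.Gro.G1dA

/-!
# The morphism to the projective line attached to a `g¹_d`: the constant case and the main theorem.
-/

set_option autoImplicit false
set_option linter.style.haveILetI false
universe u
open CategoryTheory CategoryTheory.Limits AlgebraicGeometry TopologicalSpace Opposite

namespace Groth.Agent.H5.Gro.G1d

open Groth.Agent.H5.Gro.HypDom Groth.Agent.LD Groth.Agent.LD.QC

section Const

variable {X Y : Scheme.{u}}

/-- sections pulled back along a morphism into an open `V` over which `M` is cyclic are all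
multiples of one section. -/
theorem exists_smul_of_preimage_eq_top (φ : X ⟶ Y) (M : Y.Modules) (V : Y.Opens)
    (hV : φ ⁻¹ᵁ V = ⊤) (e : Γ(M, V))
    (hgen : ∀ m : Γ(M, V), ∃ a : Γ(Y, V), m = a • e) :
    ∃ y : Γ((Scheme.Modules.pullback φ).obj M, φ ⁻¹ᵁ ⊤), ∀ m : Γ(M, ⊤), ∃ b : Γ(X, φ ⁻¹ᵁ ⊤),
      OmegaSh.pullSect φ M ⊤ m = b • y := by
  have hle : φ ⁻¹ᵁ ⊤ ≤ φ ⁻¹ᵁ V := by rw [hV]; exact le_top
  refine ⟨((Scheme.Modules.pullback φ).obj M).presheaf.map (homOfLE hle).op
    (OmegaSh.pullSect φ M V e), fun m => ?_⟩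
  obtain ⟨a, ha⟩ := hgen (M.presheaf.map (homOfLE (le_top : V ≤ ⊤)).op m)
  refine ⟨X.presheaf.map (homOfLE hle).op (φ.app V a), ?_⟩
  have h1 := OmegaSh.pullSect_map φ M (le_top : V ≤ ⊤) m
  rw [ha, OmegaSh.pullSect_smul] at h1
  have h2 := congrArg (((Scheme.Modules.pullback φ).obj M).presheaf.map (homOfLE hle).op) h1
  rw [res_res, res_self] at h2
  rw [← h2]
  exact Scheme.Modules.map_smul _ _ _ _

variable (k : Type u) [Field k] [X.Over (Spec (CommRingCat.of k))]

/-- two `k`-linearly independent sections cannot both be images of sections pulled back along a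
morphism into an open over which the module is cyclic, if the global functions are `k`. -/
theorem false_of_const (hX0 : Module.finrank k (Coh.HH X (Coh.structureModule X) 0) = 1)
    (φ : X ⟶ Y) (M : Y.Modules) (V : Y.Opens)
    (hV : φ ⁻¹ᵁ V = ⊤) (e : Γ(M, V))
    (hgen : ∀ m : Γ(M, V), ∃ a : Γ(Y, V), m = a • e)
    (L : X.Modules) (α : (Scheme.Modules.pullback φ).obj M ⟶ L) (m : Fin 2 → Γ(M, ⊤))
    (s : Fin 2 → LinSer.Sect X L)
    (hα : ∀ i, (α.val.app (op ⊤)).hom (OmegaSh.pullSect φ M ⊤ (m i)) = s i)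
    (hs : LinSer.LinIndep k X L s) : False := by
  obtain ⟨y, hy⟩ := exists_smul_of_preimage_eq_top φ M V hV e hgen
  have hsurj := (Groth.Agent.H2.HypId.structMap_bijective k X hX0).2
  have key : ∀ i, ∃ c : k, s i = Coh.toGlobal (X ↘ Spec (CommRingCat.of k)) c •
      (α.val.app (op ⊤)).hom y := by
    intro i
    obtain ⟨b, hb⟩ := hy (m i)
    obtain ⟨c, hc⟩ := hsurj b
    refine ⟨c, ?_⟩
    rw [← hα i, hb]
    have : Coh.toGlobal (X ↘ Spec (CommRingCat.of k)) c = b := hc
    rw [this]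
    exact (α.val.app (op ⊤)).hom.map_smul b y
  obtain ⟨c0, h0⟩ := key 0
  obtain ⟨c1, h1⟩ := key 1
  have hlin := hs ![c1, -c0] (by
    rw [Fin.sum_univ_two]
    simp only [Matrix.cons_val_zero, Matrix.cons_val_one]
    rw [h0, h1, smul_smul, smul_smul, ← add_smul, ← map_mul, ← map_mul, ← map_add]
    have : c1 * c0 + -c0 * c1 = 0 := by ring
    rw [this, map_zero, zero_smul])
  have hc1 : c1 = 0 := by simpa using congrFun hlin 0
  have hc0 : c0 = 0 := by simpa using congrFun hlin 1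
  have hs0 : s 0 = 0 := by rw [h0, hc0, map_zero, zero_smul]
  have hlin2 := hs ![1, 0] (by
    rw [Fin.sum_univ_two]
    simp only [Matrix.cons_val_zero, Matrix.cons_val_one]
    rw [hs0, smul_zero, map_zero, zero_smul, add_zero])
  have : (1 : k) = 0 := by simpa using congrFun hlin2 0
  exact one_ne_zero this

end Const

section Main

variable (k : Type u) [Field k]

open Groth.Agent.H5.Gro Groth.Agent.H5.Gro.P1C Groth.Agent.H5.Gro.HypFF Twist
open Groth.Agent.H5.Curve6 Groth.Agent.H5.DegC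

lemma hgen_E0 (m : Γ(twist (CohB1.polyGrading 1 k) 1, U0 k)) :
    ∃ a : Γ(PP k, U0 k), m = a • E0 k 1 := by
  obtain ⟨a, ha⟩ := ((isBasisOver_E0 k 1) (U0 k) le_rfl).2 m
  refine ⟨a, ?_⟩
  rw [← ha]
  simp only [res_self]

lemma hgen_E1 (m : Γ(twist (CohB1.polyGrading 1 k) 1, U1 k)) :
    ∃ a : Γ(PP k, U1 k), m = a • E1 k 1 := by
  obtain ⟨a, ha⟩ := ((isBasisOver_E1 k 1) (U1 k) le_rfl).2 m
  refine ⟨a, ?_⟩
  rw [← ha]
  simp only [res_self]

/-- **S6579**. -/
theorem main (X : Scheme.{u}) [X.Over (Spec (CommRingCat.of k))]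
    [IsIntegral X] [IsProper (X ↘ (Spec (CommRingCat.of k)))] (hdim : topologicalKrullDim X = 1)
    (d : ℕ) (L : X.Modules) (s : Fin (1 + 1) → LinSer.Sect X L)
    (hL : LinSer.IsLinSer k X L d 1 s)
    (φ : X ⟶ CohB1.ProjSpace 1 k)
    (α : (Scheme.Modules.pullback φ).obj (Twist.twistProjSpace 1 k 1) ⟶ L)
    (hφ : φ ≫ CohB1.ProjSpace.toSpec 1 k = X ↘ (Spec (CommRingCat.of k)) ∧
        ∀ i : Fin (1 + 1), (α.val.app (Opposite.op ⊤)).hom
          (OmegaSh.pullSect φ (Twist.twistProjSpace 1 k 1) ⊤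
            (Twist.globalOf (CohB1.polyGrading 1 k)
              (⟨MvPolynomial.X i, MvPolynomial.isHomogeneous_X k i⟩ :
                (CohB1.polyGrading 1 k) 1))) = s i) :
    ((¬ ∃ p : CohB1.ProjSpace 1 k, IsClosed ({p} : Set (CohB1.ProjSpace 1 k)) ∧
        Set.range φ ⊆ {p}) ∧
      (letI := (φ.stalkMap (genericPoint X)).hom.toAlgebra
       Module.finrank ((CohB1.ProjSpace 1 k).presheaf.stalk (φ (genericPoint X)))
        X.functionField ≤ d)) ∨
    ((∃ p : CohB1.ProjSpace 1 k, IsClosed ({p} : Set (CohB1.ProjSpace 1 k)) ∧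
        Set.range φ ⊆ {p}) ∧
      Module.finrank k (Coh.HH X (Coh.structureModule X) 0) ≠ 1) := by
  let φ' : X ⟶ PP k := φ
  by_cases hc : ∃ p : CohB1.ProjSpace 1 k, IsClosed ({p} : Set (CohB1.ProjSpace 1 k)) ∧
      Set.range φ ⊆ {p}
  · right
    refine ⟨hc, fun hX0 => ?_⟩
    obtain ⟨p, -, hr⟩ := hc
    let p' : ↥(PP k) := p
    have hpre : ∀ V : (PP k).Opens, p' ∈ V → φ' ⁻¹ᵁ V = ⊤ := by
      intro V hpV
      ext x
      simp only [Opens.coe_top, Set.mem_univ, iff_true]
      have : φ x ∈ ({p} : Set (CohB1.ProjSpace 1 k)) := hr ⟨x, rfl⟩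
      rw [Set.mem_singleton_iff] at this
      change φ x ∈ V
      rw [this]
      exact hpV
    rcases mem_U0_or_U1 k p' with h | h
    · exact false_of_const k hX0 φ' (twist (CohB1.polyGrading 1 k) 1) (U0 k) (hpre _ h)
        (E0 k 1) (hgen_E0 k) L α _ s hφ.2 hL.2.2
    · exact false_of_const k hX0 φ' (twist (CohB1.polyGrading 1 k) 1) (U1 k) (hpre _ h)
        (E1 k 1) (hgen_E1 k) L α _ s hφ.2 hL.2.2
  · left
    refine ⟨hc, ?_⟩
    haveI : IsIntegral (CohB1.ProjSpace 1 k) := inferInstanceAs (IsIntegral (P1 k))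
    have hξ : φ (genericPoint X) = genericPoint (CohB1.ProjSpace 1 k) :=
      map_genericPoint_of_nonconstant φ (dim_P1 k) hc
    rw [finrank_stalk_eq_residueDegree φ hξ]
    have hP1 : topologicalKrullDim (P1 k) = 1 := Groth.Agent.H5.IntN.dim_projSpace k 1
    have hdeg := deg_pullback_eq k hdim.le hP1 φ hφ.1 hξ 1 (O k 1) (rank_O k 1)
    rw [deg_twist_P1, mul_one] at hdeg
    have hinv : PicF.IsInvertible ((Scheme.Modules.pullback φ).obj (O k 1)) :=
      isInvertible_pullback φ (isInv_O k 1)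
    have hs0 : s 0 ≠ 0 := by
      intro hs0
      have := hL.2.2 ![1, 0] (by
        rw [Fin.sum_univ_two]
        simp only [Matrix.cons_val_zero, Matrix.cons_val_one]
        rw [hs0, smul_zero, map_zero, zero_smul, add_zero])
      have h10 : (1 : k) = 0 := by simpa using congrFun this 0
      exact one_ne_zero h10
    have hα : α ≠ 0 := by
      rintro rfl
      apply hs0
      rw [← hφ.2 0]
      rfl
    have hle := (Curve.deg_le_of_ne_zero k X hdim.le hinv hL.1 α hα).1
    rw [hdeg, hL.2.1] at hle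
    exact_mod_cast hle

end Main

end Groth.Agent.H5.Gro.G1d
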