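import Mathlib
import Groth.Agent.Lib.Helper5.Gro.HypCore

/-!
# The algebraic core of a double cover of the projective line: both charts.
-/

set_option autoImplicit false
universe u
open Polynomial LaurentPolynomial

namespace Groth.Agent.H5.Gro.HypCore

variable {k : Type*} [Field k]

/-- **both charts**: the equations on the two charts of a double cover of the projective line
and the relations between their coefficients. -/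
theorem core3 {R₀ R₁ R₀₁ A₀ A₁ A₀₁ : Type*} [CommRing R₀] [CommRing R₁] [CommRing R₀₁]
    [CommRing A₀] [CommRing A₁] [CommRing A₀₁]
    (r₀ : R₀ →+* R₀₁) (r₁ : R₁ →+* R₀₁) (σ₀ : R₀ →+* A₀) (σ₁ : R₁ →+* A₁) (σ₀₁ : R₀₁ →+* A₀₁)
    (ρ₀ : A₀ →+* A₀₁) (ρ₁ : A₁ →+* A₀₁)
    (h₀ : ∀ a, ρ₀ (σ₀ a) = σ₀₁ (r₀ a)) (h₁ : ∀ a, ρ₁ (σ₁ a) = σ₀₁ (r₁ a))
    (φ₀ : k[X] ≃+* R₀) (φ₁ : k[X] ≃+* R₁) (ψ : R₀₁ →+* k[T;T⁻¹])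
    (hψ₀ : ∀ a, ψ (r₀ (φ₀ a)) = toLaurent a)
    (hψ₁ : ∀ b, ψ (r₁ (φ₁ b)) = invert (toLaurent b))
    (y₀ : A₀) (y₁ : A₁)
    (hs₀ : ∀ z : A₀, ∃ a b : R₀, z = σ₀ a + σ₀ b * y₀)
    (hs₁ : ∀ z : A₁, ∃ a b : R₁, z = σ₁ a + σ₁ b * y₁)
    (hi₀₁ : ∀ a b : R₀₁, σ₀₁ a + σ₀₁ b * ρ₀ y₀ = 0 → a = 0 ∧ b = 0)
    (N : ℕ) (hy : ρ₁ y₁ = σ₀₁ (r₁ (φ₁ X)) ^ N * ρ₀ y₀) :
    ∃ P Q P₁ Q₁ : k[X], y₀ ^ 2 = σ₀ (φ₀ P) + σ₀ (φ₀ Q) * y₀ ∧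
      y₁ ^ 2 = σ₁ (φ₁ P₁) + σ₁ (φ₁ Q₁) * y₁ ∧
      toLaurent P = T ((2 * N : ℕ) : ℤ) * invert (toLaurent P₁) ∧
      toLaurent Q = T ((N : ℕ) : ℤ) * invert (toLaurent Q₁) := by
  obtain ⟨p₀, q₀, hpq₀⟩ := hs₀ (y₀ ^ 2)
  obtain ⟨p₁, q₁, hpq₁⟩ := hs₁ (y₁ ^ 2)
  obtain ⟨P, rfl⟩ := φ₀.surjective p₀
  obtain ⟨Q, rfl⟩ := φ₀.surjective q₀
  obtain ⟨P₁, rfl⟩ := φ₁.surjective p₁
  obtain ⟨Q₁, rfl⟩ := φ₁.surjective q₁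
  -- the relation on the overlap
  set u : R₀₁ := r₁ (φ₁ X) with hu
  have hψu : ψ u = T (-1) := by
    rw [hu, hψ₁, toLaurent_X, invert_T]
  have e0 : ρ₀ y₀ ^ 2 = σ₀₁ (r₀ (φ₀ P)) + σ₀₁ (r₀ (φ₀ Q)) * ρ₀ y₀ := by
    rw [← map_pow, hpq₀, map_add, map_mul, h₀, h₀]
  have e1 : ρ₁ y₁ ^ 2 = σ₀₁ (r₁ (φ₁ P₁)) + σ₀₁ (r₁ (φ₁ Q₁)) * ρ₁ y₁ := by
    rw [← map_pow, hpq₁, map_add, map_mul, h₁, h₁]
  rw [hy] at e1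
  have e2 : σ₀₁ (u ^ (2 * N) * r₀ (φ₀ P) - r₁ (φ₁ P₁)) +
      σ₀₁ (u ^ (2 * N) * r₀ (φ₀ Q) - u ^ N * r₁ (φ₁ Q₁)) * ρ₀ y₀ = 0 := by
    have : (σ₀₁ u ^ N * ρ₀ y₀) ^ 2 = σ₀₁ u ^ (2 * N) * ρ₀ y₀ ^ 2 := by ring
    rw [this, e0] at e1
    simp only [map_sub, map_mul, map_pow]
    linear_combination e1
  obtain ⟨e3, e4⟩ := hi₀₁ _ _ e2
  have e5 := congrArg ψ e3
  have e6 := congrArg ψ e4
  rw [map_sub, map_mul, map_pow, map_zero, hψu, hψ₀, hψ₁, T_pow, sub_eq_zero] at e5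
  rw [map_sub, map_mul, map_mul, map_pow, map_pow, map_zero, hψu, hψ₀, hψ₁, T_pow, T_pow,
    sub_eq_zero] at e6
  have e7 : toLaurent P = T ((2 * N : ℕ) : ℤ) * invert (toLaurent P₁) := by
    rw [← e5, ← mul_assoc, ← T_add]
    have : ((2 * N : ℕ) : ℤ) + ((2 * N : ℕ) : ℤ) * (-1) = 0 := by ring
    rw [this, T_zero, one_mul]
  have e8 : toLaurent Q = T ((N : ℕ) : ℤ) * invert (toLaurent Q₁) := by
    have h := congrArg (fun z => T ((2 * N : ℕ) : ℤ) * z) e6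
    beta_reduce at h
    rw [← mul_assoc, ← T_add, ← mul_assoc, ← T_add] at h
    have a1 : ((2 * N : ℕ) : ℤ) + ((2 * N : ℕ) : ℤ) * (-1) = 0 := by ring
    have a2 : ((2 * N : ℕ) : ℤ) + ((N : ℕ) : ℤ) * (-1) = (N : ℤ) := by push_cast; ring
    rw [a1, a2, T_zero, one_mul] at h
    exact h
  exact ⟨P, Q, P₁, Q₁, hpq₀, hpq₁, e7, e8⟩

/-- if `q(T) = T^N q₁(T⁻¹)` and `q = 0` then `q₁ = 0`. -/
lemma eq_zero_of_reflect (q₁ : k[X]) (N : ℕ)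
    (h : toLaurent (0 : k[X]) = T (N : ℤ) * invert (toLaurent q₁)) : q₁ = 0 := by
  rw [map_zero] at h
  have h1 := congrArg (fun z => T (-(N : ℤ)) * z) h
  beta_reduce at h1
  rw [mul_zero, ← mul_assoc, ← T_add, neg_add_cancel, T_zero, one_mul] at h1
  have h2 : toLaurent q₁ = 0 := by
    have := congrArg invert h1
    rw [involutive_invert (toLaurent q₁), map_zero] at this
    exact this.symm
  exact toLaurent_injective (h2.trans (map_zero _).symm)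

end Groth.Agent.H5.Gro.HypCore
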