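import Mathlib
import Groth.Agent.Lib.Helper5.Gro.HypEq2
import Groth.Agent.Lib.Helper5.Gro.HypCore3

/-!
# The equations of a double cover of the projective line on both charts.
-/

set_option autoImplicit false
set_option linter.style.haveILetI false
universe u
open CategoryTheory CategoryTheory.Limits AlgebraicGeometry TopologicalSpace Opposite

namespace Groth.Agent.H5.Gro.HypGlue

open Groth.Agent.LD Groth.Agent.LD.QC Twist Groth.Agent.H5.Gro.P1C Groth.Agent.LD.TW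
open Groth.Agent.LD.PN Groth.Agent.H5.Gro.TM

variable {k : Type u} [Field k] {C : Scheme.{u}} {f : C ⟶ PP k}

open Polynomial LaurentPolynomial in
theorem Split.exists_equation3 (N : ℕ) (S : Split f (twist (CohB1.polyGrading 1 k) (-(N : ℤ)))) :
    ∃ P Q P₁ Q₁ : k[X],
      (toFn f (S.ι₁.app (U0 k) (E0 k (-(N : ℤ))))) ^ 2 =
        (f.app (U0 k)).hom (φ0 k P) +
          (f.app (U0 k)).hom (φ0 k Q) * toFn f (S.ι₁.app (U0 k) (E0 k (-(N : ℤ)))) ∧
      (toFn f (S.ι₁.app (U1 k) (E1 k (-(N : ℤ))))) ^ 2 =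
        (f.app (U1 k)).hom (φ1 k P₁) +
          (f.app (U1 k)).hom (φ1 k Q₁) * toFn f (S.ι₁.app (U1 k) (E1 k (-(N : ℤ)))) ∧
      toLaurent P = T ((2 * N : ℕ) : ℤ) * invert (toLaurent P₁) ∧
      toLaurent Q = T ((N : ℕ) : ℤ) * invert (toLaurent Q₁) := by
  have hnat0 : ∀ a : Γ(PP k, U0 k),
      (C.presheaf.map (homOfLE (f.preimage_mono (U01_le_U0 k))).op).hom ((f.app (U0 k)).hom a) =
        (f.app (U01 k)).hom (((PP k).presheaf.map (homOfLE (U01_le_U0 k)).op).hom a) := by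
    intro a
    have := f.naturality (homOfLE (U01_le_U0 k)).op
    exact (congr($this a)).symm
  have hnat1 : ∀ a : Γ(PP k, U1 k),
      (C.presheaf.map (homOfLE (f.preimage_mono (U01_le_U1 k))).op).hom ((f.app (U1 k)).hom a) =
        (f.app (U01 k)).hom (((PP k).presheaf.map (homOfLE (U01_le_U1 k)).op).hom a) := by
    intro a
    have := f.naturality (homOfLE (U01_le_U1 k)).op
    exact (congr($this a)).symm
  exact HypCore.core3 (k := k)
    ((PP k).presheaf.map (homOfLE (U01_le_U0 k)).op).hom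
    ((PP k).presheaf.map (homOfLE (U01_le_U1 k)).op).hom
    (f.app (U0 k)).hom (f.app (U1 k)).hom (f.app (U01 k)).hom
    (C.presheaf.map (homOfLE (f.preimage_mono (U01_le_U0 k))).op).hom
    (C.presheaf.map (homOfLE (f.preimage_mono (U01_le_U1 k))).op).hom
    hnat0 hnat1 (φ0E k) (φ1E k) (ψ01 k)
    (fun a => (ψ01_res0 k _).trans (ψ0_φ0 k a))
    (fun b => (ψ01_res1 k _).trans (ψ1_φ1 k b))
    (toFn f (S.ι₁.app (U0 k) (E0 k (-(N : ℤ)))))
    (toFn f (S.ι₁.app (U1 k) (E1 k (-(N : ℤ)))))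
    (S.span _ (isBasisOver_E0 k _)) (S.span _ (isBasisOver_E1 k _))
    (fun a b h => by
      refine S.indep _ ((isBasisOver_E0 k (-(N : ℤ))).mono (U01_le_U0 k)) a b ?_
      rw [app_res, res_eq]
      exact h)
    N (by
      have e1 : (C.presheaf.map (homOfLE (f.preimage_mono (U01_le_U1 k))).op).hom
          (toFn f (S.ι₁.app (U1 k) (E1 k (-(N : ℤ))))) =
          toFn f (S.ι₁.app (U01 k) ((twist (CohB1.polyGrading 1 k) (-(N : ℤ))).presheaf.map
            (homOfLE (U01_le_U1 k)).op (E1 k (-(N : ℤ))))) := by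
        rw [app_res, res_eq]
      have e0 : (C.presheaf.map (homOfLE (f.preimage_mono (U01_le_U0 k))).op).hom
          (toFn f (S.ι₁.app (U0 k) (E0 k (-(N : ℤ))))) =
          toFn f (S.ι₁.app (U01 k) ((twist (CohB1.polyGrading 1 k) (-(N : ℤ))).presheaf.map
            (homOfLE (U01_le_U0 k)).op (E0 k (-(N : ℤ))))) := by
        rw [app_res, res_eq]
      have : (φ1E k) Polynomial.X = t1 k := by
        change Polynomial.eval₂ _ _ Polynomial.X = _
        rw [Polynomial.eval₂_X]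
      rw [e1, e0, E1_res, Scheme.Modules.Hom.app_smul, smul_eq, map_pow, this])

section Main

open Groth.Agent.H5.Gro

variable (k)

open Polynomial LaurentPolynomial in
/-- **the equations on both charts of a double cover of the projective line** by an integral
smooth proper curve with `h⁰(O) = 1`. -/
theorem exists_equation_of_cover3 {C : Scheme.{u}} [C.Over (Spec (CommRingCat.of k))]
    [IsProper (C ↘ Spec (CommRingCat.of k))] [Smooth (C ↘ Spec (CommRingCat.of k))]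
    [IsIntegral C]
    (hC : topologicalKrullDim C = 1) (g : ℕ) (hg : Curv2.genus k C = g)
    (h0 : Module.finrank k (Coh.HH C (unitMod C) 0) = 1)
    (f : C ⟶ PP k) (hf : f ≫ CohB1.ProjSpace.toSpec 1 k = C ↘ Spec (CommRingCat.of k))
    [IsFinite f] [Flat f]
    (hrk : ∀ y : ↥(PP k), Scheme.Hom.finrank f y = 2) :
    ∃ (P Q P₁ Q₁ : Polynomial k) (y₀ : Γ(C, f ⁻¹ᵁ U0 k)) (y₁ : Γ(C, f ⁻¹ᵁ U1 k)),
      y₀ ^ 2 = (f.app (U0 k)).hom (φ0 k P) + (f.app (U0 k)).hom (φ0 k Q) * y₀ ∧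
      y₁ ^ 2 = (f.app (U1 k)).hom (φ1 k P₁) + (f.app (U1 k)).hom (φ1 k Q₁) * y₁ ∧
      toLaurent P = T ((2 * (g + 1) : ℕ) : ℤ) * invert (toLaurent P₁) ∧
      toLaurent Q = T ((g + 1 : ℕ) : ℤ) * invert (toLaurent Q₁) ∧
      (∀ z : Γ(C, f ⁻¹ᵁ U0 k), ∃ a b : Γ(PP k, U0 k),
        z = (f.app (U0 k)).hom a + (f.app (U0 k)).hom b * y₀) ∧
      (∀ a b : Γ(PP k, U0 k), (f.app (U0 k)).hom a + (f.app (U0 k)).hom b * y₀ = 0 →
        a = 0 ∧ b = 0) ∧
      (∀ z : Γ(C, f ⁻¹ᵁ U1 k), ∃ a b : Γ(PP k, U1 k),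
        z = (f.app (U1 k)).hom a + (f.app (U1 k)).hom b * y₁) ∧
      (∀ a b : Γ(PP k, U1 k), (f.app (U1 k)).hom a + (f.app (U1 k)).hom b * y₁ = 0 →
        a = 0 ∧ b = 0) := by
  haveI : LocallyOfFiniteType (f ≫ CohB1.ProjSpace.toSpec 1 k) := by rw [hf]; infer_instance
  haveI : LocallyOfFiniteType f := locallyOfFiniteType_of_comp f (CohB1.ProjSpace.toSpec 1 k)
  haveI : IsNoetherian (P1 k) := Curve2.isNoetherian_of_proper k (P1 k)
  haveI : LocallyOfFinitePresentation f :=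
    LocallyOfFinitePresentation.iff_locallyOfFiniteType.mpr inferInstance
  let f' : C ⟶ P1 k := f
  haveI : IsFinite f' := ‹IsFinite f›
  haveI : Flat f' := ‹Flat f›
  haveI : LocallyOfFinitePresentation f' := ‹LocallyOfFinitePresentation f›
  obtain ⟨α⟩ := nonempty_push_unit_iso k f' hf hrk hC.le h0
  have hN : -(Curv2.genus k C : ℤ) - 1 = -(((g + 1 : ℕ)) : ℤ) := by
    rw [hg]; push_cast; ring
  rw [hN] at α
  haveI : Nontrivial Γ(PP k, ⊤) := by
    haveI : IsIntegral (PP k) := inferInstanceAs (IsIntegral (P1 k))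
    infer_instance
  have hlam : ∀ w : Γ(C, f ⁻¹ᵁ ⊤), ∃ c : k, w = (f.app ⊤).hom (κ k ⊤ c) := by
    intro w
    obtain ⟨c, hc⟩ := toGlobal_surjective k C h0 w
    refine ⟨c, ?_⟩
    rw [← hc]
    have e : (C ↘ Spec (CommRingCat.of k)) = f ≫ CohB1.ProjSpace.toSpec 1 k := hf.symm
    unfold Coh.toGlobal
    rw [e]
    unfold κ
    simp only [RingHom.comp_apply]
    have : ((PP k).presheaf.map (homOfLE (le_top : (⊤ : (PP k).Opens) ≤ ⊤)).op) = 𝟙 _ :=
      (PP k).presheaf.map_id _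
    rw [this]
    rfl
  obtain ⟨S⟩ := nonempty_split f (g + 1) α hlam
  obtain ⟨P, Q, P₁, Q₁, hr0, hr1, hP, hQ⟩ := S.exists_equation3 (g + 1)
  exact ⟨P, Q, P₁, Q₁, toFn f (S.ι₁.app (U0 k) (E0 k (-((g + 1 : ℕ) : ℤ)))),
    toFn f (S.ι₁.app (U1 k) (E1 k (-((g + 1 : ℕ) : ℤ)))), hr0, hr1, hP, hQ,
    S.span _ (isBasisOver_E0 k _), S.indep _ (isBasisOver_E0 k _),
    S.span _ (isBasisOver_E1 k _), S.indep _ (isBasisOver_E1 k _)⟩

end Main

end Groth.Agent.H5.Gro.HypGlue
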