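import Mathlib
import Groth.Agent.Lib.Helper3.CA.JacobianHyper

/-!
# The Jacobian criterion for `y² = P(t)` in characteristic two.
-/

set_option autoImplicit false
universe u
open Polynomial TensorProduct

namespace Groth.Agent.H5.Gro.HypJac

variable {k A : Type u} [Field k] [CommRing A] [Algebra k A]

/-- the defining polynomial `Y² - P(t)`. -/
noncomputable def FF (P : k[X]) : k[X][X] := X ^ 2 - C P

lemma monic_FF (P : k[X]) : (FF P).Monic := by
  unfold FF
  apply monic_X_pow_sub
  refine degree_C_le.trans_lt ?_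
  exact_mod_cast (by norm_num : (0 : WithBot ℕ) < 2)

lemma natDegree_FF (P : k[X]) : (FF P).natDegree = 2 := by
  unfold FF
  exact natDegree_X_pow_sub_C

lemma FF_ne_zero (P : k[X]) : FF P ≠ 0 := (monic_FF P).ne_zero

/-- the differential of `Y² - P(t)` in characteristic two. -/
lemma D_FF [CharP k 2] (P : k[X]) :
    KaehlerDifferential.D k k[X][X] (FF P) =
      -(C (derivative P) • KaehlerDifferential.D k k[X][X] (C X)) := by
  unfold FF
  rw [map_sub, Derivation.leibniz_pow]
  have h2 : (2 : ℕ) • ((X : k[X][X]) ^ (2 - 1) • KaehlerDifferential.D k k[X][X] X) = 0 := by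
    rw [← Nat.cast_smul_eq_nsmul k 2]
    have : ((2 : ℕ) : k) = 0 := CharP.cast_eq_zero k 2
    rw [this, zero_smul]
  rw [h2, zero_sub]
  congr 1
  have h3 : (C P : k[X][X]) = aeval (R := k) (C X : k[X][X]) P := by
    have := aeval_algHom_apply (R := k) (CAlgHom (R := k) (A := k[X])) (X : k[X]) P
    rw [aeval_X_left_apply] at this
    exact this.symm
  rw [h3, Derivation.map_aeval]
  congr 1
  have := aeval_algHom_apply (R := k) (CAlgHom (R := k) (A := k[X])) (X : k[X]) (derivative P)
  rw [aeval_X_left_apply] at this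
  exact this

/-- if `R/(F)` is formally smooth over `k` and `dF = -g ω`, then `g` is a unit modulo `F`. -/
theorem isUnit_of_D_eq {R : Type u} [CommRing R] [Algebra k R] [IsDomain R]
    [Algebra.FormallySmooth k R] [Algebra.FiniteType k R] (F : R) (hF : F ≠ 0)
    [Algebra.FormallySmooth k (R ⧸ Ideal.span ({F} : Set R))] (g : R) (ω : Ω[R⁄k])
    (hD : KaehlerDifferential.D k R F = -(g • ω)) :
    IsUnit (Ideal.Quotient.mk (Ideal.span ({F} : Set R)) g) := by
  have hprime : ∀ (Pr : Ideal (R ⧸ Ideal.span ({F} : Set R))) [Pr.IsPrime],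
      Ideal.Quotient.mk _ g ∉ Pr := by
    intro Pr hPr hmem
    haveI : Algebra.FormallySmooth k (Localization.AtPrime Pr) := by
      haveI : Algebra.FormallySmooth (R ⧸ Ideal.span ({F} : Set R)) (Localization.AtPrime Pr) :=
        Algebra.FormallySmooth.of_isLocalization Pr.primeCompl
      exact Algebra.FormallySmooth.comp k (R ⧸ Ideal.span ({F} : Set R)) _
    have hX : Algebra.IsSmoothAt k (Pr.comap (Ideal.Quotient.mk (Ideal.span ({F} : Set R)))) := by
      haveI : Algebra.FormallySmooth R
          (Localization.AtPrime (Pr.comap (Ideal.Quotient.mk (Ideal.span ({F} : Set R))))) :=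
        Algebra.FormallySmooth.of_isLocalization
          (Pr.comap (Ideal.Quotient.mk (Ideal.span ({F} : Set R)))).primeCompl
      exact Algebra.FormallySmooth.comp k R _
    have hsm : Algebra.IsSmoothAt k Pr := inferInstance
    rcases (Groth.Agent.H3.Jac.hypersurface k R F Pr hX).mp hsm with h0 | hne
    · have hinj := IsLocalization.injective
        (Localization.AtPrime (Pr.comap (Ideal.Quotient.mk (Ideal.span ({F} : Set R)))))
        (Pr.comap (Ideal.Quotient.mk (Ideal.span ({F} : Set R)))).primeCompl_le_nonZeroDivisors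
      exact hF (hinj (h0.trans (map_zero _).symm))
    · apply hne
      have hq : algebraMap R
          (Pr.comap (Ideal.Quotient.mk (Ideal.span ({F} : Set R)))).ResidueField g = 0 := by
        rw [Ideal.algebraMap_residueField_eq_zero]
        exact hmem
      rw [hD, TensorProduct.tmul_neg, TensorProduct.tmul_smul, TensorProduct.smul_tmul',
        Algebra.smul_def, hq, zero_mul, TensorProduct.zero_tmul, neg_zero]
  by_contra hnu
  obtain ⟨I, hI, hmem⟩ := exists_max_ideal_of_mem_nonunits (mem_nonunits_iff.mpr hnu)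
  haveI := hI.isPrime
  exact hprime I hmem

/-- **the Jacobian criterion for `y² = P(t)` in characteristic two**: if the algebra
`k[t] ⊕ k[t] y`, `y² = P(t)`, is formally smooth over `k`, then `P'` is a nonzero constant. -/
theorem derivative_eq_C_of_smooth [CharP k 2] [Algebra.FormallySmooth k A]
    (σ : k[X] →ₐ[k] A) (y : A) (P : k[X])
    (hspan : ∀ z : A, ∃ a b : k[X], z = σ a + σ b * y)
    (hindep : ∀ a b : k[X], σ a + σ b * y = 0 → a = 0 ∧ b = 0)
    (hrel : y ^ 2 = σ P) : ∃ c : k, c ≠ 0 ∧ derivative P = C c := by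
  letI : Algebra k[X] A := σ.toRingHom.toAlgebra
  haveI : IsScalarTower k k[X] A :=
    IsScalarTower.of_algebraMap_eq (fun c => (σ.commutes c).symm)
  let π₀ : k[X][X] →ₐ[k[X]] A := aeval y
  let π : k[X][X] →ₐ[k] A := π₀.restrictScalars k
  have hπC : ∀ a : k[X], π (C a) = σ a := fun a => aeval_C y a
  have hπX : π X = y := aeval_X y
  have hπF : π (FF P) = 0 := by
    unfold FF
    rw [map_sub, map_pow, hπX, hπC, hrel, sub_self]
  have hsurj : Function.Surjective π := fun z => by
    obtain ⟨a, b, rfl⟩ := hspan z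
    exact ⟨C a + C b * X, by rw [map_add, map_mul, hπC, hπC, hπX]⟩
  have hker : RingHom.ker π = Ideal.span {FF P} := by
    ext G
    rw [RingHom.mem_ker, Ideal.mem_span_singleton]
    constructor
    · intro hG
      have hmod := modByMonic_add_div G (FF P)
      have hne1 : FF P ≠ 1 := fun h => by
        have := natDegree_FF P
        rw [h, natDegree_one] at this
        omega
      have hdeg : (G %ₘ FF P).natDegree ≤ 1 := by
        have := natDegree_modByMonic_lt G (monic_FF P) hne1
        rw [natDegree_FF] at this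
        omega
      have hr := eq_X_add_C_of_natDegree_le_one hdeg
      have h0 : π (G %ₘ FF P) = 0 := by
        have h1 := congrArg π hmod
        rw [map_add, map_mul, hπF, zero_mul, add_zero, hG] at h1
        exact h1
      rw [hr, map_add, map_mul, hπC, hπC, hπX] at h0
      obtain ⟨ha, hb⟩ := hindep ((G %ₘ FF P).coeff 0) ((G %ₘ FF P).coeff 1) (by
        rw [← h0]; ring)
      rw [ha, hb, map_zero, zero_mul, zero_add] at hr
      rw [hr, zero_add] at hmod
      exact ⟨_, hmod.symm⟩
    · rintro ⟨H, rfl⟩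
      rw [map_mul, hπF, zero_mul]
  let e : (k[X][X] ⧸ Ideal.span {FF P}) ≃ₐ[k] A :=
    (Ideal.quotientEquivAlgOfEq k hker.symm).trans (Ideal.quotientKerAlgEquivOfSurjective hsurj)
  have he : ∀ G : k[X][X], e (Ideal.Quotient.mk _ G) = π G := fun G => rfl
  haveI : Algebra.FormallySmooth k (k[X][X] ⧸ Ideal.span {FF P}) :=
    Algebra.FormallySmooth.of_equiv e.symm
  haveI : Algebra.FormallySmooth k k[X][X] := Algebra.FormallySmooth.comp k k[X] k[X][X]
  haveI : Algebra.FiniteType k k[X][X] := Algebra.FiniteType.trans (S := k[X]) inferInstance inferInstance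
  have hunit : IsUnit (Ideal.Quotient.mk (Ideal.span {FF P}) (C (derivative P))) :=
    isUnit_of_D_eq (FF P) (FF_ne_zero P) (C (derivative P)) _ (D_FF P)
  have hunitA : IsUnit (σ (derivative P)) := by
    have := hunit.map e
    rwa [he, hπC] at this
  obtain ⟨z, hz⟩ := isUnit_iff_exists_inv.mp hunitA
  obtain ⟨a, b, rfl⟩ := hspan z
  have h1 : σ (derivative P * a - 1) + σ (derivative P * b) * y = 0 := by
    rw [map_sub, map_mul, map_mul, map_one]
    linear_combination hz
  obtain ⟨h2, -⟩ := hindep _ _ h1
  have hu : IsUnit (derivative P) := isUnit_iff_exists_inv.mpr ⟨a, sub_eq_zero.mp h2⟩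
  obtain ⟨c, hc, hcP⟩ := Polynomial.isUnit_iff.mp hu
  exact ⟨c, hc.ne_zero, hcP.symm⟩

end Groth.Agent.H5.Gro.HypJac
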