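import Mathlib

/-!
# Separability of quadratic extensions: algebraic lemmas.
-/

set_option autoImplicit false
universe u
open Polynomial

namespace Groth.Agent.H5.Gro.HypSep

/-- an extension of degree two of a field in which `2 ≠ 0` is separable. -/
theorem isSeparable_of_finrank_two {K L : Type*} [Field K] [Field L] [Algebra K L]
    (h : Module.finrank K L = 2) (h2 : (2 : K) ≠ 0) : Algebra.IsSeparable K L := by
  haveI : FiniteDimensional K L := Module.finite_of_finrank_pos (by rw [h]; norm_num)
  obtain ⟨q, hq⟩ : ∃ q, ExpChar K q := ⟨_, ringExpChar.expChar K⟩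
  haveI := hq
  obtain ⟨n, hn⟩ := finInsepDegree_eq_pow K L q
  have hmul := Field.finSepDegree_mul_finInsepDegree K L
  rw [h] at hmul
  have hdvd : Field.finInsepDegree K L ∣ 2 := ⟨_, by rw [mul_comm]; exact hmul.symm⟩
  rw [isSeparable_iff_finInsepDegree_eq_one]
  cases hq with
  | zero => rw [hn, one_pow]
  | prime hprime =>
    rename_i hchar
    rcases Nat.eq_zero_or_pos n with rfl | hn0
    · rw [hn, pow_zero]
    · exfalso
      have h1 : q ∣ 2 := (dvd_pow_self _ hn0.ne').trans (hn ▸ hdvd)
      have h3 : q = 2 := (Nat.prime_dvd_prime_iff_eq hprime Nat.prime_two).mp h1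
      subst h3
      exact h2 (by exact_mod_cast CharP.cast_eq_zero K 2)

variable {k : Type*} [Field k]

/-- in characteristic two, if `P'` is constant then the odd coefficients of `P` of degree at
least three vanish. -/
lemma coeff_eq_zero_of_derivative_eq_C [CharP k 2] (P : k[X]) (c : k) (h : derivative P = C c)
    (m : ℕ) (hm : 1 ≤ m) : P.coeff (2 * m + 1) = 0 := by
  have h1 := congrArg (fun p => p.coeff (2 * m)) h
  beta_reduce at h1
  rw [coeff_derivative, coeff_C, if_neg (by omega)] at h1
  have h2 : ((2 * m : ℕ) : k) + 1 = 1 := by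
    have : ((2 : ℕ) : k) = 0 := CharP.cast_eq_zero k 2
    rw [Nat.cast_mul, this, zero_mul, zero_add]
  rw [h2, mul_one] at h1
  exact h1

lemma coeff_one_of_derivative_eq_C (P : k[X]) (c : k) (h : derivative P = C c) :
    P.coeff 1 = c := by
  have h1 := congrArg (fun p => p.coeff 0) h
  beta_reduce at h1
  rw [coeff_derivative, coeff_C_zero] at h1
  simpa using h1

/-- in characteristic two, `X² - q X - p` is separable when `q ≠ 0`. -/
lemma separable_quadratic {K : Type*} [Field K] (h2 : (2 : K) = 0) (p q : K) (hq : q ≠ 0) :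
    (X ^ 2 - C q * X - C p : K[X]).Separable := by
  rw [separable_def]
  have hd : derivative (X ^ 2 - C q * X - C p : K[X]) = C (-q) := by
    rw [derivative_sub, derivative_sub, derivative_C, derivative_C_mul, derivative_X, mul_one,
      derivative_X_pow, sub_zero]
    have : (C ((2 : ℕ) : K) : K[X]) = 0 := by
      have h3 : ((2 : ℕ) : K) = 0 := by exact_mod_cast h2
      rw [h3, C_0]
    rw [this, zero_mul, zero_sub, C_neg]
  rw [hd]
  refine ⟨0, C (-q)⁻¹, ?_⟩
  rw [zero_mul, zero_add, ← C_mul, inv_mul_cancel₀ (neg_ne_zero.mpr hq), C_1]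

end Groth.Agent.H5.Gro.HypSep
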