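import Mathlib
import Groth.Agent.Lib.Helper5.Gro.HypSepA
import Groth.Agent.Lib.Helper5.Gro.HypJac
import Groth.Agent.Lib.Helper5.Gro.HypEq3
import Groth.Agent.Lib.Helper5.Gro.HypFF

/-!
# A double cover of the projective line by a smooth proper curve of positive genus is separable.
-/

set_option autoImplicit false
set_option linter.style.haveILetI false
universe u
open CategoryTheory CategoryTheory.Limits AlgebraicGeometry TopologicalSpace Opposite

namespace Groth.Agent.H5.Gro.HypSep

open Groth.Agent.LD Groth.Agent.LD.QC Twist Groth.Agent.H5.Gro.P1C Groth.Agent.LD.TW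
open Groth.Agent.LD.PN Groth.Agent.H5.Gro.TM Groth.Agent.H5.Gro.HypGlue Groth.Agent.H5.Gro.HypDom
open Groth.Agent.H5.Gro.HypFF

variable {k : Type u} [Field k]

section Chart

variable {Z : Scheme.{u}}

/-- the structure map of a chart of a `k`-scheme over the projective line. -/
lemma app_κ (s : Z ⟶ Spec (CommRingCat.of k)) (f : Z ⟶ PP k)
    (hf : f ≫ CohB1.ProjSpace.toSpec 1 k = s) (V : (PP k).Opens) (c : k) :
    (f.app V).hom (κ k V c) =
      (s.appLE ⊤ (f ⁻¹ᵁ V) le_top).hom ((Scheme.ΓSpecIso (CommRingCat.of k)).inv.hom c) := by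
  subst hf
  unfold κ
  simp only [RingHom.comp_apply]
  have := f.naturality (homOfLE (le_top : V ≤ ⊤)).op
  have h2 := congr($this ((CohB1.ProjSpace.toSpec 1 k).appTop.hom
    ((Scheme.ΓSpecIso (CommRingCat.of k)).inv.hom c)))
  refine Eq.trans ?_ (h2.trans ?_)
  · rfl
  · rfl

/-- the sections over the preimage of an affine chart form a formally smooth `k`-algebra. -/
lemma formallySmooth_chart (s : Z ⟶ Spec (CommRingCat.of k)) [Smooth s] (f : Z ⟶ PP k)
    [IsAffineHom f] (hf : f ≫ CohB1.ProjSpace.toSpec 1 k = s) (V : (PP k).Opens)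
    (hV : IsAffineOpen V) : RingHom.FormallySmooth ((f.app V).hom.comp (κ k V)) := by
  have h1 : (f.app V).hom.comp (κ k V) =
      (s.appLE ⊤ (f ⁻¹ᵁ V) le_top).hom.comp (Scheme.ΓSpecIso (CommRingCat.of k)).inv.hom :=
    RingHom.ext (app_κ s f hf V)
  rw [h1]
  have h2 := s.smooth_appLE (isAffineOpen_top _) (hV.preimage f) le_top
  exact (RingHom.FormallySmooth.of_bijective
    (ConcreteCategory.bijective_of_isIso (Scheme.ΓSpecIso (CommRingCat.of k)).inv)).comp
      h2.formallySmooth

open Polynomial in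
/-- **the chart lemma**: in characteristic two, if the sections over the preimage of a chart
`Spec k[t]` are `k[t] ⊕ k[t] y` with `y² = P(t)`, then `P'` is a nonzero constant. -/
theorem derivative_eq_C_chart [CharP k 2] (s : Z ⟶ Spec (CommRingCat.of k)) [Smooth s]
    (f : Z ⟶ PP k) [IsAffineHom f] (hf : f ≫ CohB1.ProjSpace.toSpec 1 k = s) (V : (PP k).Opens)
    (hV : IsAffineOpen V) (t : Γ(PP k, V))
    (hbij : Function.Bijective (Polynomial.eval₂RingHom (κ k V) t))
    (y : Γ(Z, f ⁻¹ᵁ V)) (P : k[X])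
    (hs : ∀ z : Γ(Z, f ⁻¹ᵁ V), ∃ a b : Γ(PP k, V), z = (f.app V).hom a + (f.app V).hom b * y)
    (hi : ∀ a b : Γ(PP k, V), (f.app V).hom a + (f.app V).hom b * y = 0 → a = 0 ∧ b = 0)
    (hrel : y ^ 2 = (f.app V).hom (Polynomial.eval₂RingHom (κ k V) t P)) :
    ∃ c : k, c ≠ 0 ∧ derivative P = C c := by
  letI : Algebra k Γ(Z, f ⁻¹ᵁ V) := ((f.app V).hom.comp (κ k V)).toAlgebra
  haveI : Algebra.FormallySmooth k Γ(Z, f ⁻¹ᵁ V) := formallySmooth_chart s f hf V hV
  let σ : k[X] →ₐ[k] Γ(Z, f ⁻¹ᵁ V) :=
    { toRingHom := (f.app V).hom.comp (Polynomial.eval₂RingHom (κ k V) t)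
      commutes' := fun c => by
        change (f.app V).hom (Polynomial.eval₂ (κ k V) t (C c)) = (f.app V).hom (κ k V c)
        rw [Polynomial.eval₂_C] }
  refine HypJac.derivative_eq_C_of_smooth σ y P ?_ ?_ hrel
  · intro z
    obtain ⟨a, b, hab⟩ := hs z
    obtain ⟨a', rfl⟩ := hbij.2 a
    obtain ⟨b', rfl⟩ := hbij.2 b
    exact ⟨a', b', hab⟩
  · intro a b hab
    obtain ⟨h1, h2⟩ := hi _ _ hab
    exact ⟨hbij.1 (h1.trans (map_zero _).symm), hbij.1 (h2.trans (map_zero _).symm)⟩

end Chart

section Main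

variable (k)

open Polynomial LaurentPolynomial in
/-- **a double cover of the projective line by a smooth proper integral curve of positive genus
with `h⁰(O) = 1` is generically separable.** -/
theorem isSeparable_of_degree_two (X : Scheme.{u}) [X.Over (Spec (CommRingCat.of k))]
    [IsProper (X ↘ Spec (CommRingCat.of k))] [Smooth (X ↘ Spec (CommRingCat.of k))]
    [IsIntegral X] (hdX : topologicalKrullDim X = 1)
    (hX0 : Module.finrank k (Coh.HH X (Coh.structureModule X) 0) = 1)
    (hg : 1 ≤ Curv2.genus k X)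
    (f : X ⟶ PP k) (hf : f ≫ CohB1.ProjSpace.toSpec 1 k = X ↘ Spec (CommRingCat.of k))
    [IsFinite f] (hdeg : f.residueDegree (genericPoint X) = 2) :
    letI := (f.residueFieldMap (genericPoint X)).hom.toAlgebra
    Algebra.IsSeparable ((PP k).residueField (f (genericPoint X)))
      (X.residueField (genericPoint X)) := by
  letI a6 : Algebra ((PP k).residueField (f (genericPoint X)))
      (X.residueField (genericPoint X)) := (f.residueFieldMap (genericPoint X)).hom.toAlgebra
  have hfin : Module.finrank ((PP k).residueField (f (genericPoint X)))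
      (X.residueField (genericPoint X)) = 2 := hdeg
  by_cases h2 : (2 : k) = 0
  swap
  · refine isSeparable_of_finrank_two hfin ?_
    let ι : k →+* (PP k).residueField (f (genericPoint X)) :=
      ((PP k).residue (f (genericPoint X))).hom.comp
        (((PP k).presheaf.germ ⊤ (f (genericPoint X)) trivial).hom.comp (κ k ⊤))
    have h3 : ι 2 = 2 := map_ofNat ι 2
    rw [← h3]
    exact (map_ne_zero ι).mpr h2
  haveI : CharP k 2 := CharTwo.of_one_ne_zero_of_two_eq_zero one_ne_zero h2
  haveI : IsIntegral (PP k) := inferInstanceAs (IsIntegral (P1 k))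
  have hgen : f (genericPoint X) = genericPoint (PP k) := by
    refine map_genericPoint_eq_of_isFinite f (by rw [hdX]) ?_
    have := Groth.Agent.H5.IntN.dim_projSpace k 1
    exact this.le
  haveI : Flat f := flat_of_dedekind_charts f hgen (exists_dedekind_chart k)
  have hrk : ∀ y, f.finrank y = 2 := fun y => by
    obtain ⟨V, hV, hy, hP⟩ := exists_pid_chart k y
    rw [finrank_eq_residueDegree f hgen V hV hP y hy, hdeg]
  obtain ⟨P, Q, P₁, Q₁, y₀, y₁, hr0, hr1, hP, hQ, hs0, hi0, hs1, hi1⟩ :=
    exists_equation_of_cover3 k hdX (Curv2.genus k X) rfl hX0 f hf hrk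
  by_cases hQ0 : Q = 0
  · exfalso
    subst hQ0
    have hQ1 : Q₁ = 0 := HypCore.eq_zero_of_reflect Q₁ (Curv2.genus k X + 1) hQ
    subst hQ1
    obtain ⟨c, hc, hPc⟩ := derivative_eq_C_chart (X ↘ Spec (CommRingCat.of k)) f hf (U0 k)
      (isAffineOpen_U0 k) (t0 k) ⟨φ0_injective k, φ0_surjective k⟩ y₀ P hs0 hi0 (by
        rw [hr0, map_zero, map_zero, zero_mul, add_zero]; rfl)
    obtain ⟨c₁, hc₁, hPc₁⟩ := derivative_eq_C_chart (X ↘ Spec (CommRingCat.of k)) f hf (U1 k)
      (isAffineOpen_U1 k) (t1 k) ⟨φ1_injective k, φ1_surjective k⟩ y₁ P₁ hs1 hi1 (by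
        rw [hr1, map_zero, map_zero, zero_mul, add_zero]; rfl)
    have h1 := coeff_one_of_derivative_eq_C P₁ c₁ hPc₁
    obtain ⟨-, hcP⟩ := HypCore.reflect_of_eq P P₁ (2 * (Curv2.genus k X + 1)) hP
    have h2' := hcP 1 (by omega)
    have h3 := coeff_eq_zero_of_derivative_eq_C P c hPc (Curv2.genus k X) hg
    have h4 : 2 * (Curv2.genus k X + 1) - 1 = 2 * Curv2.genus k X + 1 := by omega
    rw [h4, h3] at h2'
    exact hc₁ (h1.symm.trans h2')
  · -- the separable case
    have hη : f (genericPoint X) ∈ U0 k := by rw [hgen]; exact genericPoint_mem_U0 k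
    have hU0 : IsAffineOpen (U0 k) := isAffineOpen_U0 k
    haveI : Nonempty (f ⁻¹ᵁ U0 k) := ⟨⟨_, hη⟩⟩
    let gη : Γ(X, f ⁻¹ᵁ U0 k) →+* X.functionField :=
      (X.presheaf.germ (f ⁻¹ᵁ U0 k) (genericPoint X) hη).hom
    let σ : Γ(PP k, U0 k) →+* Γ(X, f ⁻¹ᵁ U0 k) := (f.app (U0 k)).hom
    let γ : Γ(PP k, U0 k) →+* (PP k).presheaf.stalk (f (genericPoint X)) :=
      ((PP k).presheaf.germ (U0 k) (f (genericPoint X)) hη).hom
    let sm : (PP k).presheaf.stalk (f (genericPoint X)) →+* X.functionField :=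
      (f.stalkMap (genericPoint X)).hom
    have hKf : IsField ((PP k).presheaf.stalk (f (genericPoint X))) :=
      isField_stalk_of_eq_genericPoint (f (genericPoint X)) hgen
    have hLf : IsField (X.presheaf.stalk (genericPoint X)) := Field.toIsField X.functionField
    letI : Field ((PP k).presheaf.stalk (f (genericPoint X))) := hKf.toField
    have hsm : ∀ a, sm (γ a) = gη (σ a) := fun a =>
      Scheme.Hom.germ_stalkMap_apply f (U0 k) (genericPoint X) hη a
    letI aKL : Algebra ((PP k).presheaf.stalk (f (genericPoint X))) X.functionField :=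
      sm.toAlgebra
    have hL : ∀ z : X.functionField, ∃ a b : Γ(X, f ⁻¹ᵁ U0 k), gη b ≠ 0 ∧ z * gη b = gη a := by
      intro z
      haveI := functionField_isFractionRing_of_isAffineOpen X (f ⁻¹ᵁ U0 k) (hU0.preimage f)
      obtain ⟨⟨a, b⟩, hab⟩ := IsLocalization.surj (nonZeroDivisors Γ(X, f ⁻¹ᵁ U0 k)) z
      refine ⟨a, b.1, ?_, hab⟩
      exact IsFractionRing.to_map_ne_zero_of_mem_nonZeroDivisors b.2
    have hq : γ (φ0 k Q) ≠ 0 := by
      intro h
      have hγ : Function.Injective γ :=
        germ_injective_of_isIntegral (PP k) (f (genericPoint X)) hη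
      exact hQ0 (φ0_injective k ((hγ (h.trans (map_zero γ).symm)).trans (map_zero _).symm))
    have hrelL : gη y₀ ^ 2 = sm (γ (φ0 k P)) + sm (γ (φ0 k Q)) * gη y₀ := by
      have := congrArg gη hr0
      rw [map_pow, map_add, map_mul] at this
      rw [hsm, hsm]
      exact this
    have h2K : (2 : (PP k).presheaf.stalk (f (genericPoint X))) = 0 := by
      have : (γ.comp (κ k (U0 k))) 2 = 2 := map_ofNat (γ.comp (κ k (U0 k))) 2
      rw [← this, h2, map_zero]
    have hsepF := separable_quadratic h2K (γ (φ0 k P)) (γ (φ0 k Q)) hq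
    have hroot : aeval (gη y₀) (Polynomial.X ^ 2 - Polynomial.C (γ (φ0 k Q)) * Polynomial.X -
        Polynomial.C (γ (φ0 k P)) :
        Polynomial ((PP k).presheaf.stalk (f (genericPoint X)))) = 0 := by
      rw [map_sub, map_sub, map_pow, map_mul, aeval_X, aeval_C, aeval_C, hrelL]
      change _ - sm _ * _ - sm _ = 0
      ring
    have hy : IsSeparable ((PP k).presheaf.stalk (f (genericPoint X))) (gη y₀) :=
      hsepF.of_dvd (minpoly.dvd _ _ hroot)
    have htop : separableClosure ((PP k).presheaf.stalk (f (genericPoint X))) X.functionField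
        = ⊤ := by
      rw [eq_top_iff]
      intro z _
      obtain ⟨a, b, hb, hab⟩ := hL z
      have hA : ∀ a : Γ(X, f ⁻¹ᵁ U0 k), gη a ∈
          separableClosure ((PP k).presheaf.stalk (f (genericPoint X))) X.functionField := by
        intro a
        obtain ⟨a₁, a₂, rfl⟩ := hs0 a
        rw [map_add, map_mul]
        change gη (σ a₁) + gη (σ a₂) * gη y₀ ∈ _
        rw [← hsm, ← hsm]
        exact add_mem (algebraMap_mem _ (γ a₁))
          (mul_mem (algebraMap_mem _ (γ a₂)) (mem_separableClosure_iff.mpr hy))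
      rw [eq_div_of_mul_eq hb hab]
      exact div_mem (hA a) (hA b)
    haveI : Algebra.IsSeparable ((PP k).presheaf.stalk (f (genericPoint X))) X.functionField :=
      (separableClosure.eq_top_iff _ _).mp htop
    let e1 : (PP k).presheaf.stalk (f (genericPoint X)) ≃+*
        (PP k).residueField (f (genericPoint X)) :=
      RingEquiv.ofBijective ((PP k).residue (f (genericPoint X))).hom
        (residue_bijective_of_isField _ hKf)
    let e2 : X.functionField ≃+* X.residueField (genericPoint X) :=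
      RingEquiv.ofBijective (X.residue (genericPoint X)).hom
        (residue_bijective_of_isField _ hLf)
    refine Algebra.IsSeparable.of_equiv_equiv e1 e2 ?_
    ext a
    change (f.residueFieldMap (genericPoint X)).hom ((PP k).residue (f (genericPoint X)) a) =
      (X.residue (genericPoint X)).hom ((f.stalkMap (genericPoint X)).hom a)
    have := Scheme.residue_residueFieldMap f (genericPoint X)
    exact congr($(this).hom a)

end Main

end Groth.Agent.H5.Gro.HypSep
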