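import Mathlib
import Groth.Agent.Lib.Helper5.Curve4.VB2
import Groth.Agent.Lib.Helper5.Curve4.VB1
import Groth.Agent.Lib.Helper5.VAmple.I
import Groth.Agent.Lib.Helper2.ProjUPK
import Groth.Agent.Lib.Lead.QC.SerreSupp
import Groth.Agent.Lib.Lead.QC.SpanEpi
import Groth.Prelude.Def_LinSer
import Groth.Prelude.Def_Twist2
import Groth.Prelude.Def_Omega3

/-!
# The morphism to projective space attached to a linear series on a regular curve.
-/

set_option autoImplicit false
set_option linter.style.haveILetI false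
universe u
open CategoryTheory CategoryTheory.Limits AlgebraicGeometry TopologicalSpace Opposite

namespace Groth.Agent.H5.Gro.LinSerMap

open Groth.Agent.LD Groth.Agent.LD.QC Groth.Agent.H5.Curve4 Groth.Agent.H2.PUP

section Sub


/-- **the invertible submodule generated by finitely many global sections** of an invertible
module on a regular proper integral curve. -/
theorem exists_sub_invertible (k : Type u) [Field k] (X : Scheme.{u})
    [X.Over (Spec (CommRingCat.of k))] [IsProper (X ↘ Spec (CommRingCat.of k))] [IsIntegral X]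
    (hreg : ∀ x : X, IsRegularLocalRing (X.presheaf.stalk x))
    (hdim : topologicalKrullDim X = 1) (L : X.Modules) (hL : PicF.IsInvertible L) {n : ℕ}
    (s : Fin n → Γ(L, ⊤)) (hs : ∃ i, s i ≠ 0) :
    ∃ (L' : X.Modules) (j : L' ⟶ L) (t : Fin n → ProjUP.Γm L'), PicF.IsInvertible L' ∧
      ProjUP.GeneratedBy L' t ∧ ∀ i, j.app ⊤ (t i) = s i := by
  haveI : IsNoetherian X := Groth.Agent.H5.Curve2.isNoetherian_of_proper k X
  haveI : Nonempty X := nonempty_of_dim_eq_one X hdim
  haveI hLq : L.IsQuasicoherent := qc_of_isInvertible L hL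
  have hL1 : FlatMod.IsFinLocFreeOfRank 1 L := (isInvertible_iff L).mp hL
  have hLc : Coh.IsCoh L := Curve.isCoh_of_rank hL1
  let σ : FlatMod.freeMod X n ⟶ L := homOfSections L s
  let L' : X.Modules := Abelian.image σ
  let j : L' ⟶ L := Abelian.image.ι σ
  let p : FlatMod.freeMod X n ⟶ L' := Abelian.factorThruImage σ
  have hpj : p ≫ j = σ := Abelian.image.fac σ
  haveI : Mono j := inferInstance
  haveI : Epi p := inferInstance
  have hL'q : L'.IsQuasicoherent :=
    qc_kernel _ hLq (qc_cokernel σ inferInstance hLq)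
  have hL'c : Coh.IsCoh L' := isCoh_of_mono j hL'q hLc
  have hL'f : FlatMod.IsFinLocFree L' :=
    isFinLocFree_of_mono_of_regular hreg hdim.le j hL'c (Curve.isFinLocFree_of_rank hL1)
  obtain ⟨a, ha⟩ := exists_rank hL'f
  have ha1 : a ≤ 1 := rank_le_of_mono X j a 1 ha hL1
  have ha0 : a ≠ 0 := by
    rintro rfl
    have hz : IsZero L' := isZero_of_rank_zero ha
    obtain ⟨i, hi⟩ := hs
    apply hi
    have h1 : Sigma.ι (fun _ : Fin n => unitMod X) i ≫ σ = homOfSection L (s i) := by
      simp only [σ, homOfSections]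
      exact Sigma.ι_desc _ _
    have h2 : σ = 0 := by rw [← hpj, hz.eq_of_tgt p 0, zero_comp]
    rw [h2, comp_zero] at h1
    rw [← sectionOfHom_homOfSection L (s i), ← h1, sectionOfHom_zero]
  have ha' : a = 1 := by omega
  subst ha'
  have hL'i : PicF.IsInvertible L' := (isInvertible_iff L').mpr ha
  refine ⟨L', j, fun i => sectionOfHom (Sigma.ι (fun _ : Fin n => unitMod X) i ≫ p), hL'i, ?_, ?_⟩
  · apply Groth.Agent.H5.VAmple.generatedBy_of_forall_mem_genLocus
    intro x
    obtain ⟨i, hi⟩ := exists_mem_genLocus_of_epi L' hL'i p inferInstance x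
    exact ⟨i, by rw [homOfSection_sectionOfHom]; exact hi⟩
  · intro i
    have h1 : Sigma.ι (fun _ : Fin n => unitMod X) i ≫ σ = homOfSection L (s i) := by
      simp only [σ, homOfSections]
      exact Sigma.ι_desc _ _
    have h2 := homOfSection_comp j (sectionOfHom (Sigma.ι (fun _ : Fin n => unitMod X) i ≫ p))
    rw [homOfSection_sectionOfHom, Category.assoc, hpj, h1] at h2
    have h3 := congrArg sectionOfHom h2
    rw [sectionOfHom_homOfSection, sectionOfHom_homOfSection] at h3
    exact h3.symm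

end Sub

section Main

/-- **S6578**. -/
theorem main (k : Type u) [Field k] (X : Scheme.{u}) [X.Over (Spec (CommRingCat.of k))]
    [IsIntegral X] [IsProper (X ↘ (Spec (CommRingCat.of k)))] (hdim : topologicalKrullDim X = 1)
    (hreg : ∀ x : X, IsRegularLocalRing (X.presheaf.stalk x))
    (d r : ℕ) (L : X.Modules) (s : Fin (r + 1) → LinSer.Sect X L)
    (hL : LinSer.IsLinSer k X L d r s) :
    ∃ (φ : X ⟶ CohB1.ProjSpace r k)
      (α : (Scheme.Modules.pullback φ).obj (Twist.twistProjSpace r k 1) ⟶ L),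
      φ ≫ CohB1.ProjSpace.toSpec r k = X ↘ (Spec (CommRingCat.of k)) ∧
        ∀ i : Fin (r + 1), (α.val.app (Opposite.op ⊤)).hom
          (OmegaSh.pullSect φ (Twist.twistProjSpace r k 1) ⊤
            (Twist.globalOf (CohB1.polyGrading r k)
              (⟨MvPolynomial.X i, MvPolynomial.isHomogeneous_X k i⟩ :
                (CohB1.polyGrading r k) 1))) = s i := by
  have hs0 : s 0 ≠ 0 := by
    intro hs0
    have := hL.2.2 (Pi.single 0 1) (by
      rw [Finset.sum_eq_single 0]
      · rw [hs0, smul_zero]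
      · intro b _ hb
        rw [Pi.single_eq_of_ne hb, map_zero, zero_smul]
      · intro h; exact absurd (Finset.mem_univ _) h)
    have h10 : (1 : k) = 0 := by simpa using congrFun this 0
    exact one_ne_zero h10
  obtain ⟨L', j, t, hL', ht, hjt⟩ :=
    exists_sub_invertible k X hreg hdim L hL.1 (n := r + 1) s ⟨0, hs0⟩
  obtain ⟨φ, hφ, τ, hτ⟩ := exists_hom_iso_Pn r (X ↘ Spec (CommRingCat.of k)) L' t hL' ht
  refine ⟨φ, τ.hom ≫ j, hφ, fun i => ?_⟩
  rw [← hjt i, ← hτ i]
  rfl

end Main

end Groth.Agent.H5.Gro.LinSerMap
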