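import Mathlib
import Groth.Agent.Lib.Helper5.Gro.HypSepB
import Groth.Agent.Lib.Helper5.Gro.HypFF
import Groth.Agent.Lib.Helper5.Gro.G1dB
import Groth.Agent.Lib.Helper5.Gro.LinSerMap
import Groth.Agent.Lib.Helper5.Gro.Hyp1
import Groth.Agent.Lib.Helper5.Curve6.Pencil
import Groth.Agent.Lib.Helper5.Eig.Genus1

/-!
# Hyperelliptic curves and invertible modules of degree two with two sections.
-/

set_option autoImplicit false
set_option linter.style.haveILetI false
universe u
open CategoryTheory CategoryTheory.Limits AlgebraicGeometry TopologicalSpace Opposite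

namespace Groth.Agent.H5.Gro.HypIff

open Groth.Agent.LD Groth.Agent.LD.QC Twist Groth.Agent.H5.Gro.P1C Groth.Agent.LD.TW
open Groth.Agent.LD.PN Groth.Agent.H5.Gro.HypDom Groth.Agent.H5.Gro.HypFF
open Groth.Agent.H5.DegC Groth.Agent.H5.Curve6 Groth.Agent.H5.Gro.G1d

variable (k : Type u) [Field k]

/-- a double cover of the line gives an invertible module of degree two with two sections. -/
theorem exists_invertible_of_cover (X : Scheme.{u}) [X.Over (Spec (CommRingCat.of k))]
    [IsProper (X ↘ Spec (CommRingCat.of k))] [Smooth (X ↘ Spec (CommRingCat.of k))]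
    [IsIntegral X] (hdX : topologicalKrullDim X = 1)
    (hX0 : Module.finrank k (Coh.HH X (Coh.structureModule X) 0) = 1)
    (hg : 1 ≤ Curv2.genus k X)
    (f₀ : X ⟶ CohB1.ProjSpace 1 k)
    (hf : f₀ ≫ CohB1.ProjSpace.toSpec 1 k = X ↘ Spec (CommRingCat.of k))
    (hfin : IsFinite f₀) (hdeg : f₀.residueDegree (genericPoint X) = 2) :
    ∃ L : X.Modules, PicF.IsInvertible L ∧ Curv2.deg k X L 1 = 2 ∧
      Module.finrank k (Coh.HH X L 0) = 2 := by
  let f : X ⟶ PP k := f₀
  haveI : IsFinite f := hfin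
  have hdeg' : f.residueDegree (genericPoint X) = 2 := hdeg
  haveI : IsIntegral (PP k) := inferInstanceAs (IsIntegral (P1 k))
  have hP1 : topologicalKrullDim (P1 k) = 1 := Groth.Agent.H5.IntN.dim_projSpace k 1
  have hgen : f (genericPoint X) = genericPoint (PP k) := by
    refine map_genericPoint_eq_of_isFinite f (by rw [hdX]) ?_
    exact hP1.le
  haveI : Flat f := flat_of_dedekind_charts f hgen (exists_dedekind_chart k)
  have hrk : ∀ y, f.finrank y = 2 := fun y => by
    obtain ⟨V, hV, hy, hP⟩ := exists_pid_chart k y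
    rw [finrank_eq_residueDegree f hgen V hV hP y hy, hdeg']
  have hf' : f ≫ CohB1.ProjSpace.toSpec 1 k = X ↘ Spec (CommRingCat.of k) := hf
  haveI : LocallyOfFiniteType (f ≫ CohB1.ProjSpace.toSpec 1 k) := by rw [hf']; infer_instance
  haveI : LocallyOfFiniteType f := locallyOfFiniteType_of_comp f (CohB1.ProjSpace.toSpec 1 k)
  haveI : IsNoetherian (P1 k) := Curve2.isNoetherian_of_proper k (P1 k)
  haveI : LocallyOfFinitePresentation f :=
    LocallyOfFinitePresentation.iff_locallyOfFiniteType.mpr inferInstance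
  let f' : X ⟶ P1 k := f
  haveI : IsFinite f' := ‹IsFinite f›
  haveI : Flat f' := ‹Flat f›
  haveI : LocallyOfFinitePresentation f' := ‹LocallyOfFinitePresentation f›
  refine ⟨(Scheme.Modules.pullback f').obj (O k 1), isInvertible_pullback f' (isInv_O k 1), ?_, ?_⟩
  · have h := deg_pullback_eq k hdX.le hP1 f' hf hgen 1 (O k 1) (rank_O k 1)
    rw [deg_twist_P1, mul_one] at h
    rw [h]
    exact_mod_cast hdeg'
  · have h := finrank_H0_pullback_twist k f' hf hrk hdX.le hX0 1
    rw [h]
    have h1 : ((1 : ℤ) + 1).toNat = 2 := rfl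
    have h2 : ((1 : ℤ) - (Curv2.genus k X : ℤ)).toNat = 0 := by
      rw [Int.toNat_eq_zero]
      have : (1 : ℤ) ≤ (Curv2.genus k X : ℤ) := by exact_mod_cast hg
      linarith
    rw [h1, h2]

/-- an invertible module of degree two with two sections on a curve of positive genus gives a
separable double cover of the line. -/
theorem exists_cover_of_invertible (X : Scheme.{u}) [X.Over (Spec (CommRingCat.of k))]
    [IsProper (X ↘ Spec (CommRingCat.of k))] [Smooth (X ↘ Spec (CommRingCat.of k))]
    [IsIntegral X] (hdX : topologicalKrullDim X = 1)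
    (hX0 : Module.finrank k (Coh.HH X (Coh.structureModule X) 0) = 1)
    (hg : 1 ≤ Curv2.genus k X)
    (L : X.Modules) (hL : PicF.IsInvertible L) (hdeg : Curv2.deg k X L 1 = 2)
    (hh0 : Module.finrank k (Coh.HH X L 0) = 2) :
    ∃ f : X ⟶ CohB1.ProjSpace 1 k,
      f ≫ CohB1.ProjSpace.toSpec 1 k = X ↘ (Spec (CommRingCat.of k)) ∧ IsFinite f ∧
        f.residueDegree (genericPoint X) = 2 ∧
        letI := (f.residueFieldMap (genericPoint X)).hom.toAlgebra
        Algebra.IsSeparable ((CohB1.ProjSpace 1 k).residueField (f (genericPoint X)))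
          (X.residueField (genericPoint X)) := by
  have hreg : ∀ x : X, IsRegularLocalRing (X.presheaf.stalk x) :=
    fun x => Groth.Agent.H5.Curve4.regular_stalks k X x
  have hgne : Curv2.genus k X ≠ 0 := by omega
  -- two independent sections
  letI := PF.moduleΓ k L
  let e := PF.H0LinearEquivΓ k L
  have hfr : Module.finrank k (LinSer.Sect X L) = 2 := by
    rw [← e.finrank_eq]; exact hh0
  haveI : Module.Finite k (LinSer.Sect X L) := Module.finite_of_finrank_pos (by rw [hfr]; norm_num)
  let b := Module.finBasisOfFinrankEq k (LinSer.Sect X L) hfr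
  let s : Fin (1 + 1) → LinSer.Sect X L := fun i => b i
  have hs : LinSer.LinIndep k X L s := by
    intro c hc
    have h1 := Fintype.linearIndependent_iff.mp b.linearIndependent c hc
    funext i
    exact h1 i
  have hLS : LinSer.IsLinSer k X L 2 1 s := ⟨hL, hdeg, hs⟩
  obtain ⟨φ, α, hφ, hα⟩ := Groth.Agent.H5.Gro.LinSerMap.main k X hdX hreg 2 1 L s hLS
  have hnc : ¬ ∃ p : CohB1.ProjSpace 1 k, IsClosed ({p} : Set (CohB1.ProjSpace 1 k)) ∧
      Set.range φ ⊆ {p} := by
    rcases Groth.Agent.H5.Gro.G1d.main k X hdX 2 L s hLS φ α ⟨hφ, hα⟩ with ⟨h1, -⟩ | ⟨-, h2⟩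
    · exact h1
    · exact absurd hX0 h2
  haveI : IsIntegral (CohB1.ProjSpace 1 k) := inferInstanceAs (IsIntegral (P1 k))
  have hξ : φ (genericPoint X) = genericPoint (CohB1.ProjSpace 1 k) :=
    map_genericPoint_of_nonconstant φ (dim_P1 k) hnc
  have hP1 : topologicalKrullDim (P1 k) = 1 := Groth.Agent.H5.IntN.dim_projSpace k 1
  let φ₁ : X ⟶ P1 k := φ
  have hfin : IsFinite φ₁ := isFinite_of_nonconstant k hdX.le hP1 φ₁ hφ hξ
  have hdegM := deg_pullback_eq k hdX.le hP1 φ₁ hφ hξ 1 (O k 1) (rank_O k 1)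
  rw [deg_twist_P1, mul_one] at hdegM
  have hinv : PicF.IsInvertible ((Scheme.Modules.pullback φ₁).obj (O k 1)) :=
    isInvertible_pullback φ₁ (isInv_O k 1)
  -- the pulled back coordinates are independent
  let t : Fin (1 + 1) → LinSer.Sect X ((Scheme.Modules.pullback φ₁).obj (O k 1)) := fun i =>
    OmegaSh.pullSect φ (Twist.twistProjSpace 1 k 1) ⊤
      (Twist.globalOf (CohB1.polyGrading 1 k)
        (⟨MvPolynomial.X i, MvPolynomial.isHomogeneous_X k i⟩ : (CohB1.polyGrading 1 k) 1))
  have ht : LinSer.LinIndep k X _ t := by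
    refine Groth.Agent.H5.Curve6.linIndep_of_app_top k α t ?_
    have : (fun i => α.app ⊤ (t i)) = s := funext hα
    rw [this]
    exact hs
  have hMc := Groth.Agent.H5.Curve2.isCoh_of_isInvertible hinv
  haveI : Module.Finite k (Coh.HH X ((Scheme.Modules.pullback φ₁).obj (O k 1)) 0) :=
    Curve.finite_HH k X _ hMc 0
  have h2le : 2 ≤ Module.finrank k (Coh.HH X ((Scheme.Modules.pullback φ₁).obj (O k 1)) 0) :=
    Groth.Agent.H5.Curve6.le_finrank_H0_of_linIndep k _ t ht
  -- the degree is at most two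
  have hα0 : α ≠ 0 := by
    rintro rfl
    have h0 : s 0 = 0 := by
      rw [← hα 0]
      rfl
    have := hs ![1, 0] (by
      rw [Fin.sum_univ_two]
      simp only [Matrix.cons_val_zero, Matrix.cons_val_one]
      rw [h0, smul_zero, map_zero, zero_smul, add_zero])
    have h10 : (1 : k) = 0 := by simpa using congrFun this 0
    exact one_ne_zero h10
  have hle := (Curve.deg_le_of_ne_zero k X hdX.le hinv hL α hα0).1
  rw [hdegM, hdeg] at hle
  have hle' : φ₁.residueDegree (genericPoint X) ≤ 2 := by exact_mod_cast hle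
  -- the degree is at least two
  have hge : 2 ≤ φ₁.residueDegree (genericPoint X) := by
    by_contra hcon
    have hlt : φ₁.residueDegree (genericPoint X) < 2 := not_le.mp hcon
    by_cases hpos : 0 < φ₁.residueDegree (genericPoint X)
    · have h3 := Groth.Agent.H5.Eig.finrank_H0_le_deg_of_genus_pos k X hdX.le hX0 hgne hinv
        (by rw [hdegM]; exact_mod_cast hpos)
      rw [hdegM] at h3
      have h4 : Module.finrank k (Coh.HH X ((Scheme.Modules.pullback φ₁).obj (O k 1)) 0) ≤
          φ₁.residueDegree (genericPoint X) := by exact_mod_cast h3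
      omega
    · have hz : φ₁.residueDegree (genericPoint X) = 0 := by omega
      have hnt : Nontrivial (Coh.HH X ((Scheme.Modules.pullback φ₁).obj (O k 1)) 0) :=
        Module.nontrivial_of_finrank_pos (R := k) (by omega)
      obtain ⟨σ, hσ⟩ := Groth.Agent.H5.Curve2.exists_section_ne_zero_of_nontrivial_H0 k X _ hnt
      have h3 := (Groth.Agent.H5.Curve2.finrank_H0_le_deg_add_one k X hdX.le hX0 hinv σ hσ).1
      rw [hdegM, hz] at h3
      have h4 : Module.finrank k (Coh.HH X ((Scheme.Modules.pullback φ₁).obj (O k 1)) 0) ≤ 1 := by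
        exact_mod_cast h3
      omega
  have hdeg2 : φ₁.residueDegree (genericPoint X) = 2 := le_antisymm hle' hge
  let φ₂ : X ⟶ PP k := φ
  haveI : IsFinite φ₂ := hfin
  refine ⟨φ, hφ, hfin, hdeg2, ?_⟩
  exact Groth.Agent.H5.Gro.HypSep.isSeparable_of_degree_two k X hdX hX0 hg φ₂ hφ hdeg2

end Groth.Agent.H5.Gro.HypIff
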