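import Mathlib
import Groth.Agent.Lib.Helper5.Gro.GroA
import Groth.Agent.Lib.Helper6.Cov1
import Groth.Agent.Lib.Helper6.Tr8
import Groth.Agent.Lib.Helper5.Curve3.SmInt
import Groth.Agent.Lib.Helper5.DegC.PullDeg
import Groth.Agent.Lib.Lead.QC.SerreSupp
import Groth.Agent.Lib.Lead.QC.EpiLocal

/-!
# The kernel of the trace of a double cover of the projective line.
-/

set_option autoImplicit false
set_option linter.style.haveILetI false
universe u
open CategoryTheory CategoryTheory.Limits AlgebraicGeometry TopologicalSpace Opposite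

namespace Groth.Agent.H5.Gro

open Groth.Agent.LD Groth.Agent.LD.QC Groth.Agent.H6.Tr Groth.Agent.H5.Curve2
  Groth.Agent.H5.Curve6 Groth.Agent.H5.DegC

section General

variable {X Y : Scheme.{u}} (h : X ⟶ Y) [IsFinite h] [Flat h] [LocallyOfFinitePresentation h]

/-- the trace of a finite locally free morphism of degree `d` is an epimorphism when `d` is
invertible on the base. -/
theorem epi_traceHom (d : ℕ) (hr : ∀ y : Y, h.finrank y = d)
    (τ : (Scheme.Modules.pushforward h).obj (Coh.structureModule X) ⟶ Coh.structureModule Y)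
    (hτ : FinCov.IsTraceHom h τ) (u : Γ(Y, ⊤)) (hu : (d : Γ(Y, ⊤)) * u = 1) : Epi τ := by
  have hM : FlatMod.IsFinLocFreeOfRank d
      ((Scheme.Modules.pushforward h).obj (Coh.structureModule X)) :=
    ((Groth.Agent.H6.Cov.s19692 h d).mp ⟨⟨inferInstance, inferInstance, inferInstance⟩, hr⟩).2
  haveI : (Coh.structureModule X).IsQuasicoherent := (PF.isCoh_unitMod X).1
  haveI := qc_pushforward h (Coh.structureModule X)
  apply epi_of_local_lift
  intro U t x hxU
  obtain ⟨V, hV, hxV, hVU, ⟨ℓ⟩⟩ := exists_affine_equiv_of_rank d _ hM U x hxU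
  refine ⟨V, hVU, hxV, ?_⟩
  letI : Algebra Γ(Y, V) Γ(X, h ⁻¹ᵁ V) := (h.app V).hom.toAlgebra
  let b : Module.Basis (Fin d) Γ(Y, V) Γ(X, h ⁻¹ᵁ V) := Module.Basis.ofEquivFun ℓ
  set tV : Γ(Y, V) := (Coh.structureModule Y).presheaf.map (homOfLE hVU).op t with htV
  have hdu : (d : Γ(Y, V)) * resTop u V = 1 := by
    unfold resTop
    rw [← map_natCast (Y.presheaf.map (homOfLE (le_top : V ≤ ⊤)).op).hom d, ← map_mul, hu,
      map_one]
  refine ⟨(h.app V).hom (resTop u V * tV), ?_⟩
  have h1 := hτ V hV (Module.Free.of_basis b) (Module.Finite.of_basis b)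
    ((h.app V).hom (resTop u V * tV))
  have h2 := Algebra.trace_algebraMap_of_basis b (resTop u V * tV)
  rw [Fintype.card_fin] at h2
  refine h1.trans (h2.trans ?_)
  rw [nsmul_eq_mul, ← mul_assoc, hdu, one_mul]

end General

variable (k : Type u) [Field k]

/-- **S19701**: the kernel of the trace of a double cover of the projective line by a smooth
proper connected curve of genus `g` has degree `-g-1`. -/
theorem deg_kernel_trace [IsAlgClosed k] (h2 : (2 : k) ≠ 0) (X : Scheme.{u})
    [X.Over (Spec (CommRingCat.of k))] [IsProper (X ↘ Spec (CommRingCat.of k))]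
    [Smooth (X ↘ Spec (CommRingCat.of k))] [ConnectedSpace X]
    (hX : topologicalKrullDim X = 1)
    (h : X ⟶ P1 k) (hh : h ≫ CohB1.ProjSpace.toSpec 1 k = X ↘ Spec (CommRingCat.of k))
    [IsFinite h] [Flat h] [LocallyOfFinitePresentation h]
    (hr : ∀ y : ↥(P1 k), h.finrank y = 2)
    (τ : (Scheme.Modules.pushforward h).obj (Coh.structureModule X) ⟶
      Coh.structureModule (P1 k)) (hτ : FinCov.IsTraceHom h τ) :
    Curv2.deg k (P1 k) (kernel τ) 1 = -((Curv2.genus k X : ℤ) + 1) := by
  haveI : h.IsOver (Spec (CommRingCat.of k)) := ⟨hh⟩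
  haveI : IsNoetherian (P1 k) := Curve2.isNoetherian_of_proper k (P1 k)
  have hM : FlatMod.IsFinLocFreeOfRank 2
      ((Scheme.Modules.pushforward h).obj (Coh.structureModule X)) :=
    ((Groth.Agent.H6.Cov.s19692 h 2).mp ⟨⟨inferInstance, inferInstance, inferInstance⟩, hr⟩).2
  haveI : (Coh.structureModule X).IsQuasicoherent := (PF.isCoh_unitMod X).1
  -- the trace is an epimorphism
  let u : Γ(P1 k, ⊤) := Coh.toGlobal (P1 k ↘ Spec (CommRingCat.of k)) (2⁻¹ : k)
  have hu : ((2 : ℕ) : Γ(P1 k, ⊤)) * u = 1 := by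
    have h3 := map_mul (Coh.toGlobal (P1 k ↘ Spec (CommRingCat.of k))) (2 : k) (2⁻¹ : k)
    rw [mul_inv_cancel₀ h2, map_one, map_ofNat] at h3
    rw [Nat.cast_ofNat]
    exact h3.symm
  haveI : Epi τ := epi_traceHom h 2 hr τ hτ u hu
  -- the short exact sequence
  let S : ShortComplex (P1 k).Modules := ShortComplex.mk (kernel.ι τ) τ (kernel.condition τ)
  have hS : S.ShortExact :=
    { exact := ShortComplex.exact_of_f_is_kernel _ (kernelIsKernel τ)
      mono_f := inferInstanceAs (Mono (kernel.ι τ))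
      epi_g := inferInstanceAs (Epi τ) }
  have hMc : Coh.IsCoh ((Scheme.Modules.pushforward h).obj (Coh.structureModule X)) :=
    Curve.isCoh_of_rank hM
  have hOc : Coh.IsCoh (Coh.structureModule (P1 k)) := PF.isCoh_unitMod (P1 k)
  have hKc : Coh.IsCoh (kernel τ) := isCoh_kernel τ hMc hOc
  have hadd := Curve.euler_add k (P1 k) S hS hKc hMc hOc
  change Curv2.euler k (P1 k) ((Scheme.Modules.pushforward h).obj (Coh.structureModule X)) =
      Curv2.euler k (P1 k) (kernel τ) +
    Curv2.euler k (P1 k) (Coh.structureModule (P1 k)) at hadd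
  -- `χ(h_* O_X) = χ(O_X) = 1 - g`
  have hpush : Curv2.euler k (P1 k) ((Scheme.Modules.pushforward h).obj (Coh.structureModule X))
      = Curv2.euler k X (Coh.structureModule X) :=
    euler_push_of_isAffineHom k h (Coh.structureModule X)
  haveI : IsIntegral X :=
    Groth.Agent.H5.Curve3.isIntegral_of_smooth_connected k (X ↘ Spec (CommRingCat.of k))
  have h0 := Groth.Agent.H5.Curve3.finrank_HH0_eq_one_of_isAlgClosed k X
  have hχX := Curve.euler_eq_sub k X hX.le (Coh.structureModule X)
  have hχP : Curv2.euler k (P1 k) (Coh.structureModule (P1 k)) = 1 := euler_unit k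
  unfold Curv2.deg
  rw [hχP]
  rw [hpush, hχX, h0, hχP] at hadd
  unfold Curv2.genus
  push_cast at hadd ⊢
  linarith

end Groth.Agent.H5.Gro
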