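import Mathlib
import Groth.Agent.Lib.Helper5.Curve3.LocEq
import Groth.Agent.Lib.Helper1.SmoothCurve

/-!
# Uniformizers at closed points of regular curves, spread out to an affine neighbourhood.
-/

set_option autoImplicit false
universe u
open CategoryTheory CategoryTheory.Limits AlgebraicGeometry TopologicalSpace Opposite

namespace Groth.Agent.H5.Gro.PtUnif

section Alg

/-- if the maximal ideal of the localization at a prime `P` of a Noetherian ring is principal,
then `P` becomes principal after inverting one element outside `P`: there are `h ∉ P`, `a ∈ P` with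
`h P ⊆ (a)`. -/
theorem exists_uniform_mul {B : Type*} [CommRing B] [IsNoetherianRing B] (P : Ideal B) [P.IsPrime]
    (R : Type*) [CommRing R] [IsLocalRing R] [Algebra B R] [IsLocalization.AtPrime R P]
    (ϖ : R) (hϖ : IsLocalRing.maximalIdeal R = Ideal.span {ϖ}) :
    ∃ h ∉ P, ∃ a ∈ P, (∃ u : R, IsUnit u ∧ algebraMap B R a = ϖ * u) ∧
      ∀ g ∈ P, ∃ b, h * g = b * a := by
  classical
  obtain ⟨⟨a₀, s₀⟩, h0⟩ := IsLocalization.surj P.primeCompl ϖ
  have h0' : ϖ * algebraMap B R s₀ = algebraMap B R a₀ := h0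
  have hmem : ∀ x : B, algebraMap B R x ∈ IsLocalRing.maximalIdeal R ↔ x ∈ P := fun x =>
    IsLocalization.AtPrime.to_map_mem_maximal_iff R P x ‹_›
  have ha₀ : a₀ ∈ P := by
    rw [← hmem, ← h0']
    exact Ideal.mul_mem_right _ _ (hϖ ▸ Ideal.mem_span_singleton_self ϖ)
  have key : ∀ g ∈ P, ∃ h ∉ P, ∃ b, h * g = b * a₀ := by
    intro g hg
    have h1 : algebraMap B R g ∈ Ideal.span {ϖ} := by rw [← hϖ]; exact (hmem g).mpr hg
    obtain ⟨c, hc⟩ := Ideal.mem_span_singleton'.mp h1
    obtain ⟨⟨c₀, t₀⟩, h2⟩ := IsLocalization.surj P.primeCompl c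
    have h2' : c * algebraMap B R t₀ = algebraMap B R c₀ := h2
    have h3 : algebraMap B R ((t₀ : B) * s₀ * g) = algebraMap B R (c₀ * a₀) := by
      simp only [map_mul]
      rw [← hc, ← h2', ← h0']
      ring
    obtain ⟨u, hu⟩ := (IsLocalization.eq_iff_exists P.primeCompl R).mp h3
    refine ⟨u * (t₀ * s₀), ?_, u * c₀, ?_⟩
    · exact (u * (t₀ * s₀) : P.primeCompl).2
    · rw [mul_assoc, hu]; ring
  obtain ⟨T, hT⟩ := (isNoetherianRing_iff_ideal_fg B).mp ‹_› P
  choose! hh hhP bb hbb using key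
  have hTP : ∀ t ∈ T, t ∈ P := fun t ht => hT ▸ Ideal.subset_span ht
  refine ⟨∏ t ∈ T, hh t, ?_, a₀, ha₀,
    ⟨algebraMap B R s₀, IsLocalization.map_units R s₀, h0'.symm⟩, ?_⟩
  · intro hcon
    obtain ⟨t, ht, htP⟩ := (Ideal.IsPrime.prod_mem_iff (hp := ‹P.IsPrime›)).mp hcon
    exact hhP t (hTP t ht) htP
  · intro g hg
    rw [← hT] at hg
    induction hg using Submodule.span_induction with
    | mem x hx =>
      refine ⟨(∏ t ∈ T.erase x, hh t) * bb x, ?_⟩
      rw [← Finset.mul_prod_erase T hh hx, mul_assoc, mul_comm (∏ t ∈ T.erase x, hh t) x,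
        ← mul_assoc, hbb x (hTP x hx)]
      ring
    | zero => exact ⟨0, by simp⟩
    | add x y _ _ hx hy =>
      obtain ⟨b1, h1⟩ := hx
      obtain ⟨b2, h2⟩ := hy
      exact ⟨b1 + b2, by rw [mul_add, h1, h2]; ring⟩
    | smul r x _ hx =>
      obtain ⟨b, hb⟩ := hx
      exact ⟨r * b, by rw [smul_eq_mul, mul_left_comm, hb]; ring⟩

end Alg

section Sch

open Groth.Agent.H5.Curve3

variable {X : Scheme.{u}}

lemma mem_primeIdealOf_iff {V : X.Opens} (hV : IsAffineOpen V) (g : Γ(X, V)) (y : X)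
    (hy : y ∈ V) : g ∈ (hV.primeIdealOf ⟨y, hy⟩).asIdeal ↔ y ∉ X.basicOpen g := by
  rw [mem_basicOpen_iff_notMem_primeIdealOf hV g y hy, not_not]

/-- **spreading out a uniformizer**: if the maximal ideal of the local ring at `p` is principal,
then on a suitable affine open neighbourhood the prime ideal of `p` is principal. -/
theorem exists_affine_uniformizer [IsLocallyNoetherian X] (p : X) (ϖ : X.presheaf.stalk p)
    (hϖ : IsLocalRing.maximalIdeal (X.presheaf.stalk p) = Ideal.span {ϖ}) :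
    ∃ (V : X.Opens) (hV : IsAffineOpen V) (hpV : p ∈ V) (f : Γ(X, V)),
      (hV.primeIdealOf ⟨p, hpV⟩).asIdeal = Ideal.span {f} ∧ (ϖ ≠ 0 → f ≠ 0) := by
  obtain ⟨_, ⟨V', hV', rfl⟩, hpV', -⟩ :=
    X.isBasis_affineOpens.exists_subset_of_mem_open (Set.mem_univ p) isOpen_univ
  haveI : IsNoetherianRing Γ(X, V') := IsLocallyNoetherian.component_noetherian ⟨V', hV'⟩
  letI := TopCat.Presheaf.algebra_section_stalk X.presheaf ⟨p, hpV'⟩
  haveI := hV'.isLocalization_stalk ⟨p, hpV'⟩
  obtain ⟨h, hhP, a, haP, ⟨u, hu, hau⟩, hmul⟩ := exists_uniform_mul (hV'.primeIdealOf ⟨p, hpV'⟩).asIdeal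
    (X.presheaf.stalk p) ϖ hϖ
  have hle : X.basicOpen h ≤ V' := X.basicOpen_le h
  have hpV : p ∈ X.basicOpen h := by
    rw [mem_basicOpen_iff_notMem_primeIdealOf hV' h p hpV']
    exact hhP
  have hV : IsAffineOpen (X.basicOpen h) := hV'.basicOpen h
  let ρ : Γ(X, V') →+* Γ(X, X.basicOpen h) := (X.presheaf.map (homOfLE hle).op).hom
  have hρ : ∀ g : Γ(X, V'), X.basicOpen (ρ g) = X.basicOpen h ⊓ X.basicOpen g := fun g =>
    Scheme.basicOpen_res X g (homOfLE hle).op
  have hunit : IsUnit (ρ h) := X.toRingedSpace.isUnit_res_basicOpen h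
  refine ⟨X.basicOpen h, hV, hpV, ρ a, ?_, ?_⟩
  swap
  · intro hϖ0 hρa
    apply hϖ0
    have h1 : X.presheaf.germ V' p hpV' a = ϖ * u := hau
    have h2 : X.presheaf.germ V' p hpV' a = X.presheaf.germ (X.basicOpen h) p hpV (ρ a) :=
      (TopCat.Presheaf.germ_res_apply X.presheaf (homOfLE hle) p hpV a).symm
    rw [h2, hρa, map_zero] at h1
    exact (hu.mul_left_eq_zero).mp h1.symm
  apply le_antisymm
  · intro g' hg'
    rw [mem_primeIdealOf_iff hV g' p hpV] at hg'
    haveI := hV'.isLocalization_basicOpen h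
    obtain ⟨⟨g, ⟨_, n, rfl⟩⟩, hg⟩ := IsLocalization.surj (Submonoid.powers h) g'
    have hg2 : g' * ρ h ^ n = ρ g := by
      have := hg
      simp only [map_pow] at this
      exact this
    have hgP : g ∈ (hV'.primeIdealOf ⟨p, hpV'⟩).asIdeal := by
      rw [mem_primeIdealOf_iff hV' g p hpV']
      intro hpg
      apply hg'
      have h1 : p ∈ X.basicOpen (ρ g) := by rw [hρ]; exact ⟨hpV, hpg⟩
      rw [← hg2, Scheme.basicOpen_mul] at h1
      exact h1.1
    obtain ⟨b, hb⟩ := hmul g hgP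
    have hb' : ρ h * ρ g = ρ b * ρ a := by rw [← map_mul, hb, map_mul]
    obtain ⟨w, hw⟩ := hunit.exists_left_inv
    rw [Ideal.mem_span_singleton']
    refine ⟨w ^ (n + 1) * ρ b, ?_⟩
    have h3 : g' = w ^ (n + 1) * (ρ h * (g' * ρ h ^ n)) := by
      have : w ^ (n + 1) * ρ h ^ (n + 1) = 1 := by rw [← mul_pow, hw, one_pow]
      calc g' = (w ^ (n + 1) * ρ h ^ (n + 1)) * g' := by rw [this, one_mul]
        _ = w ^ (n + 1) * (ρ h * (g' * ρ h ^ n)) := by ring
    rw [h3, hg2, hb']
    ring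
  · rw [Ideal.span_singleton_le_iff_mem, mem_primeIdealOf_iff hV (ρ a) p hpV, hρ]
    intro hpa
    exact (mem_primeIdealOf_iff hV' a p hpV').mp haP hpa.2

/-- a regular closed point on an integral scheme of dimension one has a uniformizer. -/
theorem exists_uniformizer [IsIntegral X] [IsLocallyNoetherian X] (hdim : topologicalKrullDim X = 1) (x : X)
    (hx : IsClosed ({x} : Set X)) (hreg : IsRegularLocalRing (X.presheaf.stalk x)) :
    ∃ ϖ : X.presheaf.stalk x, ϖ ≠ 0 ∧
      IsLocalRing.maximalIdeal (X.presheaf.stalk x) = Ideal.span {ϖ} := by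
  have hle : ringKrullDim (X.presheaf.stalk x) ≤ 1 :=
    (Groth.Agent.H3.FibreDim.stalk_dim_le X x).trans hdim.le
  have hne : genericPoint X ≠ x := by
    intro h
    have huniv : (Set.univ : Set X) = {x} := by
      rw [← (show closure {genericPoint X} = Set.univ from genericPoint_spec X), h,
        hx.closure_eq]
    have hsub : Subsingleton X := by
      refine ⟨fun a b => ?_⟩
      have ha : a ∈ ({x} : Set X) := huniv ▸ Set.mem_univ a
      have hb : b ∈ ({x} : Set X) := huniv ▸ Set.mem_univ b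
      rw [Set.mem_singleton_iff.mp ha, Set.mem_singleton_iff.mp hb]
    have : Subsingleton (TopologicalSpace.IrreducibleCloseds X) := ⟨fun a b => by
      apply TopologicalSpace.IrreducibleCloseds.ext
      obtain ⟨p, hp⟩ := a.isIrreducible.nonempty
      obtain ⟨q, hq⟩ := b.isIrreducible.nonempty
      ext z
      constructor
      · intro _; rwa [Subsingleton.elim z q]
      · intro _; rwa [Subsingleton.elim z p]⟩
    have h0 : topologicalKrullDim X ≤ 0 := by
      unfold topologicalKrullDim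
      exact Order.krullDim_nonpos_of_subsingleton
    rw [hdim] at h0
    exact absurd h0 (by decide)
  have hlt := Groth.Agent.H1.DimFormula.ringKrullDim_stalk_lt_of_specializes
    ((genericPoint_spec X).specializes (Set.mem_univ x)) hne
  have hge : (1 : WithBot ℕ∞) ≤ ringKrullDim (X.presheaf.stalk x) := by
    have h0 : (0 : WithBot ℕ∞) ≤ ringKrullDim (X.presheaf.stalk (genericPoint X)) :=
      ringKrullDim_nonneg_of_nontrivial
    have hpos := lt_of_le_of_lt h0 hlt
    obtain ⟨n, hn⟩ : ∃ n : ℕ∞, ringKrullDim (X.presheaf.stalk x) = n := by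
      cases h : ringKrullDim (X.presheaf.stalk x) with
      | bot => rw [h] at hpos; exact absurd hpos (by simp)
      | coe n => exact ⟨n, rfl⟩
    rw [hn] at hpos ⊢
    have h1 : (1 : ℕ∞) ≤ n := Order.one_le_iff_pos.mpr (by exact_mod_cast hpos)
    exact_mod_cast h1
  have h1 : ringKrullDim (X.presheaf.stalk x) = 1 := le_antisymm hle hge
  have h2 := (IsRegularLocalRing.iff_finrank_cotangentSpace (R := X.presheaf.stalk x)).mp hreg
  rw [h1] at h2
  haveI : IsDiscreteValuationRing (X.presheaf.stalk x) :=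
    IsLocalRing.finrank_CotangentSpace_eq_one_iff.mp (by exact_mod_cast h2)
  obtain ⟨ϖ, hϖ⟩ := IsDiscreteValuationRing.exists_irreducible (X.presheaf.stalk x)
  exact ⟨ϖ, hϖ.ne_zero, hϖ.maximalIdeal_eq⟩

end Sch

end Groth.Agent.H5.Gro.PtUnif
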