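import Mathlib
import Groth.Agent.Lib.Helper5.Gro.PtUnif
import Groth.Agent.Lib.Helper5.Curve4.TwoCover2
import Groth.Agent.Lib.Helper5.Curve2.I
import Groth.Agent.Lib.Helper5.Curve2.E
import Groth.Agent.Lib.Helper5.Curve2.J
import Groth.Agent.Lib.Helper5.Curve2.F
import Groth.Agent.Lib.Helper5.Curve2.A
import Groth.Agent.Lib.Helper1.SchFibInj
import Groth.Agent.Lib.Lead.PF.ProjFinite

/-!
# The invertible module `O(p)` of a rational principal closed point has degree one.
-/

set_option autoImplicit false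
set_option linter.style.haveILetI false
universe u
open CategoryTheory CategoryTheory.Limits AlgebraicGeometry TopologicalSpace Opposite

namespace Groth.Agent.H5.Gro.PtDeg

open Groth.Agent.LD Groth.Agent.LD.QC Groth.Agent.H5.Glue Groth.Agent.H5.Curve3
  Groth.Agent.H5.Curve4 Groth.Agent.H5.Curve2 Groth.Agent.H5.Gro.PtUnif

variable (k : Type u) [Field k] (X : Scheme.{u}) [X.Over (Spec (CommRingCat.of k))]

/-- the structure map to the functions over an open. -/
noncomputable def κ (V : X.Opens) : k →+* Γ(X, V) :=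
  (X.presheaf.map (homOfLE (le_top : V ≤ ⊤)).op).hom.comp
    (Coh.toGlobal (X ↘ Spec (CommRingCat.of k)))

variable [IsProper (X ↘ Spec (CommRingCat.of k))] [IsIntegral X]

/-- **`O(p)` has degree one** for a closed point `p` with residue field `k` whose prime ideal on
an affine neighbourhood is principal. -/
theorem exists_invertible_deg_one (hdim : topologicalKrullDim X ≤ 1) (p : X)
    (hp : IsClosed ({p} : Set X)) (V : X.Opens) (hV : IsAffineOpen V) (hpV : p ∈ V) (f : Γ(X, V))
    (hf : (hV.primeIdealOf ⟨p, hpV⟩).asIdeal = Ideal.span {f}) (hf0 : f ≠ 0)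
    (hk : ∀ b : Γ(X, V), ∃ c : k, b - κ k X V c ∈ (hV.primeIdealOf ⟨p, hpV⟩).asIdeal) :
    ∃ L : X.Modules, PicF.IsInvertible L ∧ Curv2.deg k X L 1 = 1 := by
  classical
  let U₀ : X.Opens := ⟨{p}ᶜ, hp.isOpen_compl⟩
  have hcov : U₀ ⊔ V = ⊤ := by
    apply le_antisymm le_top
    intro y _
    by_cases hy : y = p
    · exact Or.inr (hy ▸ hpV)
    · exact Or.inl hy
  have hle : U₀ ⊓ V ≤ X.basicOpen f := by
    rintro y ⟨hy1, hy2⟩
    rw [mem_basicOpen_iff_notMem_primeIdealOf hV f y hy2]
    intro hfy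
    have hle : (hV.primeIdealOf ⟨p, hpV⟩).asIdeal ≤ (hV.primeIdealOf ⟨y, hy2⟩).asIdeal := by
      rw [hf, Ideal.span_singleton_le_iff_mem]; exact hfy
    have h1 : hV.primeIdealOf ⟨p, hpV⟩ ⤳ hV.primeIdealOf ⟨y, hy2⟩ :=
      (PrimeSpectrum.le_iff_specializes (R := Γ(X, V)) _ _).mp hle
    have h2 := h1.map hV.fromSpec.continuous
    rw [hV.fromSpec_primeIdealOf, hV.fromSpec_primeIdealOf] at h2
    have h3 : y ∈ closure ({p} : Set X) := specializes_iff_mem_closure.mp h2
    rw [hp.closure_eq] at h3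
    exact hy1 h3
  obtain ⟨L, s, hL, hU₀, e, he, hse⟩ := exists_invertible_of_two_cover' U₀ V hcov f
    (isUnit_res_of_le_basicOpen f inf_le_right hle)
  have hs : s ≠ 0 := by
    rintro rfl
    apply hf0
    apply he.coord_injective
    rw [← hse, zero_smul]
    rfl
  have hpgen : p ∉ CohB1.genLocus L s := by
    intro hpg
    have h1 : p ∈ CohB1.genLocus L s ⊓ V := ⟨hpg, hpV⟩
    rw [genLocus_inf_eq_basicOpen s he f hse,
      mem_basicOpen_iff_notMem_primeIdealOf hV f p hpV, hf] at h1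
    exact h1 (Ideal.mem_span_singleton_self f)
  have hpos := deg_pos_of_section k X hdim hL s hs p hpgen
  obtain ⟨-, hQc, -, hdeg⟩ := cokernel_section_facts k X hdim hL s hs
  refine ⟨L, hL, ?_⟩
  rw [← hdeg]
  rw [← hdeg] at hpos
  -- the cokernel
  haveI hLq : L.IsQuasicoherent := qc_of_isInvertible _ hL
  haveI hOq : (unitMod X).IsQuasicoherent := qc_of_isInvertible _ (isInvertible_unit X)
  have hsupp : SuppIn (cokernel s) ({p} : Set X) := fun x hx =>
    subsingleton_stalk_cokernel_of_locSurjAt s x (locSurjAt_section s x (hU₀ hx))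
  have hres := bijective_res_family (cokernel s) ({p} : Set X) hp hsupp (fun _ => V)
    (fun y => by rw [show y.1 = p from y.2]; exact hpV) (fun y y' _ => Subsingleton.elim _ _)
  have hinj : ∀ t t' : Γ(cokernel s, ⊤),
      mres (cokernel s) (le_top : V ≤ ⊤) t = mres (cokernel s) (le_top : V ≤ ⊤) t' → t = t' :=
    fun t t' h => hres.1 (funext fun _ => h)
  obtain ⟨hex, hsurj⟩ := Groth.Agent.H1.SchFlat.exact_app_cokernel hOq hLq s hV
  have hcoord : ∀ q : Γ(cokernel s, V), ∃ b : Γ(X, V), q = (cokernel.π s).app V (b • e) := by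
    intro q
    obtain ⟨x, hx⟩ := hsurj q
    obtain ⟨b, hb⟩ := he.exists_coord x
    exact ⟨b, by rw [← hb]; exact hx.symm⟩
  have hzero : ∀ b ∈ (hV.primeIdealOf ⟨p, hpV⟩).asIdeal, (cokernel.π s).app V (b • e) = 0 := by
    intro b hb
    rw [hf, Ideal.mem_span_singleton'] at hb
    obtain ⟨g, rfl⟩ := hb
    have h1 : (g * f) • e = s.app V g := by
      rw [unitHom_app L s V g, mul_smul, ← hse]
      rfl
    rw [h1]
    exact (hex (s.app V g)).mpr ⟨g, rfl⟩
  letI := PF.moduleΓ k (cokernel s)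
  let e0 := PF.H0LinearEquivΓ k (cokernel s)
  rw [e0.finrank_eq] at hpos ⊢
  haveI hnt : Nontrivial (LinSer.Sect X (cokernel s)) :=
    Module.nontrivial_of_finrank_pos (R := k) (by exact_mod_cast hpos)
  obtain ⟨t, ht⟩ := exists_ne (0 : LinSer.Sect X (cokernel s))
  have hsm : ∀ (c : k) (t : LinSer.Sect X (cokernel s)), mres (cokernel s) (le_top : V ≤ ⊤) (c • t) =
      κ k X V c • mres (cokernel s) (le_top : V ≤ ⊤) t := fun c t =>
    mres_smul (cokernel s) (le_top : V ≤ ⊤) _ t
  have hone : Module.finrank k (LinSer.Sect X (cokernel s)) = 1 := by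
    rw [finrank_eq_one_iff_of_nonzero' t ht]
    intro t'
    obtain ⟨b, hb⟩ := hcoord (mres (cokernel s) (le_top : V ≤ ⊤) t)
    obtain ⟨b', hb'⟩ := hcoord (mres (cokernel s) (le_top : V ≤ ⊤) t')
    have hbP : b ∉ (hV.primeIdealOf ⟨p, hpV⟩).asIdeal := by
      intro hbP
      apply ht
      apply hinj
      rw [hb, hzero b hbP]
      exact (map_zero _).symm
    obtain ⟨c, hc⟩ := hk b
    obtain ⟨c', hc'⟩ := hk b'
    have hc0 : c ≠ 0 := by
      rintro rfl
      rw [map_zero, sub_zero] at hc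
      exact hbP hc
    refine ⟨c' / c, ?_⟩
    apply hinj
    rw [hsm, hb, hb', ← Scheme.Modules.Hom.app_smul, smul_smul]
    have hdiff : κ k X V (c' / c) * b - b' ∈ (hV.primeIdealOf ⟨p, hpV⟩).asIdeal := by
      have h1 : κ k X V (c' / c) * b - b' =
          κ k X V (c' / c) * (b - κ k X V c) - (b' - κ k X V c') := by
        have : κ k X V (c' / c) * κ k X V c = κ k X V c' := by
          rw [← map_mul, div_mul_cancel₀ _ hc0]
        rw [mul_sub, this]; ring
      rw [h1]
      exact Ideal.sub_mem _ (Ideal.mul_mem_left _ _ hc) hc'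
    have h2 := hzero _ hdiff
    rw [sub_smul, map_sub, sub_eq_zero] at h2
    exact h2
  exact_mod_cast hone

end Groth.Agent.H5.Gro.PtDeg
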