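import Mathlib
import Groth.Agent.Lib.Helper5.Gro.PtDeg
import Groth.Agent.Lib.Helper5.Gro.HypIff
import Groth.Agent.Lib.Helper5.Curve2.D

/-!
# An elliptic curve is hyperelliptic.
-/

set_option autoImplicit false
set_option linter.style.haveILetI false
universe u
open CategoryTheory CategoryTheory.Limits AlgebraicGeometry TopologicalSpace Opposite

namespace Groth.Agent.H5.Gro.EllHyp

open Groth.Agent.LD Groth.Agent.LD.QC Groth.Agent.H5.Curve3
  Groth.Agent.H5.Curve4 Groth.Agent.H5.Curve2 Groth.Agent.H5.Gro.PtUnif Groth.Agent.H5.Gro.PtDeg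

variable (k : Type u) [Field k] (X : Scheme.{u}) [X.Over (Spec (CommRingCat.of k))]

/-- a rational point gives a closed point at which every function on an affine neighbourhood is
congruent to a constant. -/
theorem rational_point_facts (σ : Spec (CommRingCat.of k) ⟶ X)
    (hσ : σ ≫ (X ↘ Spec (CommRingCat.of k)) = 𝟙 _) :
    ∃ p : X, IsClosed ({p} : Set X) ∧
      ∀ (V : X.Opens) (hV : IsAffineOpen V) (hpV : p ∈ V) (b : Γ(X, V)),
        ∃ c : k, b - κ k X V c ∈ (hV.primeIdealOf ⟨p, hpV⟩).asIdeal := by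
  haveI : Subsingleton ↥(Spec (CommRingCat.of k)) :=
    inferInstanceAs (Subsingleton (PrimeSpectrum k))
  haveI : IsClosedImmersion σ :=
    isClosedImmersion_of_comp_eq_id (X ↘ Spec (CommRingCat.of k)) σ hσ
  let z : ↥(Spec (CommRingCat.of k)) := (⊥ : PrimeSpectrum k)
  refine ⟨σ z, ?_, ?_⟩
  · have h1 : ({σ z} : Set X) = Set.range σ := by
      ext y
      constructor
      · rintro rfl; exact ⟨z, rfl⟩
      · rintro ⟨w, rfl⟩; rw [Subsingleton.elim w z]; rfl
    rw [h1]
    exact σ.isClosedEmbedding.isClosed_range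
  · intro V hV hpV b
    have hle : (⊤ : (Spec (CommRingCat.of k)).Opens) ≤ σ ⁻¹ᵁ V := by
      intro w _
      rw [Subsingleton.elim w z]
      exact hpV
    let ev : Γ(X, V) →+* k :=
      (Scheme.ΓSpecIso (CommRingCat.of k)).hom.hom.comp (σ.appLE V ⊤ hle).hom
    have hevκ : ∀ c : k, ev (κ k X V c) = c := by
      intro c
      have h1 : (σ.appLE V ⊤ hle).hom (κ k X V c) =
          (σ.appLE ⊤ ⊤ le_top).hom (Coh.toGlobal (X ↘ Spec (CommRingCat.of k)) c) := by
        have := Scheme.Hom.map_appLE σ (U := V) (U' := ⊤) (V := ⊤) hle (homOfLE le_top).op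
        exact congr($(this).hom (Coh.toGlobal (X ↘ Spec (CommRingCat.of k)) c))
      have h2 : (σ.appLE ⊤ ⊤ le_top).hom (Coh.toGlobal (X ↘ Spec (CommRingCat.of k)) c) =
          (Scheme.ΓSpecIso (CommRingCat.of k)).inv.hom c := by
        have h3 : σ.appLE ⊤ ⊤ le_top = σ.appTop := Scheme.Hom.appLE_eq_app σ
        rw [h3]
        change (σ.appTop).hom ((X ↘ Spec (CommRingCat.of k)).appTop.hom
          ((Scheme.ΓSpecIso (CommRingCat.of k)).inv.hom c)) = _
        have h4 : (X ↘ Spec (CommRingCat.of k)).appTop ≫ σ.appTop =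
            (σ ≫ (X ↘ Spec (CommRingCat.of k))).appTop := (Scheme.Hom.comp_appTop _ _).symm
        have h5 := congr($(h4).hom ((Scheme.ΓSpecIso (CommRingCat.of k)).inv.hom c))
        rw [hσ] at h5
        simpa using h5
      change (Scheme.ΓSpecIso (CommRingCat.of k)).hom.hom ((σ.appLE V ⊤ hle).hom (κ k X V c)) = c
      rw [h1, h2]
      exact congr($((Scheme.ΓSpecIso (CommRingCat.of k)).inv_hom_id).hom c)
    have hev0 : ∀ g : Γ(X, V), ev g = 0 → g ∈ (hV.primeIdealOf ⟨σ z, hpV⟩).asIdeal := by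
      intro g hg
      rw [mem_primeIdealOf_iff hV g (σ z) hpV]
      intro hzg
      have h0 : (σ.appLE V ⊤ hle).hom g = 0 := by
        have : (Scheme.ΓSpecIso (CommRingCat.of k)).hom.hom ((σ.appLE V ⊤ hle).hom g) = 0 := hg
        have h6 := congrArg (Scheme.ΓSpecIso (CommRingCat.of k)).inv.hom this
        rw [map_zero] at h6
        rw [← h6]
        exact congr($((Scheme.ΓSpecIso (CommRingCat.of k)).hom_inv_id).hom _).symm
      have h1 : z ∈ (Spec (CommRingCat.of k)).basicOpen ((σ.appLE V ⊤ hle).hom g) := by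
        rw [Scheme.Hom.appLE, CommRingCat.hom_comp, RingHom.comp_apply]
        erw [Scheme.basicOpen_res]
        refine ⟨trivial, ?_⟩
        rw [← Scheme.preimage_basicOpen]
        exact hzg
      rw [h0, Scheme.basicOpen_zero] at h1
      exact h1
    refine ⟨ev b, hev0 _ ?_⟩
    rw [map_sub, hevκ, sub_self]

variable [IsProper (X ↘ Spec (CommRingCat.of k))] [Smooth (X ↘ Spec (CommRingCat.of k))]
  [IsIntegral X]

/-- on a smooth proper curve of genus one with a rational point there is an invertible module of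
degree two with two sections. -/
theorem exists_invertible_deg_two (hdX : topologicalKrullDim X = 1)
    (hX0 : Module.finrank k (Coh.HH X (Coh.structureModule X) 0) = 1)
    (hg : Curv2.genus k X = 1)
    (σ : Spec (CommRingCat.of k) ⟶ X) (hσ : σ ≫ (X ↘ Spec (CommRingCat.of k)) = 𝟙 _) :
    ∃ L : X.Modules, PicF.IsInvertible L ∧ Curv2.deg k X L 1 = 2 ∧
      Module.finrank k (Coh.HH X L 0) = 2 := by
  haveI := Curve.isLocallyNoetherian k X
  obtain ⟨p, hp, hk⟩ := rational_point_facts k X σ hσ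
  have hreg : IsRegularLocalRing (X.presheaf.stalk p) := regular_stalks k X p
  obtain ⟨ϖ, hϖ0, hϖ⟩ := exists_uniformizer hdX p hp hreg
  obtain ⟨V, hV, hpV, f, hf, hf0⟩ := exists_affine_uniformizer p ϖ hϖ
  obtain ⟨L₁, hL₁, hdeg₁⟩ := exists_invertible_deg_one k X hdX.le p hp V hV hpV f hf (hf0 hϖ0)
    (hk V hV hpV)
  have hL : PicF.IsInvertible (CohB1.tensorMod L₁ L₁) := isInvertible_tensorMod hL₁ hL₁
  have hdeg : Curv2.deg k X (CohB1.tensorMod L₁ L₁) 1 = 2 := by
    rw [deg_tensor k X hdX.le hL₁ hL₁, hdeg₁]; rfl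
  refine ⟨_, hL, hdeg, ?_⟩
  haveI := Groth.Agent.H5.Eig.subsingleton_H1_of_genus_one k X hdX.le hX0 hg hL
    (by rw [hdeg]; norm_num)
  haveI : (CohB1.tensorMod L₁ L₁).IsQuasicoherent := qc_of_isInvertible _ hL
  haveI : (unitMod X).IsQuasicoherent := qc_of_isInvertible _ (isInvertible_unit X)
  have r1 := Curve.euler_eq_sub k X hdX.le (CohB1.tensorMod L₁ L₁)
  have r2 := Curve.euler_eq_sub k X hdX.le (unitMod X)
  have hO : Module.finrank k (Coh.HH X (unitMod X) 0) = 1 := hX0
  have hg' : Module.finrank k (Coh.HH X (unitMod X) 1) = 1 := hg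
  have d5 : Curv2.deg k X (CohB1.tensorMod L₁ L₁) 1 =
      Curv2.euler k X (CohB1.tensorMod L₁ L₁) - Curv2.euler k X (unitMod X) := by
    unfold Curv2.deg
    push_cast
    ring_nf
  have hz : Module.finrank k (Coh.HH X (CohB1.tensorMod L₁ L₁) 1) = 0 :=
    Module.finrank_zero_of_subsingleton
  rw [hO, hg'] at r2
  rw [hz] at r1
  have : (Module.finrank k (Coh.HH X (CohB1.tensorMod L₁ L₁) 0) : ℤ) = 2 := by
    push_cast at r1 r2
    linarith
  exact_mod_cast this

end Groth.Agent.H5.Gro.EllHyp
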